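import Cfsg.Agent.JankoFour.Involutions
import Cfsg.Agent.JankoFour.Classify

/-!
A subgroup containing the normaliser of the distinguished subgroup and the centraliser of the central involution is
the whole group.
-/

set_option autoImplicit false
set_option maxRecDepth 100000
set_option maxHeartbeats 1000000
set_option linter.style.haveILetI false
set_option linter.unusedSectionVars false

namespace Cfsg.Lib.JankoFour

open Subgroup
open Data (W0 X0 eTwo)

universe u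

variable {G : Type u} [Group G] [Finite G]

/-- Conjugacy by an element of a subgroup. -/
def InConj (L : Subgroup G) (a b : G) : Prop := ∃ x ∈ L, x * a * x⁻¹ = b

theorem InConj.trans {L : Subgroup G} {a b c : G} (h1 : InConj L a b) (h2 : InConj L b c) : InConj L a c := by
  obtain ⟨x, hx, rfl⟩ := h1
  obtain ⟨y, hy, rfl⟩ := h2
  exact ⟨y * x, mul_mem hy hx, by group⟩

namespace Ctx

variable {z : G} {P : Subgroup G} (C : Ctx z P)

include C

theorem E_to_V_H {f : G} (hf : f ∈ C.E) (hf2 : f * f = 1) :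
    ∃ v ∈ C.V, ∃ h ∈ centralizer ({z} : Set G), h * f * h⁻¹ = v := by
  by_cases h0 : C.π f = 0
  · rcases (C.π_zero f hf).mp h0 with e | e
    · exact ⟨1, one_mem _, 1, one_mem _, by rw [e]; group⟩
    · exact ⟨z, C.Wt_le_V C.z_mem_Wt, 1, one_mem _, by rw [e]; group⟩
  obtain ⟨c, hc, hp⟩ : ∃ c, cls (C.π f) = c ∧ (partW c).getD 0 0 ∈ partW c := by
    rcases cls_two (C.π f) with e | e
    exacts [⟨0, e, part_nonempty.1⟩, ⟨1, e, part_nonempty.2⟩]
  obtain ⟨h1, h2, h3⟩ := mem_partW.mp hp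
  obtain ⟨b, hb, hπb⟩ := C.π_surj _ (W0_spec h1).1
  obtain ⟨h, hh, e⟩ := C.conj_cls_H hf hb h0 (hπb ▸ h2) ((C.π_sq f hf).mp hf2) (hπb ▸ (W0_spec h1).2.1)
    (by rw [hc, hπb, h3])
  exact ⟨b, C.Wt_le_V ⟨hb, hπb ▸ h1⟩, h, hh, e⟩

theorem to_V_in [IsSimpleGroup G] (hG : ¬ IsMulCommutative G) {L : Subgroup G}
    (hN : normalizer (C.V : Set G) ≤ L) (hH : centralizer ({z} : Set G) ≤ L) {g : G} (hgL : g ∈ L)
    (hg2 : g * g = 1) : ∃ v ∈ C.V, InConj L g v := by
  classical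
  haveI : Fact (Nat.Prime 2) := ⟨Nat.prime_two⟩
  obtain ⟨T, hT⟩ := C.sylow
  have hSL : (T : Subgroup G) ≤ L := hT ▸ C.S_le_normalizer.trans hN
  obtain ⟨Q, hQ⟩ := (IsPGroup.of_card (p := 2) (n := if g = 1 then 0 else 1)
    (show Nat.card ↥(zpowers (⟨g, hgL⟩ : ↥L)) = _ by
      rw [Nat.card_zpowers, Subgroup.orderOf_mk]
      split
      · next e => rw [e, orderOf_one, pow_zero]
      · next e => rw [pow_one]; exact orderOf_eq_prime (by rw [pow_two, hg2]) e)).exists_le_sylow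
  obtain ⟨⟨x, hxL⟩, hx⟩ := MulAction.exists_smul_eq ↥L Q (T.subtype hSL)
  have hgS : x * g * x⁻¹ ∈ C.S := by
    rw [← hT]
    have h : (⟨x, hxL⟩ : ↥L) * ⟨g, hgL⟩ * (⟨x, hxL⟩ : ↥L)⁻¹ ∈ ((T.subtype hSL : Sylow 2 ↥L) : Subgroup ↥L) := by
      rw [← hx, Sylow.coe_subgroup_smul]
      exact ⟨⟨g, hgL⟩, hQ (mem_zpowers _), rfl⟩
    rw [Sylow.coe_subtype, mem_subgroupOf] at h
    exact h
  set g₁ := x * g * x⁻¹ with hg₁
  have hc₁ : InConj L g g₁ := ⟨x, hxL, rfl⟩
  have hg₁2 : g₁ * g₁ = 1 := by rw [hg₁, conj_mul, hg2]; group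
  by_cases hV : g₁ ∈ C.V
  · exact ⟨g₁, hV, hc₁⟩
  obtain ⟨k, hk, n, hn, e, he, hπ, hev⟩ := C.two_classes hG (C.S_le_normalizer hgS) hV (by rw [hg₁2]; exact one_mem _)
  obtain ⟨K, hKN, hKV, hsup, -⟩ := C.exists_complement hG
  have he2 : e * e = 1 := (C.π_sq e he).mpr (by
    rw [hπ, List.getD_eq_getElem _ _ (show n < eTwo.length by simpa [eTwo] using hn)]
    have h : ∀ y ∈ eTwo, qB y = false := by decide +kernel
    exact h _ (List.getElem_mem _))
  have heN := (C.M_normalizes (C.E_le_M he)).1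
  obtain ⟨v0, hv0, κ, hκ, hdec⟩ : ∃ v ∈ C.V, ∃ κ ∈ K, e = v * κ := by
    have he' : e ∈ ((C.V ⊔ K : Subgroup G) : Set G) := by rw [sup_comm, hsup]; exact heN
    rw [coe_mul_of_right_le_normalizer_left C.V K hKN] at he'
    obtain ⟨v, hv, κ, hκ, e'⟩ := Set.mem_mul.mp he'
    exact ⟨v, hv, κ, hκ, e'.symm⟩
  have hκN := hKN hκ
  have hκE : κ ∈ C.E := C.complement_E hKN hKV hsup hκ he (by
    rw [hdec, show (v0 * κ)⁻¹ * κ = κ⁻¹ * v0⁻¹ * κ⁻¹⁻¹ by group]
    exact (mem_normalizer_iff.mp (inv_mem hκN) _).mp (inv_mem hv0))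
  have hκv : κ = v0 * e := by rw [hdec, ← mul_assoc, C.V_sq hv0, one_mul]
  have hκ2 : κ * κ = 1 := by
    refine mem_bot.mp (hKV ▸ mem_inf.mpr ⟨mul_mem hκ hκ, ?_⟩)
    rw [show κ * κ = v0 * (e * v0 * e⁻¹) * (e * e) by rw [hκv]; group, he2, mul_one]
    exact mul_mem hv0 ((mem_normalizer_iff.mp heN v0).mp hv0)
  have hconjV : ∀ u ∈ C.V, κ * u * κ⁻¹ = e * u * e⁻¹ := fun u hu => by
    rw [hκv, show v0 * e * u * (v0 * e)⁻¹ = v0 * (e * u * e⁻¹) * v0⁻¹ by group,
      (C.V_comm hv0 ((mem_normalizer_iff.mp heN u).mp hu)).eq, mul_inv_cancel_right]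
  set g₂ := k * g₁ * k⁻¹ with hg₂
  have hc₂ : InConj L g g₂ := hc₁.trans ⟨k, hN hk, rfl⟩
  obtain ⟨v, hv, hgv⟩ : ∃ v ∈ C.V, g₂ = κ * v := by
    refine ⟨κ⁻¹ * g₂, ?_, (mul_inv_cancel_left κ g₂).symm⟩
    rw [show κ⁻¹ * g₂ = (κ⁻¹ * v0 * κ⁻¹⁻¹) * (e⁻¹ * g₂) by rw [hdec]; group]
    exact mul_mem ((mem_normalizer_iff.mp (inv_mem hκN) v0).mp hv0) hev
  have hκi : κ⁻¹ = κ := inv_eq_of_mul_eq_one_right hκ2
  have hκfix : κ * v * κ⁻¹ = v := by
    have h2 : κ * v * (κ * v) = 1 := by rw [← hgv, hg₂, conj_mul, hg₁2]; group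
    calc κ * v * κ⁻¹ = κ * v * κ := by rw [hκi]
      _ = (κ * v * (κ * v)) * v⁻¹ := by group
      _ = v := by rw [h2, one_mul, inv_eq_of_mul_eq_one_right (C.V_sq hv)]
  have hfromE : ∀ f ∈ C.E, f * f = 1 → InConj L g f → ∃ v ∈ C.V, InConj L g v := fun f hf hf2 hc => by
    obtain ⟨w, hw, h, hh, hfw⟩ := C.E_to_V_H hf hf2
    exact ⟨w, hw, hc.trans ⟨h, hH hh, hfw⟩⟩
  have hg₂2 : g₂ * g₂ = 1 := by rw [hg₂, conj_mul, hg₁2]; group
  obtain ⟨hfc, hT10⟩ := fixed_counts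
  have hW : C.π e ∉ W0 := by
    have h := e_two
    simp only [Bool.and_eq_true, List.all_eq_true, decide_eq_true_eq, Bool.not_eq_true', beq_iff_eq,
      List.contains_eq_mem, decide_eq_false_iff_not] at h
    rw [hπ, List.getD_eq_getElem _ _ (show n < eTwo.length by simpa [eTwo] using hn)]
    exact (h.1.1.1 _ (List.getElem_mem _)).2
  set I := {x : G | ∃ u ∈ C.V, κ * u * κ⁻¹ * u = x} with hI
  have hIc : I.ncard = 2 * ((spanL X0.2).map fun i => xm (elt i) (eTwo.getD n 0)).dedup.length := by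
    have hlt : ∀ x ∈ (spanL X0.2).map fun i => xm (elt i) (C.π e), x < 4096 := by
      intro x hx
      obtain ⟨i, -, rfl⟩ := List.mem_map.mp hx
      exact Nat.xor_lt_two_pow (n := 12) (mv_lt (n := 12) (elt_lt i) _) (C.π_lt e)
    have hset : I = C.liftsOf ((spanL X0.2).map fun i => xm (elt i) (C.π e)) := by
      rw [← C.image_commutator he hW]
      ext x
      exact exists_congr fun u => and_congr_right fun hu => by rw [hconjV u hu]
    rw [hset, show C.liftsOf ((spanL X0.2).map fun i => xm (elt i) (C.π e)) =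
        C.liftsOf ((spanL X0.2).map fun i => xm (elt i) (C.π e)).dedup by ext; simp [liftsOf],
      C.lifts_ncard (List.nodup_dedup _) fun x hx => hlt x (List.mem_dedup.mp hx), hπ]
  have hfixlift : ∀ u ∈ C.liftsOf (W0.filter fun w => !pB (eTwo.getD n 0) w), u ∈ C.V ∧ κ * u * κ⁻¹ = u := by
    rintro u ⟨hu, hul⟩
    obtain ⟨hW0, hb⟩ := List.mem_filter.mp hul
    refine ⟨C.Wt_le_V ⟨hu, hW0⟩, ?_⟩
    rw [hconjV u (C.Wt_le_V ⟨hu, hW0⟩), C.conjB he hu, hπ]
    simp only [Bool.not_eq_true'] at hb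
    rw [hb, if_neg Bool.false_ne_true, one_mul]
  rcases (show n = 0 ∨ n = 1 by omega) with rfl | rfl
  · -- the class with fixed points
    have hI16 : I.ncard = 16 := by
      have h := e_two
      simp only [Bool.and_eq_true, beq_iff_eq] at h
      rw [hIc, h.1.1.2]
    have hT12 : 12 < {t : G | t ∈ (C.sextet hG).T ∧ κ * t * κ⁻¹ = t}.ncard := by
      have hsub : C.liftsOf ((partW 1).filter fun w => !pB (eTwo.getD 0 0) w) ⊆
          {t : G | t ∈ (C.sextet hG).T ∧ κ * t * κ⁻¹ = t} := by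
        rintro t ⟨ht, htl⟩
        obtain ⟨hp1, hb⟩ := List.mem_filter.mp htl
        have hm : t ∈ C.liftsOf (partW 1) := ⟨ht, hp1⟩
        exact ⟨⟨(C.lifts_A0 hm).1.1, (C.lifts_A0 hm).2.1, (C.inner_card hG).2.2 t hm⟩,
          (hfixlift t ⟨ht, List.mem_filter.mpr ⟨(mem_partW.mp hp1).1, hb⟩⟩).2⟩
      have := Set.ncard_le_ncard hsub (Set.toFinite _)
      rw [C.lifts_ncard ((partW_nodup 1).filter _)
        (fun x hx => (W0_spec (mem_partW.mp (List.mem_filter.mp hx).1).1).1), hT10] at this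
      omega
    have hκV : κ ∉ C.V := fun h => hW (by
      have : e ∈ C.V := by rw [hdec]; exact mul_mem hv0 h
      exact (C.mem_Wt_iff.mp ⟨this, he⟩).2)
    obtain ⟨w, hwZ, u, hu, hκw, hκP, hv1⟩ :=
      (C.sextet hG).fixed_cover hκN hκ2 hκV hI16 hT12 hv hκfix
    set v1 := κ * u * κ⁻¹ * u * v with hv1def
    have hc₃ : InConj L g (κ * v1) := hc₂.trans ⟨u, hN (le_normalizer hu), by
      rw [hgv, hv1def, inv_eq_of_mul_eq_one_right (C.V_sq hu)]
      have e1 : v * u = u * v := (C.V_comm hv hu).eq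
      calc u * (κ * v) * u = u * κ * (v * u) := by group
        _ = u * κ * (u * v) := by rw [e1]
        _ = (κ * κ) * (u * κ * (u * v)) := by rw [hκ2, one_mul]
        _ = κ * (κ * u * κ⁻¹ * u * v) := by rw [hκi]; group⟩
    obtain ⟨m, hm, hmw⟩ := C.fuse hwZ.1 hwZ.2
    let K' : Subgroup G := K.map (MulAut.conj m⁻¹).toMonoidHom
    have hmV : C.V.map (MulAut.conj m⁻¹).toMonoidHom = C.V :=
      eq_of_le_of_card_ge (by
        rintro _ ⟨y, hy, rfl⟩
        exact (mem_normalizer_iff.mp (inv_mem hm) y).mp hy)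
        (by rw [card_map_of_injective (MulAut.conj m⁻¹).injective])
    have hN' : (normalizer (C.V : Set G)).map (MulAut.conj m⁻¹).toMonoidHom = normalizer (C.V : Set G) := by
      rw [Subgroup.map_equiv_normalizer_eq, hmV]
    have hK'N : K' ≤ normalizer (C.V : Set G) := hN' ▸ map_mono hKN
    have hK'V : K' ⊓ C.V = ⊥ := by
      conv_lhs => rw [← hmV]
      rw [← Subgroup.map_inf _ _ _ (MulAut.conj m⁻¹).injective, hKV, Subgroup.map_bot]
    have hsup' : K' ⊔ C.V = normalizer (C.V : Set G) := by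
      conv_lhs => rw [← hmV]
      rw [← Subgroup.map_sup, hsup, hN']
    set κ' := m⁻¹ * κ * m⁻¹⁻¹ with hκ'
    have hκ'K : κ' ∈ K' := ⟨κ, hκ, rfl⟩
    have hκ'z : κ' ∈ centralizer ({z} : Set G) := by
      refine mem_centralizer_singleton_iff.mpr ?_
      have h := mul_inv_eq_iff_eq_mul.mp hκw
      rw [← hmw] at h
      calc κ' * z = m⁻¹ * (κ * (m * z * m⁻¹)) * m := by rw [hκ']; group
        _ = m⁻¹ * (m * z * m⁻¹ * κ) * m := by rw [h]
        _ = z * κ' := by rw [hκ']; group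
    have hfix' : ∀ t ∈ C.liftsOf (partW 1), κ' * t * κ'⁻¹ * t = 1 ∨ κ' * t * κ'⁻¹ * t = z := by
      intro t ht
      have htT : t ∈ (C.sextet hG).T := ⟨(C.lifts_A0 ht).1.1, (C.lifts_A0 ht).2.1, (C.inner_card hG).2.2 t ht⟩
      have hP : m * t * m⁻¹ ∈ (C.sextet hG).P w := by
        refine ⟨(C.sextet hG).conj_T hm htT, ?_⟩
        have := (C.sextet hG).conj_T hm ((C.sextet hG).inner_translate htT (C.lifts_A0 ht).1)
        rwa [← hmw, show m * t * m⁻¹ * (m * z * m⁻¹) = m * (t * z) * m⁻¹ by group]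
      have e1 : κ' * t * κ'⁻¹ * t = m⁻¹ * (κ * (m * t * m⁻¹) * κ⁻¹ * (m * t * m⁻¹)) * m := by rw [hκ']; group
      rcases hκP _ hP with r | r <;> rw [e1, r]
      · exact Or.inl (by group)
      · refine Or.inr ?_
        rw [← hmw]; group
    obtain ⟨f, hf, hfκ⟩ := C.fix_mem hκ'z (hK'N hκ'K) hfix'
    have hκ'E := C.complement_E hK'N hK'V hsup' hκ'K hf hfκ
    have hv1E : m⁻¹ * v1 * m⁻¹⁻¹ ∈ C.E := by
      rcases hv1 with r | r
      · rw [r]; simp [one_mem]
      · have h1 := (C.sextet hG).conj_T (inv_mem hm) r.1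
        have h2 := (C.sextet hG).conj_T (inv_mem hm) r.2
        rw [show m⁻¹ * (v1 * w) * m⁻¹⁻¹ = m⁻¹ * v1 * m⁻¹⁻¹ * z by rw [← hmw]; group] at h2
        exact (mem_inf.mp (((C.sextet hG).mem_P_z h1).mp h2)).2
    have hg₃ : InConj L g (κ' * (m⁻¹ * v1 * m⁻¹⁻¹)) :=
      hc₃.trans ⟨m⁻¹, hN (inv_mem hm), by rw [hκ']; group⟩
    refine hfromE _ (mul_mem hκ'E hv1E) ?_ hg₃
    obtain ⟨y, -, hy⟩ := hg₃
    rw [← hy, conj_mul, hg2]; group
  · -- the class without
    have hI32 : I.ncard = 32 := by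
      have h := e_two
      simp only [Bool.and_eq_true, beq_iff_eq] at h
      rw [hIc, h.1.2]
    let φ : ↥C.V →* ↥C.V :=
      { toFun := fun u => ⟨κ * u * κ⁻¹ * u, mul_mem ((mem_normalizer_iff.mp hκN _).mp u.2) u.2⟩
        map_one' := Subtype.ext (by simp)
        map_mul' := fun a b => Subtype.ext (by
          show κ * ((a : G) * b) * κ⁻¹ * ((a : G) * b) = κ * a * κ⁻¹ * a * (κ * b * κ⁻¹ * b)
          rw [show κ * ((a : G) * b) * κ⁻¹ * ((a : G) * b) = κ * a * κ⁻¹ * ((κ * b * κ⁻¹) * a) * b by group,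
            (C.V_comm ((mem_normalizer_iff.mp hκN _).mp b.2) a.2).eq]
          group) }
    have hr : Nat.card ↥φ.range = 32 := by
      rw [← hI32, ← Subgroup.card_map_of_injective (K := φ.range) C.V.subtype_injective, ← Nat.card_coe_set_eq]
      refine Nat.card_congr (Equiv.subtypeEquivRight fun x => ?_)
      exact ⟨by rintro ⟨_, ⟨u, rfl⟩, rfl⟩; exact ⟨u, u.2, rfl⟩, fun ⟨u, hu, e⟩ => ⟨_, ⟨⟨u, hu⟩, rfl⟩, e⟩⟩
    have hk := φ.ker.card_mul_index
    rw [index_ker, hr, C.V_spec.2.1] at hk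
    set L := C.liftsOf (W0.filter fun w => !pB (eTwo.getD 1 0) w) with hL
    have hLc : L.ncard = 64 := by
      rw [hL, C.lifts_ncard (W0_facts.2.1.filter _) (fun x hx => (W0_spec (List.mem_filter.mp hx).1).1), hfc.2]
    have hker : ∀ y : ↥C.V, y ∈ φ.ker ↔ κ * (y : G) * κ⁻¹ = y := fun y => by
      rw [MonoidHom.mem_ker]
      constructor
      · intro h
        have h' : κ * (y : G) * κ⁻¹ * y = 1 := congrArg Subtype.val h
        rw [eq_inv_of_mul_eq_one_left h', inv_eq_of_mul_eq_one_right (C.V_sq y.2)]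
      · intro h
        exact Subtype.ext (by show κ * (y : G) * κ⁻¹ * y = 1; rw [h, C.V_sq y.2])
    have hsub : L ⊆ (φ.ker.map C.V.subtype : Subgroup G) := fun y hy =>
      ⟨⟨y, (hfixlift y hy).1⟩, (hker _).mpr (hfixlift y hy).2, rfl⟩
    have he64 : L = (φ.ker.map C.V.subtype : Subgroup G) := by
      refine Set.eq_of_subset_of_ncard_le hsub ?_ (Set.toFinite _)
      rw [hLc, ← Nat.card_coe_set_eq, SetLike.coe_sort_coe, card_map_of_injective C.V.subtype_injective]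
      omega
    have hvL : v ∈ L := he64 ▸ ⟨⟨v, hv⟩, (hker _).mpr hκfix, rfl⟩
    exact hfromE _ (mul_mem hκE hvL.1) (hgv ▸ hg₂2) (hgv ▸ hc₂)

/-- The subgroup is the whole group. -/
theorem eq_top_of_le [IsSimpleGroup G] (hG : ¬ IsMulCommutative G) {L : Subgroup G}
    (hN : normalizer (C.V : Set G) ≤ L) (hH : centralizer ({z} : Set G) ≤ L) : L = ⊤ := by
  classical
  set D := C.sextet hG with hD
  have hgood : ∀ w ∈ L, w * w = 1 → w ≠ 1 → centralizer ({w} : Set G) ≤ L := by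
    intro w hw hw2 hw1 c hc
    obtain ⟨v, hv, x, hx, e⟩ := C.to_V_in hG hN hH hw hw2
    have hv1 : v ≠ 1 := fun h => hw1 (conj_eq_one_iff.mp (e.trans h))
    have hc' : x * c * x⁻¹ ∈ centralizer ({v} : Set G) := by
      rw [mem_centralizer_singleton_iff, ← e]
      calc x * c * x⁻¹ * (x * w * x⁻¹) = x * (c * w) * x⁻¹ := by group
        _ = x * (w * c) * x⁻¹ := by rw [mem_centralizer_singleton_iff.mp hc]
        _ = _ := by group
    have hcL : x * c * x⁻¹ ∈ L := by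
      by_cases hz : IsConj z v
      · obtain ⟨m, hm, hmv⟩ := C.fuse hv hz
        have h1 : m⁻¹ * (x * c * x⁻¹) * m ∈ centralizer ({z} : Set G) := by
          rw [mem_centralizer_singleton_iff]
          calc m⁻¹ * (x * c * x⁻¹) * m * z = m⁻¹ * (x * c * x⁻¹ * (m * z * m⁻¹)) * m := by group
            _ = m⁻¹ * (x * c * x⁻¹ * v) * m := by rw [hmv]
            _ = m⁻¹ * (v * (x * c * x⁻¹)) * m := by rw [mem_centralizer_singleton_iff.mp hc']
            _ = m⁻¹ * (m * z * m⁻¹ * (x * c * x⁻¹)) * m := by rw [hmv]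
            _ = _ := by group
        have h2 := mul_mem (mul_mem (hN hm) (hH h1)) (inv_mem (hN hm))
        rwa [show m * (m⁻¹ * (x * c * x⁻¹) * m) * m⁻¹ = x * c * x⁻¹ by group] at h2
      · exact hN (C.centralizer_T hG ⟨hv, hv1, hz⟩ hc')
    have h3 := mul_mem (mul_mem (inv_mem hx) hcL) hx
    rwa [show x⁻¹ * (x * c * x⁻¹) * x = c by group] at h3
  obtain ⟨u, hu⟩ := D.T_nonempty
  have hcover : ∀ t, IsConj u t → t ∈ L := by
    intro t hut
    obtain ⟨g, hg⟩ := isConj_iff.mp hut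
    have hzz : z * z = 1 := C.X.zz
    have ht2 : t * t = 1 := by rw [← hg, conj_mul, C.V_sq hu.1]; group
    have ht1 : t ≠ 1 := fun e => hu.2.1 (conj_eq_one_iff.mp (hg.trans e))
    have hnc : ¬ IsConj z t := fun h => hu.2.2 (h.trans hut.symm)
    have hz' : z⁻¹ = z := inv_eq_of_mul_eq_one_right hzz
    have ht' : t⁻¹ = t := inv_eq_of_mul_eq_one_right ht2
    set a := z * t with ha
    have hza : z * a * z⁻¹ = a⁻¹ := by
      rw [ha, mul_inv_rev, hz', ht', ← mul_assoc z z t, hzz, one_mul]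
    obtain ⟨n, hn | hn⟩ := Nat.even_or_odd' (orderOf a)
    · have hnpos : 0 < n := by have := orderOf_pos a; omega
      have hw1 : a ^ n ≠ 1 := fun e => by
        have := Nat.le_of_dvd hnpos (orderOf_dvd_of_pow_eq_one e)
        omega
      have hw2 : a ^ n * a ^ n = 1 := by rw [← pow_add, ← two_mul, ← hn, pow_orderOf_eq_one]
      have hwz : z * a ^ n * z⁻¹ = a ^ n := by
        rw [← conj_pow, hza, inv_pow, inv_eq_of_mul_eq_one_right hw2]
      have hwH : a ^ n ∈ centralizer ({z} : Set G) :=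
        mem_centralizer_singleton_iff.mpr (mul_inv_eq_iff_eq_mul.mp hwz).symm
      refine hgood _ (hH hwH) hw2 hw1 (mem_centralizer_singleton_iff.mpr ?_)
      have hta : t = z * a := by rw [ha, ← mul_assoc, hzz, one_mul]
      have h1 : Commute z (a ^ n) := mul_inv_eq_iff_eq_mul.mp hwz
      have h2 : Commute t (a ^ n) := by
        rw [hta]; exact h1.mul_left ((Commute.refl a).pow_right n)
      exact h2.eq
    · refine absurd ?_ hnc
      have hm : (a ^ n)⁻¹ * z = z * a ^ n := by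
        rw [← inv_pow, ← hza, conj_pow, inv_mul_cancel_right]
      have h1 : a ^ (2 * n + 1) = 1 := hn ▸ pow_orderOf_eq_one a
      refine isConj_iff.mpr ⟨z * (a ^ n)⁻¹, ?_⟩
      calc z * (a ^ n)⁻¹ * z * (z * (a ^ n)⁻¹)⁻¹ = z * ((a ^ n)⁻¹ * z) * a ^ n * z⁻¹ := by group
        _ = z * z * (a ^ n * a ^ n) * z⁻¹ := by rw [hm]; group
        _ = a⁻¹ * z⁻¹ := by
          rw [hzz, one_mul, ← pow_add, ← two_mul, eq_inv_of_mul_eq_one_left ((pow_succ a (2 * n)).symm.trans h1)]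
        _ = t := by rw [ha, mul_inv_rev, ht', hz', mul_assoc, hzz, mul_one]
  have hne : normalClosure ({u} : Set G) ≠ ⊥ := fun h => hu.2.1 (by
    have h1 := subset_normalClosure (s := ({u} : Set G)) (Set.mem_singleton u)
    rw [h] at h1
    exact mem_bot.mp h1)
  have htop := (IsSimpleGroup.eq_bot_or_eq_top_of_normal _ normalClosure_normal).resolve_left hne
  rw [eq_top_iff, ← htop, normalClosure, closure_le]
  intro t ht
  obtain ⟨u', hu', hconj⟩ := Group.mem_conjugatesOfSet_iff.mp ht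
  obtain rfl : u' = u := hu'
  exact hcover t hconj

end Ctx

end Cfsg.Lib.JankoFour
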