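import Cfsg.Agent.JankoFour.Unique.Relations
import Cfsg.Agent.JankoFour.Unique.Onto
import Cfsg.Prelude.Def_JankoFourType

/-!
A simple group of Janko-four type is the fourth Janko group.
-/

set_option autoImplicit false
set_option maxRecDepth 100000
set_option maxHeartbeats 1000000
set_option linter.style.haveILetI false
set_option linter.unusedSectionVars false

namespace Cfsg.Lib.JankoFour.Unique

open Cfsg Subgroup
open Cfsg.Lib.J4Cert (KJ jHom gt gx gy ge eBasis wordM invW MOK wExpr wP w2)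
open Cfsg.Lib.J4Pres (P im px py relExprs relExprs_one map_relExprs)
open Cfsg.Lib.CosetTable (wval)
open _root_.Cfsg.Lib.JankoFour.Unique.Data (kGens vRows tRow five)

theorem gel_rows {i : ℕ} (h6 : 6 ≤ i) (h17 : i < 17) :
    (vRows.getD (i - 6) []).length = 12 ∧ (∀ e ∈ vRows.getD (i - 6) [], e.1 < 4096) ∧
      ∀ j < 12, gel i * bG j * (gel i)⁻¹ = eEz ((vRows.getD (i - 6) []).getD j (0, false)) := by
  have hk : i - 6 < 11 := by omega
  have h := absConj_ok
  simp only [absConjOK, List.all_eq_true, List.mem_range, Bool.and_eq_true, decide_eq_true_eq] at h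
  obtain ⟨hlt, hconj⟩ := h (i - 6) hk
  refine ⟨(by decide +kernel : ∀ k < 11, (vRows.getD k []).length = 12) _ hk, hlt, fun j hj => ?_⟩
  rw [gel, if_neg (by omega), if_pos h17]
  exact conjRow_sound hconj (el_pow_mok hk) ((el_inv _).symm ▸ el_pow_mok hk) hj

universe u

variable {G : Type u} [Group G] [Finite G] {z : G} {P₀ : Subgroup G}

namespace Emb

variable {C : Ctx z P₀} (α : Emb C)

/-- The composite with the map from the group on two letters. -/
noncomputable def lowHom : P →* G := α.hom.comp (jHom.codRestrict KJ fun p => j_mem p)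

theorem lowHom_apply (p : P) : α.lowHom p = α.f (jHom p) := rfl

theorem f_jw (w : List ℕ) : α.f (jw w) = α.lowHom (wval im w) := rfl

end Emb

namespace Sect

variable {C : Ctx z P₀} {α : Emb C} (S : Sect α)

/-- The images of the generators. -/
noncomputable def genMap : Spor.J4.Gen → G
  | .x => α.f gx
  | .y => α.f gy
  | .t => S.T

variable [IsSimpleGroup G] (hG : ¬ IsMulCommutative G) (hR : α.Rl = idM)

include hG hR

theorem rels : ∀ r ∈ Spor.coxRelators Spor.J4.edges ∪ {r | r ∈ Spor.J4.extra}, FreeGroup.lift S.genMap r = 1 := by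
  rintro r (⟨x, hx, -⟩ | hr)
  · simp [Spor.coxNodes, Spor.J4.edges] at hx
  have hr : r ∈ Spor.J4.extra := hr
  set L := FreeGroup.lift S.genMap with hL
  have hx : L Spor.J4.x = α.lowHom px := by
    rw [hL, FreeGroup.lift_apply_of, genMap, Emb.lowHom_apply, J4Cert.jHom_px]
  have hy : L Spor.J4.y = α.lowHom py := by
    rw [hL, FreeGroup.lift_apply_of, genMap, Emb.lowHom_apply, J4Cert.jHom_py]
  have ht : L Spor.J4.t = S.T := by rw [hL, FreeGroup.lift_apply_of, genMap]
  have hsmall : ∀ q ∈ relExprs Spor.J4.x Spor.J4.y, L q = 1 := by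
    intro q hq
    have h1 : L q ∈ (relExprs Spor.J4.x Spor.J4.y).map L := List.mem_map_of_mem hq
    rw [map_relExprs, hx, hy, ← map_relExprs] at h1
    obtain ⟨p, hp, e⟩ := List.mem_map.mp h1
    rw [← e, relExprs_one p hp, _root_.map_one]
  have e0 : im 0 = px := rfl
  have e1 : im 1 = py := rfl
  have e2 : im 2 = py⁻¹ := rfl
  simp only [Spor.J4.extra, List.mem_cons, List.not_mem_nil, or_false] at hr
  rcases hr with rfl | rfl | rfl | rfl | rfl | rfl | rfl | rfl | rfl | rfl | rfl | rfl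
  iterate 7 exact hsmall _ (by simp [relExprs])
  · rw [_root_.map_pow, ht, pow_two, S.T_sq]
  · show L (Spor.J4.t⁻¹ * (wExpr Spor.J4.x Spor.J4.y)⁻¹ * Spor.J4.t * wExpr Spor.J4.x Spor.J4.y) = 1
    simp only [_root_.map_mul, _root_.map_inv, J4Cert.map_wExpr, ht, hx, hy]
    rw [← J4Cert.map_wExpr α.lowHom, ← wP, α.lowHom_apply, ← jw_aW]
    have h := (S.T_a hG hR).eq
    rw [mul_assoc (_ * _) S.T, h]
    group
  · simp only [_root_.map_mul, _root_.map_inv, ht, hx, α.lowHom_apply, J4Cert.jHom_px]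
    have h := (S.T_x hG hR).eq
    rw [mul_assoc (_ * _) S.T, h]
    group
  · have hg : α.f (jw fstW) = L (Spor.J4.y * Spor.J4.x * (Spor.J4.y⁻¹) * Spor.J4.x * Spor.J4.y * Spor.J4.x *
        (Spor.J4.y⁻¹) * Spor.J4.x) := by
      rw [α.f_jw]
      simp only [CosetTable.wval, fstW, List.map_cons, List.map_nil, List.prod_cons, List.prod_nil, e0, e1, e2,
        _root_.map_mul, _root_.map_inv, _root_.map_one, hx, hy]
      group
    have h := S.first_image hG hR
    rw [hg] at h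
    rw [_root_.map_pow, _root_.map_mul, _root_.map_mul, _root_.map_mul, _root_.map_inv, ht, hy, α.lowHom_apply,
      J4Cert.jHom_py]
    exact h
  · have hrot : α.f (jw rotW) = L ((Spor.J4.y * Spor.J4.x * Spor.J4.y * Spor.J4.x * Spor.J4.y * Spor.J4.x *
        Spor.J4.y) ^ 3) := by
      rw [α.f_jw]
      simp only [CosetTable.wval, rotW, List.replicate, List.flatten_cons, List.flatten_nil, List.cons_append,
        List.nil_append, List.map_cons, List.map_nil, List.prod_cons, List.prod_nil, e0, e1,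
        _root_.map_mul, _root_.map_pow, _root_.map_one, hx, hy, pow_succ, pow_zero]
      group
    have hcon : α.f (jw conW) = L ((Spor.J4.x * Spor.J4.y) ^ 3 * Spor.J4.y * (Spor.J4.x * Spor.J4.y) ^ 6 *
        Spor.J4.y) := by
      rw [α.f_jw]
      simp only [CosetTable.wval, conW, List.map_cons, List.map_nil, List.prod_cons, List.prod_nil, e0, e1,
        _root_.map_mul, _root_.map_pow, _root_.map_one, hx, hy, pow_succ, pow_zero]
      group
    have h := S.second_rel hG hR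
    rw [hrot, hcon] at h
    generalize ((Spor.J4.y * Spor.J4.x * Spor.J4.y * Spor.J4.x * Spor.J4.y * Spor.J4.x * Spor.J4.y) ^ 3) = a at h ⊢
    generalize ((Spor.J4.x * Spor.J4.y) ^ 3 * Spor.J4.y * (Spor.J4.x * Spor.J4.y) ^ 6 * Spor.J4.y) = b at h ⊢
    rw [_root_.map_pow, _root_.map_mul, _root_.map_mul, _root_.map_mul, _root_.map_mul, _root_.map_inv, ht]
    exact h

/-- The homomorphism from the presented group. -/
noncomputable def toG : Spor.J4 →* G := PresentedGroup.toGroup (f := S.genMap) (S.rels hG hR)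

theorem toG_gens : S.toG hG hR gx = α.f gx ∧ S.toG hG hR gy = α.f gy ∧ S.toG hG hR gt = S.T :=
  ⟨PresentedGroup.toGroup.of _, PresentedGroup.toGroup.of _, PresentedGroup.toGroup.of _⟩

theorem toG_KJ {x : Spor.J4} (hx : x ∈ KJ) : S.toG hG hR x = α.f x := by
  obtain ⟨hgx, hgy, hgt⟩ := S.toG_gens hG hR
  have hj : (S.toG hG hR).comp jHom = α.lowHom := MonoidHom.eq_of_eqOn_dense letters_top fun p hp => by
    rcases hp with rfl | rfl
    · rw [MonoidHom.comp_apply, α.lowHom_apply, J4Cert.jHom_px, hgx]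
    · rw [MonoidHom.comp_apply, α.lowHom_apply, J4Cert.jHom_py, hgy]
  have hjp : ∀ p, S.toG hG hR (jHom p) = α.f (jHom p) := fun p => DFunLike.congr_fun hj p
  have hge : S.toG hG hR ge = α.f ge := by
    rw [← S.ge_image hG hR, ge_eq, _root_.map_pow, _root_.map_mul, _root_.map_mul, _root_.map_mul, _root_.map_inv,
      hgt, hgy, show S.toG hG hR (jw w2) = α.f (jw w2) from hjp _]
  induction hx using Subgroup.closure_induction with
  | mem y hy => rcases hy with ⟨q, rfl⟩ | rfl <;> [exact hjp q; exact hge]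
  | one => rw [_root_.map_one, α.map_one]
  | mul a b ha hb iha ihb => rw [_root_.map_mul, iha, ihb, α.map_mul _ ha _ hb]
  | inv a ha iha => rw [_root_.map_inv, iha, α.map_inv ha]

theorem gel_rep {i : ℕ} (hi : i < 18) :
    S.toG hG hR (gel i) = S.ψ (gel i) ∧ RepBy C.E C.π (S.ψ (gel i)) (g12 i) := by
  have hX := S.gel_X hi
  have hH := S.H_mem _ hX
  by_cases h6 : i < 6
  · have hM : gel i ∈ M0 := by rw [gel, if_pos h6]; exact (gWord_spec h6).2
    refine ⟨(S.toG_KJ hG hR (mem_M0.mp hM).1).trans (S.M_eq _ hM).symm, ?_⟩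
    have hlt : ∀ g < 3, (Data.kRows.getD g []).length = 12 ∧ ∀ e ∈ Data.kRows.getD g [], e.1 < 4096 := by
      decide +kernel
    have hrep : ∀ g < 3, RepBy C.E C.π (α.f (jw (kGens.getD g []))) (kMat g) := fun g hg =>
      α.rep_of_rows hG hR (α.f_H (kGen_M0 hg)) (α.cj_M0 (kGen_M0 hg)) (hlt g hg).1 (kGen_spec hg).2.2 (hlt g hg).2
    rw [S.M_eq _ hM, gel, if_pos h6, gWord]
    by_cases h3 : i < 3
    · rw [g12, if_pos h3, if_pos h3]; exact hrep i h3
    · rw [g12, if_neg h3, if_pos h6, if_neg h3, jw_invW (kGen_spec (by omega)).1, α.map_inv (jw_mem _)]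
      set h := α.f (jw (kGens.getD (i - 3) [])) with hh
      have hhH : h ∈ centralizer ({z} : Set G) := α.f_H (kGen_M0 (by omega))
      have hok := local_ok
      simp only [localOK, Bool.and_eq_true, List.all_eq_true, List.mem_range, beq_iff_eq] at hok
      obtain ⟨⟨⟨⟨⟨⟨hinv, -⟩, -⟩, -⟩, -⟩, -⟩, -⟩ := hok
      intro q hq
      have hq' : h⁻¹ * q * h⁻¹⁻¹ ∈ C.E := C.conj_mem (inv_mem hhH) hq
      have e := hrep (i - 3) (by omega) _ hq'
      rw [← hh, show h * (h⁻¹ * q * h⁻¹⁻¹) * h⁻¹ = q by group] at e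
      rw [e, ← mv_mm, (hinv (i - 3) (by omega)).1, mv_idM (C.π_lt _)]
  by_cases h17 : i < 17
  · have hM : gel i ∈ M0 := by rw [gel, if_neg h6, if_pos h17]; exact el_M0 _
    refine ⟨(S.toG_KJ hG hR (mem_M0.mp hM).1).trans (S.M_eq _ hM).symm, ?_⟩
    obtain ⟨hl, hlt, hr⟩ := gel_rows (by omega) h17
    rw [g12, if_neg (by omega), if_neg h6, if_pos h17]
    exact α.rep_of_rows hG hR hH (S.cj _ hX) hl hr hlt
  · have hgel : gel i = gt := by rw [gel, if_neg h6, if_neg h17]
    rw [hgel, g12, if_neg (by omega), if_neg h6, if_neg h17]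
    refine ⟨(S.toG_gens hG hR).2.2, ?_⟩
    exact α.rep_of_rows hG hR (S.H_mem _ S.t_mem) (S.cj _ S.t_mem) (by decide +kernel)
      (fun j hj => t_row_spec hj) (by decide +kernel)

theorem gwl_rep : ∀ {w : List ℕ}, (∀ l ∈ w, l < 18) →
    S.toG hG hR (gwl w) = S.ψ (gwl w) ∧ RepBy C.E C.π (S.ψ (gwl w)) (gw12 w)
  | [], _ => by rw [gwl, _root_.map_one, S.ψ_one]; exact ⟨rfl, C.rep_one⟩
  | i :: w, h => by
    simp only [List.forall_mem_cons] at h
    obtain ⟨i1, i2⟩ := gwl_rep h.2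
    obtain ⟨g1, g2⟩ := S.gel_rep hG hR h.1
    rw [gwl, _root_.map_mul, S.map_mul _ (S.gel_X h.1) _ (S.gwl_X h.2), g1, i1]
    exact ⟨rfl, C.rep_mul (S.H_mem _ (S.gwl_X h.2)) g2 i2⟩

theorem toG_surjective : Function.Surjective (S.toG hG hR) := by
  rw [← MonoidHom.range_eq_top]
  refine C.eq_top_of_le hG (fun n hn => ?_) ?_
  · obtain ⟨x, hx, rfl⟩ := α.N_surj n hn
    exact ⟨x, S.toG_KJ hG hR hx⟩
  have hE : ∀ e ∈ C.E, e ∈ (S.toG hG hR).range := fun e he => by
    obtain ⟨q, hq, rfl⟩ := α.exists_E0 hG hR he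
    exact ⟨q, S.toG_KJ hG hR hq.1⟩
  have hfive : ∀ k < 5, ∀ g ∈ centralizer ({z} : Set G), RepBy C.E C.π g (gens5.getD k []) →
      g ∈ (S.toG hG hR).range := by
    intro k hk g hg hr
    have h := local_ok
    simp only [localOK, Bool.and_eq_true, List.all_eq_true, List.mem_range, decide_eq_true_eq, beq_iff_eq] at h
    obtain ⟨hw, he⟩ := h.2 k hk
    obtain ⟨e1, e2⟩ := S.gwl_rep hG hR hw
    rw [he] at e2
    set u := S.ψ (gwl (five.getD k []))
    have hu : u ∈ centralizer ({z} : Set G) := S.H_mem _ (S.gwl_X hw)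
    have hd : u⁻¹ * g ∈ C.E := by
      refine C.ker _ (mul_mem (inv_mem hu) hg) fun q hq => ?_
      have hq' : g * q * g⁻¹ ∈ C.E := C.conj_mem hg hq
      have hq'' : u⁻¹ * (g * q * g⁻¹) * u⁻¹⁻¹ ∈ C.E := C.conj_mem (inv_mem hu) hq'
      have h1 := e2 _ hq''
      rw [show u * (u⁻¹ * (g * q * g⁻¹) * u⁻¹⁻¹) * u⁻¹ = g * q * g⁻¹ by group, hr q hq] at h1
      rw [show u⁻¹ * g * q * (u⁻¹ * g)⁻¹ = u⁻¹ * (g * q * g⁻¹) * u⁻¹⁻¹ by group]
      -- the matrix is injective
      obtain ⟨x, hx, hxr⟩ := C.exists_word [k] (by simpa using hk)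
      have hinj : ∀ a ∈ C.E, ∀ b ∈ C.E, mv (gens5.getD k []) (C.π a) = mv (gens5.getD k []) (C.π b) →
          C.π a = C.π b := by
        intro a ha b hb hab
        rw [← hr a ha, ← hr b hb] at hab
        have h2 := π_conj_congr C (inv_mem hg) (C.conj_mem hg ha) (C.conj_mem hg hb) hab
        rwa [show g⁻¹ * (g * a * g⁻¹) * g⁻¹⁻¹ = a by group, show g⁻¹ * (g * b * g⁻¹) * g⁻¹⁻¹ = b by group] at h2
      exact hinj _ hq'' _ hq h1.symm
    have := mul_mem (⟨_, e1⟩ : u ∈ (S.toG hG hR).range) (hE _ hd)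
    rwa [mul_inv_cancel_left] at this
  intro h hh
  refine (sup_le (a := C.E) hE ((closure_le _).mpr ?_)) (C.gen hh)
  obtain ⟨ha, hb, hc, ht⟩ := C.memH
  intro g hg
  simp only [Set.mem_insert_iff, Set.mem_singleton_iff] at hg
  rcases hg with rfl | rfl | rfl | rfl | rfl
  · exact hfive 4 (by norm_num) _ C.pH C.rep_p
  · exact hfive 0 (by norm_num) _ ha C.rep_a
  · exact hfive 1 (by norm_num) _ hb C.rep_b
  · exact hfive 2 (by norm_num) _ hc C.rep_c
  · exact hfive 3 (by norm_num) _ ht C.rep_t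

theorem toG_bijective : Function.Bijective (S.toG hG hR) := by
  refine ⟨?_, S.toG_surjective hG hR⟩
  haveI := J4Cert.simple_J4
  rw [← MonoidHom.ker_eq_bot_iff]
  refine (MonoidHom.normal_ker _).eq_bot_or_eq_top.resolve_right fun h => ?_
  obtain ⟨a, b, hab⟩ := exists_pair_ne G
  obtain ⟨x, rfl⟩ := S.toG_surjective hG hR a
  obtain ⟨y, rfl⟩ := S.toG_surjective hG hR b
  refine hab ?_
  rw [MonoidHom.mem_ker.mp (h ▸ mem_top x), MonoidHom.mem_ker.mp (h ▸ mem_top y)]

end Sect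

/-- A simple group of Janko-four type is isomorphic to the fourth Janko group. -/
theorem iso_J4 {G : Type*} [Group G] [Finite G] [IsSimpleGroup G] (hG : ¬ IsMulCommutative G)
    (hJ : Cfsg.IsOfJankoFourType G) : Nonempty (G ≃* Spor.J4) := by
  obtain ⟨z, P₀, hJ'⟩ := hJ
  obtain ⟨C⟩ := exists_ctx hJ'
  obtain ⟨α₀⟩ := exists_emb C hG
  obtain ⟨α, hR⟩ := α₀.exists_frame hG
  obtain ⟨S⟩ := α.exists_sect hG hR
  exact ⟨(MulEquiv.ofBijective _ (S.toG_bijective hG hR)).symm⟩

end Cfsg.Lib.JankoFour.Unique
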