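import Cfsg.Agent.JankoFour.Unique.AgreePowChecks

/-!
The finite conditions on the matrices of the agreements hold.  Each index is checked separately, to bound the memory
of each check.
-/

set_option autoImplicit false
set_option maxRecDepth 100000
set_option Elab.async false

namespace Cfsg.Lib.JankoFour.Unique

theorem agMem_ok0 : agMemOK 0 = true := by decide +kernel

theorem agMem_ok1 : agMemOK 1 = true := by decide +kernel

theorem agMem_ok2 : agMemOK 2 = true := by decide +kernel

theorem agMem_ok : ∀ i < 3, agMemOK i = true := by
  intro i hi
  interval_cases i
  · exact agMem_ok0
  · exact agMem_ok1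
  · exact agMem_ok2

theorem last_ok : lastOK = true := by decide +kernel

end Cfsg.Lib.JankoFour.Unique
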