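import Cfsg.Agent.JankoFour.Unique.Sect
import Cfsg.Agent.JankoFour.Unique.AgreeChecks
import Cfsg.Agent.J4Cert.Simple

/-!
Two extensions of the isomorphism on conjugates of the local subgroup agree on a common element when an odd power of
a product normalises the elementary abelian subgroup.
-/

set_option autoImplicit false
set_option maxRecDepth 100000
set_option maxHeartbeats 1000000
set_option linter.style.haveILetI false
set_option linter.unusedSectionVars false

namespace Cfsg.Lib.JankoFour.Unique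

open Cfsg Subgroup
open Cfsg.Lib.J4Cert (KJ jHom gt letG eBasis evM wordM invW MOK mB)
open Cfsg.Lib.J4Pres (P im psi)
open Cfsg.Lib.CosetTable (wval)
open _root_.Cfsg.Lib.JankoFour.Data (W0)
open _root_.Cfsg.Lib.JankoFour.Unique.Data (bA bU kws agW agC agE agRec agProj agS agK agR v0)

theorem wval_append (a b : List ℕ) : wval letG (a ++ b) = wval letG a * wval letG b := by
  simp [CosetTable.wval, List.map_append, List.prod_append]

theorem wval_t {a b : List ℕ} (ha : ∀ l ∈ a, l < 3) (hb : ∀ l ∈ b, l < 3) :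
    wval letG (a ++ [3] ++ b) = jw a * gt * jw b := by
  rw [wval_append, wval_append, wval_letters a ha, wval_letters b hb,
    show wval letG [3] = gt by simp [CosetTable.wval, J4Cert.letG]]
  rfl

theorem actC_append (v : ℕ) (a b : List ℕ) : actC v (a ++ b) = actC (actC v a) b := by
  simp [actC, List.foldl_append]

theorem actC_xor : ∀ (w : List ℕ) (a b : ℕ), actC (a ^^^ b) w = actC a w ^^^ actC b w
  | [], _, _ => rfl
  | l :: w, a, b => by
    show actC (J4Rep.va (a ^^^ b) _) w = _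
    rw [J4Rep.va_xor, actC_xor w]
    rfl

theorem actC_zero (w : List ℕ) : actC 0 w = 0 := by
  induction w with
  | nil => rfl
  | cons l w ih =>
    show actC (J4Rep.va 0 _) w = 0
    rw [J4Rep.va_zero, ih]

theorem bU_lt {j : ℕ} : ∀ l ∈ bU.getD j [], l < 3 := by
  by_cases hj : j < 12
  · exact (basis_spec hj).1
  · rw [List.getD_eq_default _ _ (by have : bU.length = 12 := by decide +kernel
                                     omega)]
    simp

theorem eE_conj (x : ℕ) {d : ℕ} (hd : d < 2048) :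
    actC d (wX x) < 2048 ∧ (eE x)⁻¹ * el d * eE x = el (actC d (wX x)) := by
  have key : ∀ n k x d : ℕ, d < 2048 →
      let w := (List.range' k n).flatMap fun j => if x.testBit (j - k) then bU.getD j [] else []
      actC d w < 2048 ∧
        (J4Cert.ev ((List.range' k n).map bG) x)⁻¹ * el d * J4Cert.ev ((List.range' k n).map bG) x =
          el (actC d w) := by
    intro n
    induction n with
    | zero => intro k x d hd; exact ⟨hd, by simp [J4Cert.ev, actC]⟩
    | succ n ih =>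
      intro k x d hd w
      have hw : w = (if x.testBit 0 then bU.getD k [] else []) ++
          (List.range' (k + 1) n).flatMap fun j => if (x / 2).testBit (j - (k + 1)) then bU.getD j [] else [] := by
        simp only [w, List.range'_succ, List.flatMap_cons, Nat.sub_self]
        congr 1
        refine List.flatMap_congr fun j hj => ?_
        simp only [List.mem_range'_1] at hj
        have hjk : j - k = j - (k + 1) + 1 := by omega
        rw [hjk, Nat.testBit_add_one]
      have h0 : actC d (if x.testBit 0 then bU.getD k [] else []) < 2048 ∧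
          (if x % 2 = 1 then bG k else 1)⁻¹ * el d * (if x % 2 = 1 then bG k else 1) =
            el (actC d (if x.testBit 0 then bU.getD k [] else [])) := by
        by_cases hx : x % 2 = 1
        · have hb : x.testBit 0 = true := by rw [Nat.testBit_zero]; simpa using hx
          rw [if_pos hx, hb, if_pos rfl]
          obtain ⟨h1, h2⟩ := actC_spec _ bU_lt d hd
          refine ⟨h1, ?_⟩
          rw [← h2, bG]
          calc _ = (jHom (wval im (bU.getD k [])))⁻¹ * ((el (bA.getD k 0))⁻¹ * (el d * el (bA.getD k 0))) *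
                jHom (wval im (bU.getD k [])) := by group
            _ = _ := by rw [el_comm d, inv_mul_cancel_left]
        · have hb : x.testBit 0 = false := by rw [Nat.testBit_zero]; simpa using hx
          rw [if_neg hx, hb, if_neg (by simp)]
          exact ⟨hd, by simp [actC]⟩
      obtain ⟨i1, i2⟩ := ih (k + 1) (x / 2) _ h0.1
      rw [hw, actC_append, List.range'_succ, List.map_cons, J4Cert.ev]
      refine ⟨i1, ?_⟩
      rw [← i2, ← h0.2]
      group
  have h := key 12 0 x d hd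
  simp only [Nat.sub_zero, ← List.range_eq_range'] at h
  exact h

theorem el_pow_mok {i : ℕ} (hi : i < 11) : MOK (el (2 ^ i)) (eBasis.getD i []) := by
  have h := local_ok
  simp only [localOK, Bool.and_eq_true, List.all_eq_true, List.mem_range] at h
  obtain ⟨⟨⟨⟨⟨⟨-, hb⟩, -⟩, -⟩, -⟩, -⟩, -⟩ := h
  exact mok_cast (el_mok _) (hb i hi).1

theorem mem_normalizer_VJ {r : Spor.J4} (h : ∀ t < 11, ∃ c < 2048, r * el (2 ^ t) = el c * r) : r ∈ KJ := by
  haveI := J4Cert.finite_J4
  have hN : r ∈ normalizer (VJ : Set Spor.J4) := by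
    refine mem_normalizer_fintype fun x hx => ?_
    obtain ⟨v, hv, rfl⟩ := hx
    revert hv
    induction v using Nat.strong_induction_on with
    | _ v ih =>
      intro hv
      rcases Nat.eq_zero_or_pos v with rfl | hpos
      · rw [el_zero]; simpa using (one_mem VJ)
      · set k := Nat.log 2 v with hk
        have h1 : 2 ^ k ≤ v := Nat.pow_log_le_self 2 hpos.ne'
        have h2 : v < 2 ^ (k + 1) := Nat.lt_pow_succ_log_self (by norm_num) v
        have hk11 : k < 11 := (Nat.pow_lt_pow_iff_right (by norm_num)).mp (lt_of_le_of_lt h1 hv)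
        have hlt : v ^^^ 2 ^ k < 2 ^ k := by
          refine Nat.lt_pow_two_of_testBit _ fun i hi => ?_
          rw [Nat.testBit_xor, Nat.testBit_two_pow]
          rcases Nat.eq_or_lt_of_le hi with rfl | hi'
          · have : v.testBit k = true := by
              rw [Nat.testBit_eq_decide_div_mod_eq, decide_eq_true_eq]
              have : v / 2 ^ k = 1 := Nat.div_eq_of_lt_le (by omega) (by rw [pow_succ] at h2; omega)
              rw [this]
            simp [this]
          · rw [Nat.testBit_lt_two_pow (lt_of_lt_of_le h2 (Nat.pow_le_pow_right (by norm_num) hi')),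
              decide_eq_false (by omega), Bool.false_xor]
        obtain ⟨c, hc, e⟩ := h k hk11
        rw [show el v = el (v ^^^ 2 ^ k) * el (2 ^ k) by rw [← el_xor, Nat.xor_assoc, Nat.xor_self, Nat.xor_zero],
          show r * (el (v ^^^ 2 ^ k) * el (2 ^ k)) * r⁻¹ = r * el (v ^^^ 2 ^ k) * r⁻¹ * (r * el (2 ^ k) * r⁻¹) by group,
          e, mul_inv_cancel_right]
        exact mul_mem (ih _ (by omega) (by omega)) (mem_VJ.mpr ⟨c, hc, rfl⟩)
  have hle : KJ ≤ normalizer (VJ : Set Spor.J4) := by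
    rw [J4Cert.KJ, closure_le]
    rintro x (⟨p, rfl⟩ | rfl)
    · exact j_normal p
    · exact le_normalizer (mem_VJ.mpr ⟨1, by norm_num, el_one.symm⟩)
  rcases J4Cert.maximal_KJ hle with e | e
  · exact e ▸ hN
  · exfalso
    haveI := J4Cert.simple_J4
    have hn : VJ.Normal := normalizer_eq_top_iff.mp e
    rcases hn.eq_bot_or_eq_top with e' | e'
    · exact el_ne_one (show (1 : ℕ) < 2048 by norm_num) one_ne_zero
        (mem_bot.mp (e' ▸ mem_VJ.mpr ⟨1, by norm_num, rfl⟩))
    · have hex : ∀ q : Spor.J4, ∃ v : Fin 2048, q = el v := fun q => by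
        obtain ⟨v, hv, e''⟩ := mem_VJ.mp (show q ∈ VJ from e' ▸ mem_top q)
        exact ⟨⟨v, hv⟩, e''⟩
      choose F hF using hex
      have := Nat.card_le_card_of_injective F fun a b hab => by rw [hF a, hF b, hab]
      rw [J4Cert.card_J4.1, Nat.card_fin] at this
      norm_num at this

/-- The element of an agreement. -/
noncomputable def agElt (i : ℕ) : Spor.J4 :=
  if i < 3 then
    wval letG tAux * el 1 * wval letG (invW (kws.getD i []) ++ [3] ++ kws.getD i []) * (el 1 * wval letG tAux)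
  else gt

theorem agElt_mok (i : ℕ) : MOK (agElt i) (agM i) := by
  have h1 : MOK (el 1) (eBasis.getD 0 []) := el_pow_mok (i := 0) (by norm_num)
  unfold agElt agM
  split
  · exact (((J4Cert.wordM_ok _).mul h1).mul (J4Cert.wordM_ok _)).mul (h1.mul (J4Cert.wordM_ok _))
  · exact J4Cert.mok_gens.2.2.2

theorem pow_mok {g : Spor.J4} {A : List ℕ} (h : MOK g A) : ∀ n, MOK (g ^ n) (powM A n)
  | 0 => by rw [pow_zero]; exact MOK.one
  | n + 1 => by rw [pow_succ]; exact (pow_mok h n).mul h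

universe u

variable {G : Type u} [Group G] [Finite G] {z : G} {P₀ : Subgroup G}

namespace Sect

variable {C : Ctx z P₀} {α : Emb C} (S : Sect α)

theorem ψ_one : S.ψ 1 = 1 := by
  have h := S.map_mul 1 (one_mem _) 1 (one_mem _)
  rw [one_mul] at h
  exact left_eq_mul.mp h

theorem ψ_inv {x : Spor.J4} (hx : x ∈ S.X) : S.ψ x⁻¹ = (S.ψ x)⁻¹ :=
  eq_inv_of_mul_eq_one_left (by rw [← S.map_mul _ (inv_mem hx) _ hx, inv_mul_cancel, S.ψ_one])

theorem ψ_pow {x : Spor.J4} (hx : x ∈ S.X) : ∀ n : ℕ, S.ψ (x ^ n) = S.ψ x ^ n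
  | 0 => by rw [pow_zero, pow_zero, S.ψ_one]
  | n + 1 => by rw [pow_succ, pow_succ, S.map_mul _ (pow_mem hx n) _ hx, ψ_pow hx n]

/-- The domain of a conjugated extension. -/
def Dom (g : Spor.J4) : Subgroup Spor.J4 := S.X.comap (MulAut.conj g⁻¹).toMonoidHom

theorem mem_Dom {g x : Spor.J4} : x ∈ S.Dom g ↔ g⁻¹ * x * g ∈ S.X := by
  show g⁻¹ * x * g⁻¹⁻¹ ∈ S.X ↔ _
  rw [inv_inv]

/-- The extension to a conjugate. -/
noncomputable def Ψ (g x : Spor.J4) : G := α.f g * S.ψ (g⁻¹ * x * g) * (α.f g)⁻¹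

theorem Ψ_mul {g x y : Spor.J4} (hx : x ∈ S.Dom g) (hy : y ∈ S.Dom g) : S.Ψ g (x * y) = S.Ψ g x * S.Ψ g y := by
  rw [Ψ, Ψ, Ψ, show g⁻¹ * (x * y) * g = g⁻¹ * x * g * (g⁻¹ * y * g) by group,
    S.map_mul _ (S.mem_Dom.mp hx) _ (S.mem_Dom.mp hy)]
  group

theorem Ψ_pow {g x : Spor.J4} (hx : x ∈ S.Dom g) : ∀ n : ℕ, S.Ψ g (x ^ n) = S.Ψ g x ^ n
  | 0 => by rw [pow_zero, pow_zero, Ψ, mul_one, inv_mul_cancel, S.ψ_one, mul_one, mul_inv_cancel]
  | n + 1 => by rw [pow_succ, pow_succ, S.Ψ_mul (pow_mem hx n) hx, Ψ_pow hx n]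

theorem fix_of_dom {g x : Spor.J4} {a : ℕ} (ha : g * z0 * g⁻¹ = el a) (hx : x ∈ S.Dom g) :
    x * el a = el a * x := by
  have h := S.X_comm _ (S.mem_Dom.mp hx)
  rw [← ha]
  calc x * (g * z0 * g⁻¹) = g * (g⁻¹ * x * g * z0) * g⁻¹ := by group
    _ = g * (z0 * (g⁻¹ * x * g)) * g⁻¹ := by rw [h]
    _ = _ := by group

theorem M0_of_fix {g q : Spor.J4} {a : ℕ} (hg : g ∈ KJ) (ha : g * z0 * g⁻¹ = el a) (hq : q ∈ KJ)
    (hc : q * el a = el a * q) : g⁻¹ * q * g ∈ M0 := by
  refine mem_M0.mpr ⟨mul_mem (mul_mem (inv_mem hg) hq) hg, ?_⟩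
  have hz : z0 = g⁻¹ * el a * g := by rw [← ha]; group
  rw [hz]
  calc g⁻¹ * q * g * (g⁻¹ * el a * g) = g⁻¹ * (q * el a) * g := by group
    _ = g⁻¹ * (el a * q) * g := by rw [hc]
    _ = _ := by group

theorem Ψ_M {g q : Spor.J4} (hg : g ∈ KJ) (hq : q ∈ KJ) (h : g⁻¹ * q * g ∈ M0) : S.Ψ g q = α.f q := by
  rw [Ψ, S.M_eq _ h, α.map_mul _ (mul_mem (inv_mem hg) hq) _ hg, α.map_mul _ (inv_mem hg) _ hq, α.map_inv hg]
  group

/-- Conjugation by an extended element. -/
theorem Ψ_conj {g m q : Spor.J4} {a : ℕ} (hg : g ∈ KJ) (ha : g * z0 * g⁻¹ = el a) (hm : m ∈ S.Dom g)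
    (hq : q ∈ KJ) (hc : q * el a = el a * q) (hmq : m * q * m⁻¹ ∈ KJ) :
    S.Ψ g m * α.f q = α.f (m * q * m⁻¹) * S.Ψ g m := by
  have hqD : q ∈ S.Dom g := S.mem_Dom.mpr (S.M_le (M0_of_fix hg ha hq hc))
  have hD : m * q * m⁻¹ ∈ S.Dom g := mul_mem (mul_mem hm hqD) (inv_mem hm)
  rw [← S.Ψ_M hg hq (M0_of_fix hg ha hq hc), ← S.Ψ_mul hm hqD,
    ← S.Ψ_M hg hmq (M0_of_fix hg ha hmq (S.fix_of_dom ha hD)), ← S.Ψ_mul hD hm, inv_mul_cancel_right]

theorem E0_conj_mem {g m e : Spor.J4} (hg : g ∈ KJ) (hm : m ∈ S.Dom g) (he : e ∈ α.E0) :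
    m * (g * e * g⁻¹) * m⁻¹ ∈ KJ := by
  have h := (α.mem_E0.mp (S.cj _ (S.mem_Dom.mp hm) e he).1).1
  rw [show m * (g * e * g⁻¹) * m⁻¹ = g * (g⁻¹ * m * g * e * (g⁻¹ * m * g)⁻¹) * g⁻¹ by group]
  exact mul_mem (mul_mem hg h) (inv_mem hg)

/-- The two extensions agree. -/
theorem agree [IsSimpleGroup G] (hG : ¬ IsMulCommutative G) (hR : α.Rl = idM) {i : ℕ} (hi : i < 5)
    (hA : agElt i ∈ S.Dom (jw (agA i))) (hB : agElt i ∈ S.Dom (jw (agB i))) :
    S.Ψ (jw (agA i)) (agElt i) = S.Ψ (jw (agB i)) (agElt i) := by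
  have h := agCode_ok i hi
  simp only [agCodeOK, Bool.and_eq_true, List.all_eq_true, decide_eq_true_eq, beq_iff_eq, List.mem_range] at h
  obtain ⟨⟨⟨⟨⟨⟨⟨⟨⟨⟨⟨⟨⟨ha2, hb2⟩, hodd⟩, hwa⟩, hwb⟩, hws⟩, hsv⟩, hca⟩, hcb⟩, hsa⟩, hsb⟩, hxs⟩, hys⟩, hker⟩ := h
  set a := (agC.getD i (0, 0)).1
  set b := (agC.getD i (0, 0)).2
  set ga := jw (agA i) with hga
  set gb := jw (agB i) with hgb
  set m := agElt i
  have hgaK : ga ∈ KJ := jw_mem _
  have hgbK : gb ∈ KJ := jw_mem _
  have hv0 : v0 < 2048 := by decide +kernel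
  have ha : ga * z0 * ga⁻¹ = el a := by rw [← hca]; exact (jw_conj hwa hv0).2
  have hb : gb * z0 * gb⁻¹ = el b := by rw [← hcb]; exact (jw_conj hwb hv0).2
  set δ := (S.Ψ ga m)⁻¹ * S.Ψ gb m with hδ
  have hδq : ∀ q ∈ KJ, q * el a = el a * q → q * el b = el b * q → m * q * m⁻¹ ∈ KJ → δ * α.f q = α.f q * δ := by
    intro q hq hqa hqb hmq
    have e1 := S.Ψ_conj hgaK ha hA hq hqa hmq
    have e2 := S.Ψ_conj hgbK hb hB hq hqb hmq
    calc δ * α.f q = (S.Ψ ga m)⁻¹ * (S.Ψ gb m * α.f q) := by rw [hδ, mul_assoc]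
      _ = (S.Ψ ga m)⁻¹ * (α.f (m * q * m⁻¹) * S.Ψ ga m) * (S.Ψ ga m)⁻¹ * S.Ψ gb m := by rw [e2]; group
      _ = _ := by rw [← e1, hδ]; group
  have hela : ∀ d, el d * el a = el a * el d := fun d => el_comm d a
  have helb : ∀ d, el d * el b = el b * el d := fun d => el_comm d b
  have hma : m * el a * m⁻¹ = el a := by rw [S.fix_of_dom ha hA, mul_inv_cancel_right]
  have hmb : m * el b * m⁻¹ = el b := by rw [S.fix_of_dom hb hB, mul_inv_cancel_right]
  -- membership of the elementary abelian subgroup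
  obtain ⟨d, hd, hδd⟩ : ∃ d < 2048, δ = α.f (el d) := by
    have hδa := hδq _ (el_mem a) (hela a) (helb a) (hma.symm ▸ el_mem a)
    set δ' := (α.f ga)⁻¹ * δ * α.f ga with hδ'
    have hfa : α.f ga * z * (α.f ga)⁻¹ = α.f (el a) := by
      have e := α.map_conj hgaK z0_mem
      rw [α.f_z0, ha] at e
      exact e.symm
    have hH : δ' ∈ centralizer ({z} : Set G) := by
      rw [mem_centralizer_singleton_iff, hδ']
      have hz : z = (α.f ga)⁻¹ * α.f (el a) * α.f ga := by rw [← hfa]; group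
      calc (α.f ga)⁻¹ * δ * α.f ga * z = (α.f ga)⁻¹ * (δ * (α.f ga * z * (α.f ga)⁻¹)) * α.f ga := by group
        _ = (α.f ga)⁻¹ * (α.f ga * z * (α.f ga)⁻¹ * δ) * α.f ga := by rw [hfa, hδa]
        _ = _ := by group
    have hV : δ' ∈ C.V := by
      refine C.mem_V_of_comm hH fun w hw => ?_
      obtain ⟨bits, hbits, hwx⟩ := exists_wOf hw.2
      have hπ : C.π (α.f (el (cOf bits))) = C.π w := by
        rw [← α.Rl_wOf hG hbits, hR, mv_idM (hwx ▸ C.π_lt w), hwx]
      obtain ⟨c, hcE, hc, hwc⟩ : ∃ c, el c ∈ α.E0 ∧ c < 2048 ∧ w = α.f (el c) := by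
        rcases C.π_eq hw.1 (α.cOf_E hG bits) hπ.symm with e | e
        · exact ⟨_, ⟨el_mem _, α.cOf_E hG bits⟩, cOf_lt bits, e⟩
        · refine ⟨cOf bits ^^^ v0, ⟨el_mem _, ?_⟩, Nat.xor_lt_two_pow (n := 11) (cOf_lt bits) hv0, ?_⟩
          · rw [α.el_central]; exact mul_mem (α.cOf_E hG bits) C.X.mem
          · rw [α.el_central, e]; exact (C.X.central _ (α.cOf_E hG bits)).eq.symm
      obtain ⟨-, hcc⟩ := jw_conj hwa hc
      rw [← hga] at hcc
      have hkey := hδq (ga * el c * ga⁻¹) (mul_mem (mul_mem hgaK (el_mem c)) (inv_mem hgaK))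
        (by rw [hcc]; exact hela _) (by rw [hcc]; exact helb _) (S.E0_conj_mem hgaK hA hcE)
      rw [α.map_conj hgaK (el_mem c), ← hwc] at hkey
      show δ' * w = w * δ'
      calc δ' * w = (α.f ga)⁻¹ * (δ * (α.f ga * w * (α.f ga)⁻¹)) * α.f ga := by rw [hδ']; group
        _ = (α.f ga)⁻¹ * (α.f ga * w * (α.f ga)⁻¹ * δ) * α.f ga := by rw [hkey]
        _ = _ := by rw [hδ']; group
    obtain ⟨d', hd', e⟩ := α.V_surj δ' hV
    obtain ⟨hlt, hconj⟩ := jw_conj hwa hd'
    refine ⟨_, hlt, ?_⟩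
    rw [← hconj, α.map_conj hgaK (el_mem d'), e, hδ']
    group
  -- the code is one of four
  have hobs : agObs i d = 0 := by
    have hside : ∀ (w : List ℕ) (g : Spor.J4), g = jw w → (∀ l ∈ w, l < 3) → ∀ (c o : ℕ), o < 2048 →
        g * z0 * g⁻¹ = el c → (∀ e ∈ α.E0, m * (g * e * g⁻¹) * m⁻¹ ∈ KJ) →
        (∀ q : Spor.J4, q * el c = el c * q → q * el o = el o * q → (q * el a = el a * q ∧ q * el b = el b * q)) →
        ∀ x, x < 4096 → actC (actC o w) (wX x) = actC o w → actC (actC d w) (wX x) ^^^ actC d w = 0 := by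
      intro w g hgw hw c o ho hc hmem hboth x hx hfix
      have hgK : g ∈ KJ := hgw ▸ jw_mem w
      obtain ⟨ho', eo⟩ := actC_spec w hw o ho
      obtain ⟨hd', ed⟩ := actC_spec w hw d hd
      rw [show jHom (wval im w) = g from hgw.symm] at eo ed
      obtain ⟨-, exo⟩ := eE_conj x ho'
      obtain ⟨hd'', exd⟩ := eE_conj x hd'
      rw [hfix] at exo
      set q := g * eE x * g⁻¹ with hq
      have heE := α.eE_E0 hG x
      have hqo : q * el o = el o * q := by
        have : eE x * el (actC o w) = el (actC o w) * eE x := by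
          conv_lhs => rw [← exo]
          group
        rw [hq]
        calc g * eE x * g⁻¹ * el o = g * (eE x * (g⁻¹ * el o * g)) * g⁻¹ := by group
          _ = g * (g⁻¹ * el o * g * eE x) * g⁻¹ := by rw [eo, this]
          _ = _ := by group
      have hqc : q * el c = el c * q := by
        rw [← hc, hq]
        calc g * eE x * g⁻¹ * (g * z0 * g⁻¹) = g * (eE x * z0) * g⁻¹ := by group
          _ = g * (z0 * eE x) * g⁻¹ := by rw [(mem_M0.mp (α.E0_le heE)).2]
          _ = _ := by group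
      obtain ⟨hqa, hqb⟩ := hboth q hqc hqo
      have hqK : q ∈ KJ := mul_mem (mul_mem hgK heE.1) (inv_mem hgK)
      have he := hδq q hqK hqa hqb (hmem _ heE)
      rw [hδd, ← α.map_mul _ (el_mem d) _ hqK, ← α.map_mul _ hqK _ (el_mem d)] at he
      have hc' := α.inj _ (mul_mem (el_mem d) hqK) _ (mul_mem hqK (el_mem d)) he
      have : (eE x)⁻¹ * el (actC d w) * eE x = el (actC d w) := by
        rw [← ed]
        calc (eE x)⁻¹ * (g⁻¹ * el d * g) * eE x = (eE x)⁻¹ * g⁻¹ * (el d * q) * g := by rw [hq]; group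
          _ = (eE x)⁻¹ * g⁻¹ * (q * el d) * g := by rw [hc']
          _ = _ := by rw [hq]; group
      rw [exd] at this
      rw [el_inj hd'' hd' this, Nat.xor_self]
    have hzero : ∀ l : List ℕ, (∀ q ∈ l, q = 0) → l.foldr (fun q r => q ^^^ (r <<< 11)) 0 = 0 := by
      intro l
      induction l with
      | nil => intro _; rfl
      | cons q l ih =>
        intro hl
        simp only [List.forall_mem_cons] at hl
        rw [List.foldr_cons, hl.1, ih hl.2]
        rfl
    refine hzero _ fun q hq => ?_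
    simp only [List.mem_append, List.mem_map] at hq
    rcases hq with ⟨x, hx, rfl⟩ | ⟨x, hx, rfl⟩
    · exact hside _ ga hga hwa a b hb2 ha (fun e he => S.E0_conj_mem hgaK hA he) (fun q h1 h2 => ⟨h1, h2⟩) x
        (hxs x hx).1 (hxs x hx).2
    · exact hside _ gb hgb hwb b a ha2 hb (fun e he => S.E0_conj_mem hgbK hB he) (fun q h1 h2 => ⟨h2, h1⟩) x
        (hys x hx).1 (hys x hx).2
  have hd4 : ∃ e : ℕ, d = mv [a, b] e := by
    have hlin : ∀ u v, agObs i (u ^^^ v) = agObs i u ^^^ agObs i v := by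
      intro u v
      have hfold : ∀ (A : List ℕ) (F : ℕ → ℕ → ℕ),
          (∀ q ∈ A, F q (u ^^^ v) = F q u ^^^ F q v) → ∀ r₁ r₂ : ℕ,
          (A.map fun q => F q (u ^^^ v)).foldr (fun q r => q ^^^ (r <<< 11)) (r₁ ^^^ r₂) =
            (A.map fun q => F q u).foldr (fun q r => q ^^^ (r <<< 11)) r₁ ^^^
              (A.map fun q => F q v).foldr (fun q r => q ^^^ (r <<< 11)) r₂ := by
        intro A F
        induction A with
        | nil => intro _ r₁ r₂; rfl
        | cons q A ih =>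
          intro hF r₁ r₂
          simp only [List.forall_mem_cons] at hF
          simp only [List.map_cons, List.foldr_cons]
          rw [ih hF.2, hF.1, Nat.shiftLeft_xor_distrib]
          ac_rfl
      have hF : ∀ (g : List ℕ) (x : ℕ), actC (actC (u ^^^ v) g) (wX x) ^^^ actC (u ^^^ v) g =
          (actC (actC u g) (wX x) ^^^ actC u g) ^^^ (actC (actC v g) (wX x) ^^^ actC v g) := fun g x => by
        rw [actC_xor, actC_xor]; ac_rfl
      simp only [agObs, List.foldr_append]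
      rw [← hfold _ (fun x d => actC (actC d (agA i)) (wX x) ^^^ actC d (agA i)) fun x _ => hF _ x]
      congr 1
      exact (hfold _ (fun x d => actC (actC d (agB i)) (wX x) ^^^ actC d (agB i)) (fun x _ => hF _ x) 0 0).trans rfl
    have key := lin_ext (f := fun x => mv (agRec.getD i []) (agObs i x) ^^^ mv [a, b] (mv (agProj.getD i []) x))
      (g := id) (· ^^^ ·) 11 (fun u v => by simp only [hlin, mv_xor]; ac_rfl) (fun u v => rfl)
      (by
        have h0 : agObs i 0 = 0 := by have := hlin 0 0; simpa using this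
        simp only [h0, mv_zero, Nat.xor_zero, id])
      (fun t ht => by
        have hp : mv (agProj.getD i []) (2 ^ t) = (agProj.getD i []).getD t 0 := by
          have : ∀ i < 5, ∀ t < 11, mv (agProj.getD i []) (2 ^ t) = (agProj.getD i []).getD t 0 := by decide +kernel
          exact this i hi t ht
        simp only [id, hp]
        exact hker t ht) d hd
    simp only [hobs, mv_zero, Nat.zero_xor, id] at key
    exact ⟨_, key.symm⟩
  obtain ⟨e, he⟩ := hd4
  have hcd : ∀ q : Spor.J4, q * el a = el a * q → q * el b = el b * q → q * el d = el d * q := by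
    intro q h1 h2
    have hxor : ∀ u v, q * el u = el u * q → q * el v = el v * q → q * el (u ^^^ v) = el (u ^^^ v) * q :=
      fun u v hu hv => by rw [el_xor, ← mul_assoc, hu, mul_assoc, hv, ← mul_assoc]
    rw [he]
    simp only [mv]
    refine hxor _ _ ?_ (hxor _ _ ?_ (by simp [el_zero]))
    · split <;> [exact h1; simp [el_zero]]
    · split <;> [exact h2; simp [el_zero]]
  -- the odd power
  have hp := agPow_ok i hi
  simp only [agPowOK, List.all_eq_true, List.mem_range, Bool.and_eq_true, decide_eq_true_eq] at hp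
  set sw := (agS.getD i ([], 0)).1
  set sv := (agS.getD i ([], 0)).2
  set s := jw sw * el sv with hs
  set k := agK.getD i 0
  have hsK : s ∈ KJ := mul_mem (jw_mem _) (el_mem _)
  have hsfix : ∀ c < 2048, actC c (invW sw) = c → s * el c = el c * s := by
    intro c hc hfix
    have h := (jw_conj hws hc).2
    rw [hfix] at h
    rw [hs, mul_assoc, el_comm sv c, ← mul_assoc, mul_inv_eq_iff_eq_mul.mp h, mul_assoc]
  have hsA : s ∈ S.Dom ga := S.mem_Dom.mpr (S.M_le (M0_of_fix hgaK ha hsK (hsfix a ha2 hsa)))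
  have hsB : s ∈ S.Dom gb := S.mem_Dom.mpr (S.M_le (M0_of_fix hgbK hb hsK (hsfix b hb2 hsb)))
  have hrK : (m * s) ^ k ∈ KJ := by
    refine mem_normalizer_VJ fun t ht => ⟨(agR.getD i []).getD t 0, (hp t ht).1, ?_⟩
    have hr := pow_mok ((agElt_mok i).mul ((word_mok hws).1.mul (el_mok sv))) k
    exact mok_eq (mok_cast (hr.mul (el_pow_mok ht)) (hp t ht).2) ((el_mok _).mul hr)
  set r := (m * s) ^ k with hr
  have hrA : r ∈ S.Dom ga := pow_mem (mul_mem hA hsA) k
  have hrB : r ∈ S.Dom gb := pow_mem (mul_mem hB hsB) k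
  have eA : S.Ψ ga r = α.f r := S.Ψ_M hgaK hrK (M0_of_fix hgaK ha hrK (S.fix_of_dom ha hrA))
  have eB : S.Ψ gb r = α.f r := S.Ψ_M hgbK hrK (M0_of_fix hgbK hb hrK (S.fix_of_dom hb hrB))
  rw [hr, S.Ψ_pow (mul_mem hA hsA), S.Ψ_mul hA hsA, S.Ψ_M hgaK hsK (M0_of_fix hgaK ha hsK (hsfix a ha2 hsa))] at eA
  rw [hr, S.Ψ_pow (mul_mem hB hsB), S.Ψ_mul hB hsB, S.Ψ_M hgbK hsK (M0_of_fix hgbK hb hsK (hsfix b hb2 hsb)),
    ← eA, show S.Ψ gb m = S.Ψ ga m * δ by rw [hδ, mul_inv_cancel_left]] at eB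
  -- the correction is central here
  have hsδ : δ * α.f s = α.f s * δ := by
    rw [hδd, ← α.map_mul _ (el_mem d) _ hsK, ← α.map_mul _ hsK _ (el_mem d),
      hcd s (hsfix a ha2 hsa) (hsfix b hb2 hsb)]
  have hmel : ∀ c, m * el c * m⁻¹ = el c → S.Ψ ga m * α.f (el c) = α.f (el c) * S.Ψ ga m := fun c hmc => by
    have := S.Ψ_conj hgaK ha hA (el_mem c) (hela c) (hmc.symm ▸ el_mem c)
    rwa [hmc] at this
  have hmd : m * el d * m⁻¹ = el d :=
    mul_inv_eq_iff_eq_mul.mpr (hcd m (S.fix_of_dom ha hA) (S.fix_of_dom hb hB))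
  have hcomm : Commute (S.Ψ ga m * α.f s) δ := by
    refine Commute.mul_left ?_ hsδ.symm
    rw [hδd]
    exact hmel d hmd
  rw [mul_assoc _ δ, hsδ, ← mul_assoc, hcomm.mul_pow, mul_eq_left] at eB
  have h2 : δ ^ 2 = 1 := by rw [hδd, pow_two, ← α.map_mul _ (el_mem d) _ (el_mem d), el_mul_self, α.map_one]
  rw [← Nat.div_add_mod k 2, hodd, pow_succ, pow_mul, h2, one_pow, one_mul] at eB
  exact inv_mul_eq_one.mp (hδ ▸ eB)

end Sect

end Cfsg.Lib.JankoFour.Unique
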