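import Cfsg.Agent.JankoFour.Unique.LocalDefs

/-!
The finite conditions on the powers of the agreements hold.  Each index is checked separately, to bound the memory
of each check.
-/

set_option autoImplicit false
set_option maxRecDepth 100000
set_option Elab.async false

namespace Cfsg.Lib.JankoFour.Unique

theorem agPow_ok0 : agPowOK 0 = true := by decide +kernel

theorem agPow_ok1 : agPowOK 1 = true := by decide +kernel

theorem agPow_ok2 : agPowOK 2 = true := by decide +kernel

theorem agPow_ok3 : agPowOK 3 = true := by decide +kernel

theorem agPow_ok4 : agPowOK 4 = true := by decide +kernel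

theorem agPow_ok : ∀ i < 5, agPowOK i = true := by
  intro i hi
  interval_cases i
  · exact agPow_ok0
  · exact agPow_ok1
  · exact agPow_ok2
  · exact agPow_ok3
  · exact agPow_ok4

end Cfsg.Lib.JankoFour.Unique
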