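import Cfsg.Agent.JankoFour.Unique.FrameDefs

/-!
The basis of the extraspecial subgroup: squares, commutators and the distinguished part.  The long conditions are
checked one index at a time, to bound the memory of each check.
-/

set_option autoImplicit false
set_option maxRecDepth 100000
set_option Elab.async false

namespace Cfsg.Lib.JankoFour.Unique

open Cfsg.Lib.J4Cert (evM eBasis wordM mB)

/-- The condition on one basis matrix. -/
def basisAt (j : ℕ) : Bool :=
  (Data.bU.getD j []).all (fun l => decide (l < 3)) && decide (Data.bA.getD j 0 < 2048) &&
    mB (evM eBasis (Data.bA.getD j 0)) (wordM (Data.bU.getD j [])) == Data.bMat.getD j []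

/-- The condition on one twisted basis matrix. -/
def twistAt (j : ℕ) : Bool :=
  let u := Data.bU.getD j []
  mB (evM eBasis (Data.bA.getD j 0 ^^^ pairC24 0 (ptW u 0))) (wordM u) == eM (Data.dRow.getD j (0, false))

theorem basisAt_0 : basisAt 0 = true := by decide +kernel

theorem basisAt_1 : basisAt 1 = true := by decide +kernel

theorem basisAt_2 : basisAt 2 = true := by decide +kernel

theorem basisAt_3 : basisAt 3 = true := by decide +kernel

theorem basisAt_4 : basisAt 4 = true := by decide +kernel

theorem basisAt_5 : basisAt 5 = true := by decide +kernel

theorem basisAt_6 : basisAt 6 = true := by decide +kernel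

theorem basisAt_7 : basisAt 7 = true := by decide +kernel

theorem basisAt_8 : basisAt 8 = true := by decide +kernel

theorem basisAt_9 : basisAt 9 = true := by decide +kernel

theorem basisAt_10 : basisAt 10 = true := by decide +kernel

theorem basisAt_11 : basisAt 11 = true := by decide +kernel

theorem basis_ok : basisOK = true := by
  show (List.range 12).all basisAt = true
  simp only [List.all_eq_true, List.mem_range]
  intro j hj
  interval_cases j
  · exact basisAt_0
  · exact basisAt_1
  · exact basisAt_2
  · exact basisAt_3
  · exact basisAt_4
  · exact basisAt_5
  · exact basisAt_6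
  · exact basisAt_7
  · exact basisAt_8
  · exact basisAt_9
  · exact basisAt_10
  · exact basisAt_11

theorem forms_ok : formsOK = true := by decide +kernel

theorem cW_ok : cWOK = true := by decide +kernel

theorem twistAt_0 : twistAt 0 = true := by decide +kernel

theorem twistAt_1 : twistAt 1 = true := by decide +kernel

theorem twistAt_2 : twistAt 2 = true := by decide +kernel

theorem twistAt_3 : twistAt 3 = true := by decide +kernel

theorem twistAt_4 : twistAt 4 = true := by decide +kernel

theorem twistAt_5 : twistAt 5 = true := by decide +kernel

theorem twistAt_6 : twistAt 6 = true := by decide +kernel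

theorem twistAt_7 : twistAt 7 = true := by decide +kernel

theorem twistAt_8 : twistAt 8 = true := by decide +kernel

theorem twistAt_9 : twistAt 9 = true := by decide +kernel

theorem twistAt_10 : twistAt 10 = true := by decide +kernel

theorem twistAt_11 : twistAt 11 = true := by decide +kernel

theorem twist_ok : twistOK = true := by
  show (List.range 12).all twistAt = true
  simp only [List.all_eq_true, List.mem_range]
  intro j hj
  interval_cases j
  · exact twistAt_0
  · exact twistAt_1
  · exact twistAt_2
  · exact twistAt_3
  · exact twistAt_4
  · exact twistAt_5
  · exact twistAt_6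
  · exact twistAt_7
  · exact twistAt_8
  · exact twistAt_9
  · exact twistAt_10
  · exact twistAt_11

end Cfsg.Lib.JankoFour.Unique
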