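import Cfsg.Agent.JankoFour.Unique.FrameDefs

/-!
The conjugates of the basis of the extraspecial subgroup under the generators of the local subgroup.  Each index is
checked separately, to bound the memory of each check.
-/

set_option autoImplicit false
set_option maxRecDepth 100000
set_option Elab.async false

namespace Cfsg.Lib.JankoFour.Unique

open Cfsg.Lib.J4Cert (eBasis wordM invW)
open Data (kGens kRows vRows tRow v0)

/-- The generators conjugate the basis by their rows and fix the central code. -/
def genConjOK : Bool :=
  (List.range 3).all fun g => let w := kGens.getD g []
    w.all (fun l => decide (l < 3)) && actC v0 (invW w) == v0 &&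
      (kRows.getD g []).all (fun e => decide (e.1 < 4096)) &&
        conjRow (wordM w) (wordM (invW w)) (kRows.getD g [])

/-- The abelian group conjugates the basis by its rows. -/
def absConjOK : Bool :=
  (List.range 11).all fun k => (vRows.getD k []).all (fun e => decide (e.1 < 4096)) &&
    conjRow (eBasis.getD k []) (eBasis.getD k []) (vRows.getD k [])

/-- The third letter conjugates the basis by its rows. -/
def tConjOK : Bool :=
  tRow.all (fun e => decide (e.1 < 4096)) && conjRow Cfsg.Lib.J4Rep.matT Cfsg.Lib.J4Rep.matT tRow

/-- The condition on one generator. -/
def genConjAt (g : ℕ) : Bool :=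
  let w := kGens.getD g []
  w.all (fun l => decide (l < 3)) && actC v0 (invW w) == v0 &&
    (kRows.getD g []).all (fun e => decide (e.1 < 4096)) &&
      conjRow (wordM w) (wordM (invW w)) (kRows.getD g [])

/-- The condition on one element of the abelian group. -/
def absConjAt (k : ℕ) : Bool :=
  (vRows.getD k []).all (fun e => decide (e.1 < 4096)) &&
    conjRow (eBasis.getD k []) (eBasis.getD k []) (vRows.getD k [])

theorem genConjAt_0 : genConjAt 0 = true := by decide +kernel

theorem genConjAt_1 : genConjAt 1 = true := by decide +kernel

theorem genConjAt_2 : genConjAt 2 = true := by decide +kernel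

theorem genConj_ok : genConjOK = true := by
  show (List.range 3).all genConjAt = true
  simp only [List.all_eq_true, List.mem_range]
  intro j hj
  interval_cases j
  · exact genConjAt_0
  · exact genConjAt_1
  · exact genConjAt_2

theorem absConjAt_0 : absConjAt 0 = true := by decide +kernel

theorem absConjAt_1 : absConjAt 1 = true := by decide +kernel

theorem absConjAt_2 : absConjAt 2 = true := by decide +kernel

theorem absConjAt_3 : absConjAt 3 = true := by decide +kernel

theorem absConjAt_4 : absConjAt 4 = true := by decide +kernel

theorem absConjAt_5 : absConjAt 5 = true := by decide +kernel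

theorem absConjAt_6 : absConjAt 6 = true := by decide +kernel

theorem absConjAt_7 : absConjAt 7 = true := by decide +kernel

theorem absConjAt_8 : absConjAt 8 = true := by decide +kernel

theorem absConjAt_9 : absConjAt 9 = true := by decide +kernel

theorem absConjAt_10 : absConjAt 10 = true := by decide +kernel

theorem absConj_ok : absConjOK = true := by
  show (List.range 11).all absConjAt = true
  simp only [List.all_eq_true, List.mem_range]
  intro j hj
  interval_cases j
  · exact absConjAt_0
  · exact absConjAt_1
  · exact absConjAt_2
  · exact absConjAt_3
  · exact absConjAt_4
  · exact absConjAt_5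
  · exact absConjAt_6
  · exact absConjAt_7
  · exact absConjAt_8
  · exact absConjAt_9
  · exact absConjAt_10

theorem tConj_ok : tConjOK = true := by decide +kernel

end Cfsg.Lib.JankoFour.Unique
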