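import Cfsg.Agent.JankoFour.Unique.FrameDefs

/-!
The finite conditions on the coordinates hold.
-/

set_option autoImplicit false
set_option maxRecDepth 100000
set_option Elab.async false

namespace Cfsg.Lib.JankoFour.Unique

theorem inner_ok : innerOK = true := by decide +kernel

theorem tree_ok' : treeOK [] Data.tree = true := by decide +kernel

theorem solve_ok : solveOK = true := by decide +kernel

theorem cand_ok : candOK = true := by decide +kernel

theorem fix_ok : fixOK = true := by decide +kernel

theorem pair_ok : pairOK = true := by decide +kernel

end Cfsg.Lib.JankoFour.Unique
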