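import Cfsg.Agent.JankoFour.Unique.Extra
import Cfsg.Agent.JankoFour.Unique.FrameChecks
import Cfsg.Agent.JankoFour.Involutions

/-!
The extraspecial subgroup of the presented side goes to the extraspecial subgroup, and the map of coordinates.
-/

set_option autoImplicit false
set_option maxRecDepth 100000
set_option maxHeartbeats 1000000
set_option linter.style.haveILetI false
set_option linter.unusedSectionVars false

namespace Cfsg.Lib.JankoFour.Unique

open Cfsg Subgroup
open Cfsg.Lib.J4Cert (KJ jHom invW)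
open Cfsg.Lib.J4Pres (P im)
open Cfsg.Lib.CosetTable (wval)
open _root_.Cfsg.Lib.JankoFour.Data (W0 w0B)
open _root_.Cfsg.Lib.JankoFour.Unique.Data (bA bU aX cW maskT maskZ v0)

/-- The coordinates of vectors of the distinguished space and its independence from the central code. -/
def wInjOK : Bool :=
  cW.all (fun c => decide (c < 2048)) &&
    (List.range 64).all (fun b => b == 0 || (cOf b != 0 && cOf b != v0)) &&
    (List.range 6).all (fun i => wOf (2 ^ i) == w0B.getD i 0 && cOf (2 ^ i) == cW.getD i 0)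

theorem wInj_ok : wInjOK = true := by decide +kernel

/-- A generating set of the distinguished codes from the second class. -/
def gen7 : List ℕ :=
  v0 :: Data.tree.map fun e => cOf (((List.range 64).find? fun b => wOf b == e.1).getD 0)

/-- The basis codes lie in the span of the second class. -/
def gen7OK : Bool :=
  gen7.all (fun c => c == v0 || list36.contains c) && cW.all (fun c => (spanX gen7).contains c)

theorem gen7_ok : gen7OK = true := by decide +kernel

theorem cOf_lt (b : ℕ) : cOf b < 2048 := by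
  have h := wInj_ok
  simp only [wInjOK, Bool.and_eq_true, List.all_eq_true, decide_eq_true_eq] at h
  exact mv_lt (n := 11) h.1.1 b

universe u

variable {G : Type u} [Group G] [Finite G] {z : G} {P₀ : Subgroup G}

namespace Emb

variable {C : Ctx z P₀} (α : Emb C)

theorem el_mul {a b : ℕ} : α.f (el (a ^^^ b)) = α.f (el a) * α.f (el b) := by
  rw [el_xor, α.map_mul _ (el_mem a) _ (el_mem b)]

theorem el_zero' : α.f (el 0) = 1 := by rw [el_zero, α.map_one]

theorem el_central (v : ℕ) : α.f (el (v ^^^ v0)) = α.f (el v) * z := by rw [α.el_mul, α.base]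

theorem inner_iff [IsSimpleGroup G] (hG : ¬ IsMulCommutative G) {t : G} :
    t ∈ C.liftsOf (partW 1) ↔ ∃ v ∈ list36, t = α.f (el v) := by
  have hin := inner_ok
  simp only [innerOK, Bool.and_eq_true, List.all_eq_true, decide_eq_true_eq] at hin
  obtain ⟨⟨⟨⟨⟨-, -⟩, hall⟩, h36⟩, -⟩, -⟩ := hin
  obtain ⟨-, hz0, hn1⟩ := C.inner_card hG
  constructor
  · intro ht
    obtain ⟨hA0, ht1, htz⟩ := C.lifts_A0 ht
    have hT : t ∈ (C.sextet hG).T := ⟨hA0.1, ht1, hn1 t ht⟩
    have htz' := (C.sextet hG).inner_translate hT hA0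
    obtain ⟨v, hv, rfl⟩ := α.V_surj t hA0.1
    have key : ∀ w, w < 2048 → α.f (el w) ≠ 1 → ¬ IsConj z (α.f (el w)) → maskT.testBit w = true := by
      intro w hw h1 hc
      have ho := orb2_ok
      simp only [orb2OK, Bool.and_eq_true, beq_iff_eq] at ho
      have hbit : (maskZ ||| maskT).testBit w = true := by
        have h2 : ∀ w < 2048, w ≠ 0 → (2 ^ 2048 - 2).testBit w = true := fun w hw h0 => by
          rw [Nat.testBit_two_pow_sub_succ (x := 1) (n := 2048) (Nat.one_lt_two_pow (by norm_num)),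
            show (1 : ℕ) = 2 ^ 0 from rfl, Nat.testBit_two_pow]
          simp [hw]; omega
        rw [Nat.eq_of_beq_eq_true ho.2]
        exact h2 w hw fun e => h1 (by rw [e, α.el_zero'])
      rw [Nat.testBit_or, Bool.or_eq_true] at hbit
      exact hbit.resolve_left fun h => hc (α.class_Z h)
    refine ⟨v, ?_, rfl⟩
    have hb1 := key v hv ht1 (hn1 _ ht)
    have hlt : v ^^^ v0 < 2048 := Nat.xor_lt_two_pow (n := 11) hv (by decide)
    have hb2 := key (v ^^^ v0) hlt (by rw [α.el_central]; exact htz'.2.1) (by rw [α.el_central]; exact htz'.2.2)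
    have h := hall v (List.mem_range.mpr hv)
    rw [hb1, hb2, Bool.and_self, Bool.not_true, Bool.false_or] at h
    exact List.contains_iff_mem.mp h
  · rintro ⟨v, hv, rfl⟩
    obtain ⟨⟨hlt, hb1⟩, hb2⟩ := h36 v hv
    have hne : ∀ w, w < 2048 → maskT.testBit w = true → α.f (el w) ≠ 1 := fun w hw hb e => by
      have h0 : el w = 1 := α.inj _ (el_mem w) 1 (one_mem _) (e.trans α.map_one.symm)
      have := el_inj hw (by norm_num) (h0.trans el_zero.symm)
      subst this
      exact absurd hb (by decide +kernel)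
    have hT : α.f (el v) ∈ (C.sextet hG).T := ⟨α.V_mem v hlt, hne v hlt hb1, α.class_T hG hb1⟩
    have hlt2 : v ^^^ v0 < 2048 := Nat.xor_lt_two_pow (n := 11) hlt (by decide)
    have hT2 : α.f (el v) * z ∈ (C.sextet hG).T := by
      have h : α.f (el (v ^^^ v0)) ∈ (C.sextet hG).T := ⟨α.V_mem _ hlt2, hne _ hlt2 hb2, α.class_T hG hb2⟩
      rwa [α.el_central] at h
    have hA0 : α.f (el v) ∈ C.V ⊓ C.E := ((C.sextet hG).mem_P_z hT).mp hT2
    rcases C.A0_cases hA0 with r | r | r | r
    exacts [absurd r hT.2.1, absurd (by rw [r]) hT.2.2, absurd (hz0 _ r) hT.2.2, r]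

theorem cOf_E [IsSimpleGroup G] (hG : ¬ IsMulCommutative G) (b : ℕ) : α.f (el (cOf b)) ∈ C.E := by
  have h := gen7_ok
  simp only [gen7OK, Bool.and_eq_true, List.all_eq_true, Bool.or_eq_true, beq_iff_eq, List.contains_iff_mem] at h
  have hspan : ∀ x ∈ spanX gen7, α.f (el x) ∈ C.E := by
    refine spanX_ind (p := fun x => α.f (el x) ∈ C.E) (by rw [α.el_zero']; exact one_mem _) gen7 fun c hc x hx => ?_
    rw [α.el_mul]
    refine mul_mem ?_ hx
    rcases h.1 c hc with rfl | h36
    · rw [α.base]; exact C.X.mem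
    · exact ((α.inner_iff hG).mpr ⟨c, h36, rfl⟩).1
  have hmv : ∀ (L : List ℕ) (x : ℕ), (∀ c ∈ L, α.f (el c) ∈ C.E) → α.f (el (mv L x)) ∈ C.E := by
    intro L
    induction L with
    | nil => intro x _; rw [mv, α.el_zero']; exact one_mem _
    | cons c L ih =>
      intro x hL
      simp only [List.forall_mem_cons] at hL
      rw [mv, α.el_mul]
      refine mul_mem ?_ (ih _ hL.2)
      split
      · exact hL.1
      · rw [α.el_zero']; exact one_mem _
  exact hmv cW b fun c hc => hspan c (h.2 c hc)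

/-- The image of the small group. -/
noncomputable def compl : Subgroup G := (α.hom.comp (jHom.codRestrict KJ fun p => j_mem p)).range

theorem mem_compl {k : G} : k ∈ α.compl ↔ ∃ p : P, α.f (jHom p) = k := Iff.rfl

theorem compl_le : α.compl ≤ normalizer (C.V : Set G) := by
  rintro _ ⟨p, rfl⟩
  exact α.N_mem _ (j_mem p)

theorem compl_inf : α.compl ⊓ C.V = ⊥ := by
  rw [eq_bot_iff_forall]
  intro k hk
  obtain ⟨⟨p, rfl⟩, hV⟩ := mem_inf.mp hk
  obtain ⟨v, hv, e⟩ := α.V_surj _ hV
  have h : el v = jHom p := α.inj _ (el_mem v) _ (j_mem p) e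
  have hp : p = 1 := j_inter ⟨v, hv, h.symm⟩
  subst hp
  show α.f (jHom 1) = 1
  rw [_root_.map_one, α.map_one]

theorem compl_sup : α.compl ⊔ C.V = normalizer (C.V : Set G) := by
  refine le_antisymm (sup_le α.compl_le le_normalizer) fun n hn => ?_
  obtain ⟨x, hx, rfl⟩ := α.N_surj n hn
  obtain ⟨v, hv, p, rfl⟩ := dec hx
  rw [α.map_mul _ (el_mem v) _ (j_mem p)]
  exact mul_mem (mem_sup_right (α.V_mem v hv)) (mem_sup_left ⟨p, rfl⟩)

theorem bG_E [IsSimpleGroup G] (hG : ¬ IsMulCommutative G) {j : ℕ} (hj : j < 12) : α.f (bG j) ∈ C.E := by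
  obtain ⟨hl, hA, -⟩ := basis_spec hj
  have hin := inner_ok
  simp only [innerOK, Bool.and_eq_true, List.all_eq_true, List.mem_range, List.any_eq_true, Bool.or_eq_true,
    beq_iff_eq, List.contains_iff_mem] at hin
  obtain ⟨⟨-, haX⟩, hact⟩ := hin
  obtain ⟨-, b, -, -, hb⟩ := haX j hj
  have ha : α.f (el (bA.getD j 0)) ∈ C.E := by
    rcases hb with e | e <;> rw [← e]
    · exact α.cOf_E hG b
    · rw [α.el_central]; exact mul_mem (α.cOf_E hG b) C.X.mem
  obtain ⟨h0, h36⟩ := hact j hj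
  set w := invW (bU.getD j [])
  set q := wval im (bU.getD j []) with hq
  have hwv : jHom (wval im w) = (jHom q)⁻¹ := by
    rw [← wval_letters w (invW_lt hl), J4Cert.wval_invW, wval_letters _ hl]
  have hconj : ∀ v < 2048, jHom q * el v * (jHom q)⁻¹ = el (actC v w) := fun v hv => by
    have h := (actC_spec w (invW_lt hl) v hv).2
    rwa [hwv, inv_inv] at h
  have hfc : ∀ v < 2048, α.f (jHom q) * α.f (el v) * (α.f (jHom q))⁻¹ = α.f (el (actC v w)) := fun v hv => by
    rw [← α.map_conj (j_mem q) (el_mem v), hconj v hv]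
  have hκz : α.f (jHom q) ∈ centralizer ({z} : Set G) := by
    refine mem_centralizer_singleton_iff.mpr (mul_inv_eq_iff_eq_mul.mp ?_)
    have h := hfc v0 (by decide)
    rw [h0, α.base] at h
    exact h
  obtain ⟨e, he, hev⟩ := C.fix_mem hκz (α.N_mem _ (j_mem q)) fun t ht => by
    obtain ⟨c, hc, rfl⟩ := (α.inner_iff hG).mp ht
    have hlt : c < 2048 := by
      have := inner_ok
      simp only [innerOK, Bool.and_eq_true, List.all_eq_true, decide_eq_true_eq] at this
      exact (this.1.1.2 c hc).1.1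
    rw [hfc c hlt, ← α.el_mul]
    rcases h36 c hc with e | e <;> rw [e]
    · exact Or.inl α.el_zero'
    · exact Or.inr α.base
  have hκ : α.f (jHom q) ∈ C.E :=
    C.complement_E α.compl_le α.compl_inf α.compl_sup ⟨q, rfl⟩ he hev
  rw [bG, α.map_mul _ (el_mem _) _ (j_mem _)]
  exact mul_mem ha hκ

/-- The map of coordinates. -/
noncomputable def Rl : List ℕ := (List.range 12).map fun j => C.π (α.f (bG j))

theorem eE_spec [IsSimpleGroup G] (hG : ¬ IsMulCommutative G) (x : ℕ) :
    eE x ∈ KJ ∧ α.f (eE x) ∈ C.E ∧ C.π (α.f (eE x)) = mv α.Rl x := by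
  have key : ∀ (L : List Spor.J4), (∀ g ∈ L, g ∈ KJ ∧ α.f g ∈ C.E) → ∀ x : ℕ,
      J4Cert.ev L x ∈ KJ ∧ α.f (J4Cert.ev L x) ∈ C.E ∧
        C.π (α.f (J4Cert.ev L x)) = mv (L.map fun g => C.π (α.f g)) x := by
    intro L
    induction L with
    | nil => intro _ x; simp [J4Cert.ev, mv, α.map_one, C.π_one]
    | cons g L ih =>
      intro hL x
      simp only [List.forall_mem_cons] at hL
      obtain ⟨⟨hg, hgE⟩, hL'⟩ := hL
      obtain ⟨i1, i2, i3⟩ := ih hL' (x / 2)
      simp only [J4Cert.ev, List.map_cons, mv, beq_iff_eq]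
      split
      · refine ⟨mul_mem hg i1, ?_, ?_⟩ <;> rw [α.map_mul _ hg _ i1]
        · exact mul_mem hgE i2
        · rw [C.π_mul _ hgE _ i2, i3]
      · rw [one_mul, Nat.zero_xor]
        exact ⟨i1, i2, i3⟩
  have h := key ((List.range 12).map bG) (fun g hg => by
    obtain ⟨j, hj, rfl⟩ := List.mem_map.mp hg
    exact ⟨bG_mem j, α.bG_E hG (List.mem_range.mp hj)⟩) x
  rw [List.map_map] at h
  exact h

theorem Rl_lt : ∀ m ∈ α.Rl, m < 4096 := by
  intro m hm
  obtain ⟨j, -, rfl⟩ := List.mem_map.mp hm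
  exact C.π_lt _

theorem Rl_getD {j : ℕ} (hj : j < 12) : α.Rl.getD j 0 = C.π (α.f (bG j)) := by
  rw [Rl, List.getD_eq_getElem _ _ (by simpa using hj)]; simp

theorem Rl_pow [IsSimpleGroup G] (hG : ¬ IsMulCommutative G) {j : ℕ} (hj : j < 12) :
    mv α.Rl (2 ^ j) = C.π (α.f (bG j)) := by
  rw [← (α.eE_spec hG (2 ^ j)).2.2, eE_pow hj]

theorem forms [IsSimpleGroup G] (hG : ¬ IsMulCommutative G) :
    (∀ i < 12, qB (C.π (α.f (bG i))) = qB (2 ^ i)) ∧
      ∀ i < 12, ∀ j < 12, pB (C.π (α.f (bG i))) (C.π (α.f (bG j))) = pB (2 ^ i) (2 ^ j) := by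
  refine ⟨fun i hi => ?_, fun i hi j hj => ?_⟩
  · have h := congrArg α.f (sq_spec hi)
    rw [α.map_mul _ (bG_mem i) _ (bG_mem i)] at h
    have h2 := C.π_sq _ (α.bG_E hG hi)
    cases hq : qB (2 ^ i)
    · rw [hq, cond_false, α.map_one] at h
      exact h2.mp h
    · rw [hq, cond_true, α.base] at h
      by_contra hc
      exact C.X.ne (h.symm.trans (h2.mpr (Bool.not_eq_true _ |>.mp hc)))
  · have hiff : Commute (α.f (bG i)) (α.f (bG j)) ↔ Commute (bG i) (bG j) := by
      constructor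
      · intro h
        refine α.inj _ (mul_mem (bG_mem i) (bG_mem j)) _ (mul_mem (bG_mem j) (bG_mem i)) ?_
        rw [α.map_mul _ (bG_mem i) _ (bG_mem j), α.map_mul _ (bG_mem j) _ (bG_mem i), h.eq]
      · intro h
        show _ = _
        rw [← α.map_mul _ (bG_mem i) _ (bG_mem j), ← α.map_mul _ (bG_mem j) _ (bG_mem i), h.eq]
    have h1 := (C.π_comm _ (α.bG_E hG hi) _ (α.bG_E hG hj)).symm.trans (hiff.trans (comm_spec hi hj))
    cases h : pB (2 ^ i) (2 ^ j)
    · exact h1.mpr h
    · by_contra hc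
      rw [h] at h1
      exact Bool.noConfusion (h1.mp (Bool.not_eq_true _ |>.mp hc))

theorem Rl_wOf [IsSimpleGroup G] (hG : ¬ IsMulCommutative G) {b : ℕ} (hb : b < 64) :
    mv α.Rl (wOf b) = C.π (α.f (el (cOf b))) := by
  refine lin_ext (f := fun b => mv α.Rl (wOf b)) (g := fun b => C.π (α.f (el (cOf b)))) (· ^^^ ·) 6
    (fun a b => by simp [wOf, mv_xor]) (fun a b => ?_) ?_ (fun i hi => ?_) b hb
  · show C.π (α.f (el (cOf (a ^^^ b)))) = _
    rw [cOf, mv_xor, ← cOf, ← cOf, α.el_mul, C.π_mul _ (α.cOf_E hG a) _ (α.cOf_E hG b)]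
  · simp only [wOf, cOf, mv_zero, α.el_zero', C.π_one]
  · have h := wInj_ok
    simp only [wInjOK, Bool.and_eq_true, List.all_eq_true, List.mem_range, beq_iff_eq] at h
    rw [(h.2 i hi).1, (h.2 i hi).2, ← (α.eE_spec hG _).2.2, (cW_spec hi).2]

theorem Rl_partW [IsSimpleGroup G] (hG : ¬ IsMulCommutative G) {x : ℕ} (hx : x ∈ partW 1) :
    mv α.Rl x ∈ partW 1 := by
  have hin := inner_ok
  simp only [innerOK, Bool.and_eq_true, List.all_eq_true, List.any_eq_true, List.mem_range, beq_iff_eq] at hin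
  obtain ⟨b, hb, rfl⟩ := hin.1.1.1.1.1 x (mem_partW.mp hx).1
  rw [α.Rl_wOf hG hb]
  refine ((α.inner_iff hG).mpr ⟨cOf b, ?_, rfl⟩).2
  exact List.mem_flatMap.mpr ⟨b, List.mem_filter.mpr ⟨List.mem_range.mpr hb, List.contains_iff_mem.mpr hx⟩, by simp⟩

theorem Rl_injW [IsSimpleGroup G] (hG : ¬ IsMulCommutative G) {x : ℕ} (hx : x ∈ W0) (h : mv α.Rl x = 0) : x = 0 := by
  have hin := inner_ok
  simp only [innerOK, Bool.and_eq_true, List.all_eq_true, List.any_eq_true, List.mem_range, beq_iff_eq] at hin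
  obtain ⟨b, hb, rfl⟩ := hin.1.1.1.1.1 x hx
  rw [α.Rl_wOf hG hb] at h
  have hw := wInj_ok
  simp only [wInjOK, Bool.and_eq_true, List.all_eq_true, List.mem_range, Bool.or_eq_true, beq_iff_eq,
    bne_iff_ne, ne_eq] at hw
  rcases hw.1.2 b hb with rfl | ⟨h1, h2⟩
  · exact mv_zero _
  · exfalso
    rcases (C.π_zero _ (α.cOf_E hG b)).mp h with e | e
    · exact h1 (el_inj (cOf_lt b) (by norm_num) (α.inj _ (el_mem _) _ (el_mem 0) (e.trans α.el_zero'.symm)))
    · exact h2 (el_inj (cOf_lt b) (by decide) (α.inj _ (el_mem _) _ (el_mem v0) (e.trans α.base.symm)))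

end Emb

end Cfsg.Lib.JankoFour.Unique
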