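import Cfsg.Agent.JankoFour.Unique.BasisChecks
import Cfsg.Agent.J4Cert.CentBound

/-!
The basis of the extraspecial subgroup inside the subgroup 2^11:M24 of the presented group.
-/

set_option autoImplicit false
set_option maxRecDepth 100000

namespace Cfsg.Lib.JankoFour.Unique

open Cfsg Cfsg.Lib.J4Cert Cfsg.Lib.J4Pres
open Cfsg.Lib.J4Rep (va)
open Cfsg.Lib.CosetTable
open _root_.Cfsg.Lib.JankoFour.Unique.Data (bA bU bMat cW)
open JankoFour.Data (w0B)

attribute [local irreducible] eBasis mB Data.bMat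

theorem mok_eq {g h : Spor.J4} {A : List ℕ} (hg : MOK g A) (hh : MOK h A) : g = h :=
  rhoG_injective (hg.rho_eq hh)

theorem mok_cast {g : Spor.J4} {A B : List ℕ} (hg : MOK g A) (h : (A == B) = true) : MOK g B :=
  beq_iff_eq.mp h ▸ hg

theorem wval_letters : ∀ (w : List ℕ), (∀ l ∈ w, l < 3) → wval letG w = jHom (wval im w)
  | [], _ => by simp [wval]
  | l :: w, h => by
    simp only [List.forall_mem_cons] at h
    have e : ∀ {A : Type} [Group A] (g : ℕ → A), wval g (l :: w) = g l * wval g w := fun g => by simp [wval]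
    rw [e, e, _root_.map_mul, wval_letters w h.2, letG_eq h.1]

theorem invW_lt {w : List ℕ} (h : ∀ l ∈ w, l < 3) : ∀ l ∈ invW w, l < 3 := by
  intro l hl
  simp only [invW, List.mem_reverse, List.mem_map] at hl
  obtain ⟨a, ha, rfl⟩ := hl
  exact (by decide : ∀ a < 3, invL a < 3) a (h a ha)

theorem word_mok {w : List ℕ} (h : ∀ l ∈ w, l < 3) :
    MOK (jHom (wval im w)) (wordM w) ∧ MOK (jHom (wval im w))⁻¹ (wordM (invW w)) := by
  rw [← wval_letters w h, ← wval_invW]
  exact ⟨wordM_ok w, wordM_ok _⟩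

theorem actC_spec : ∀ (w : List ℕ), (∀ l ∈ w, l < 3) → ∀ v < 2048, actC v w < 2048 ∧
    (jHom (wval im w))⁻¹ * el v * jHom (wval im w) = el (actC v w)
  | [], _, v, hv => ⟨hv, by simp [wval, actC]⟩
  | l :: w, h, v, hv => by
    simp only [List.forall_mem_cons] at h
    obtain ⟨h1, h2⟩ := actC_spec w h.2 _ (va_rows_lt h.1 v)
    refine ⟨h1, ?_⟩
    rw [show actC v (l :: w) = actC (va v (eRows.getD l [])) w from rfl, ← h2, ← conj_letter h.1,
      show wval im (l :: w) = im l * wval im w by simp [wval], _root_.map_mul]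
    group

/-- The basis of the extraspecial subgroup. -/
noncomputable def bG (j : ℕ) : Spor.J4 := el (bA.getD j 0) * jHom (wval im (bU.getD j []))

/-- The element with a given code. -/
noncomputable def eE (x : ℕ) : Spor.J4 := J4Cert.ev ((List.range 12).map bG) x

/-- The element with a code and a central part. -/
noncomputable def eEz (e : ℕ × Bool) : Spor.J4 := eE e.1 * bif e.2 then el Data.v0 else 1

theorem basis_spec {j : ℕ} (hj : j < 12) : (∀ l ∈ bU.getD j [], l < 3) ∧ bA.getD j 0 < 2048 ∧
    MOK (bG j) (bMat.getD j []) := by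
  have h := basis_ok
  simp only [basisOK, List.all_eq_true, List.mem_range, Bool.and_eq_true, decide_eq_true_eq] at h
  obtain ⟨⟨h1, h2⟩, h3⟩ := h j hj
  exact ⟨h1, h2, mok_cast ((el_mok _).mul (word_mok h1).1) h3⟩

theorem bG_mem (j : ℕ) : bG j ∈ KJ := mul_mem (el_mem _) (j_mem _)

theorem bMat_len : bMat.length = 12 := by
  unfold Data.bMat
  rfl

theorem bList_mok : List.Forall₂ MOK ((List.range 12).map bG) bMat := by
  refine List.forall₂_iff_get.mpr ⟨by rw [List.length_map, List.length_range, bMat_len], fun i h1 h2 => ?_⟩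
  rw [List.length_map, List.length_range] at h1
  have := (basis_spec h1).2.2
  rw [List.getD_eq_getElem _ _ h2] at this
  simpa using this

theorem eE_mok (x : ℕ) : MOK (eE x) (evM bMat x) := evM_ok bList_mok x

theorem zE_mok (b : Bool) : MOK (bif b then el Data.v0 else 1) (zE b) := by
  cases b
  · exact MOK.one
  · exact el_mok _

theorem eEz_mok (e : ℕ × Bool) : MOK (eEz e) (eM e) := (eE_mok e.1).mul (zE_mok e.2)

theorem conjRow_sound {g : Spor.J4} {M Mi : List ℕ} {r : List (ℕ × Bool)} (h : conjRow M Mi r = true)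
    (hg : MOK g M) (hgi : MOK g⁻¹ Mi) {j : ℕ} (hj : j < 12) : g * bG j * g⁻¹ = eEz (r.getD j (0, false)) := by
  simp only [conjRow, List.all_eq_true, List.mem_range] at h
  exact mok_eq (mok_cast ((hg.mul (basis_spec hj).2.2).mul hgi) (h j hj)) (eEz_mok _)

theorem ev_pow : ∀ (l : List Spor.J4) (i : ℕ), J4Cert.ev l (2 ^ i) = l.getD i 1 := by
  intro l
  induction l with
  | nil => intro i; simp [J4Cert.ev]
  | cons g l ih =>
    intro i
    have hz : ∀ l : List Spor.J4, J4Cert.ev l 0 = 1 := fun l => by induction l <;> simp_all [J4Cert.ev]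
    cases i with
    | zero => rw [J4Cert.ev, pow_zero, if_pos (by norm_num), show (1 : ℕ) / 2 = 0 from rfl, hz, mul_one, List.getD_cons_zero]
    | succ i =>
      rw [J4Cert.ev, pow_succ, Nat.mul_mod_left, if_neg (by norm_num), one_mul, Nat.mul_div_cancel _ two_pos, ih i,
        List.getD_cons_succ]

theorem eE_pow {j : ℕ} (hj : j < 12) : eE (2 ^ j) = bG j := by
  rw [eE, ev_pow, List.getD_eq_getElem _ _ (by simpa using hj)]
  simp

theorem sq_spec {i : ℕ} (hi : i < 12) : bG i * bG i = bif qB (2 ^ i) then el Data.v0 else 1 := by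
  have h := forms_ok
  simp only [formsOK, List.all_eq_true, List.mem_range, Bool.and_eq_true] at h
  exact mok_eq (mok_cast ((basis_spec hi).2.2.mul (basis_spec hi).2.2) (h i hi).1) (zE_mok _)

theorem comm_spec {i j : ℕ} (hi : i < 12) (hj : j < 12) : Commute (bG i) (bG j) ↔ pB (2 ^ i) (2 ^ j) = false := by
  have h := forms_ok
  simp only [formsOK, List.all_eq_true, List.mem_range, Bool.and_eq_true, beq_iff_eq] at h
  have e := (h i hi).2 j hj
  have hm1 := (basis_spec hi).2.2.mul (basis_spec hj).2.2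
  have hm2 := (basis_spec hj).2.2.mul (basis_spec hi).2.2
  constructor
  · intro hc
    by_contra hp
    rw [Bool.not_eq_false] at hp
    rw [hp, Bool.not_true, beq_eq_false_iff_ne] at e
    refine e ?_
    -- equal elements have equal matrices
    exact (mok_unique (hc.eq ▸ hm1) hm2)
  · intro hp
    rw [hp, Bool.not_false, beq_iff_eq] at e
    exact mok_eq (e ▸ hm1) hm2
where
  mok_unique {g : Spor.J4} {A B : List ℕ} (hA : MOK g A) (hB : MOK g B) : A = B := by
    obtain ⟨⟨la, ha⟩, lb, hb⟩ := And.intro (And.intro hA.1 hA.2) hB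
    simp only [okMat, Bool.and_eq_true, List.all_eq_true, decide_eq_true_eq] at la lb
    have l1 := Nat.eq_of_beq_eq_true la.1
    have l2 := Nat.eq_of_beq_eq_true lb.1
    refine List.ext_getElem (l1.trans l2.symm) fun i h1 h2 => ?_
    have hi : 2 ^ i < 2 ^ 112 := Nat.pow_lt_pow_right (by norm_num) (l1 ▸ h1)
    have key : ∀ (L : List ℕ) (i : ℕ) (hL : i < L.length), va (2 ^ i) L = L[i] := by
      intro L
      induction L with
      | nil => intro i h; simp at h
      | cons r L ih =>
        intro i h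
        cases i with
        | zero => simp [va, J4Rep.va_zero]
        | succ i =>
          rw [va, pow_succ, Nat.mul_mod_left, if_neg (by norm_num), Nat.zero_xor, Nat.mul_div_cancel _ two_pos,
            ih i (by simpa using h), List.getElem_cons_succ]
    have := (ha ⟨2 ^ i, hi⟩).symm.trans (hb ⟨2 ^ i, hi⟩)
    rwa [key A i h1, key B i h2] at this

theorem cW_spec {i : ℕ} (hi : i < 6) : cW.getD i 0 < 2048 ∧ eE (w0B.getD i 0) = el (cW.getD i 0) := by
  have h := cW_ok
  simp only [cWOK, List.all_eq_true, List.mem_range, Bool.and_eq_true, decide_eq_true_eq] at h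
  exact ⟨(h i hi).1, mok_eq (mok_cast (eE_mok _) (h i hi).2) (el_mok _)⟩

end Cfsg.Lib.JankoFour.Unique
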