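import Cfsg.Agent.JankoFour.Unique.Twist
import Cfsg.Agent.JankoFour.Unique.ConjChecks

/-!
The isomorphism can be normalised so that it respects coordinates.
-/

set_option autoImplicit false
set_option maxRecDepth 100000
set_option maxHeartbeats 1000000
set_option linter.style.haveILetI false
set_option linter.unusedSectionVars false

namespace Cfsg.Lib.JankoFour.Unique

open Cfsg Subgroup
open Cfsg.Lib.J4Cert (KJ jHom invW)
open Cfsg.Lib.J4Pres (P im)
open Cfsg.Lib.CosetTable (wval)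
open _root_.Cfsg.Lib.JankoFour.Data (W0 w0B X0)
open _root_.Cfsg.Lib.JankoFour.Unique.Data (kGens kRows kDec nT kerS projS v0)

/-- The generators in the standard model. -/
def decOK : Bool :=
  (List.range 3).all (fun g => let d := kDec.getD g ([], 0)
    d.1.all (fun i => decide (i < 5)) && decide (d.2 < 256) && mm (wM gens5 d.1) (elt d.2) == kMat g &&
      w0B.all fun b => W0.contains (mv (kMat g) b)) && fix16.all (fun n => (spanL X0.2).contains n)

theorem dec_ok' : decOK = true := by decide +kernel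

theorem xor_bits {a b n : ℕ} : (a ^^^ b) % 2 ^ n = a % 2 ^ n ^^^ b % 2 ^ n := Nat.xor_mod_two_pow ..

theorem fOf_xor (s t j : ℕ) : fOf (s ^^^ t) j = fOf s j ^^^ fOf t j := by
  simp only [fOf, wOf, Nat.shiftRight_xor_distrib]
  rw [show (64 : ℕ) = 2 ^ 6 from rfl, xor_bits, mv_xor]

theorem mv_map_xor {f g : ℕ → ℕ} : ∀ (L : List ℕ) (x : ℕ),
    mv (L.map fun j => f j ^^^ g j) x = mv (L.map f) x ^^^ mv (L.map g) x
  | [], x => by simp [mv]
  | j :: L, x => by
    simp only [List.map_cons, mv, mv_map_xor L (x / 2)]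
    split <;> simp [Nat.xor_assoc, Nat.xor_left_comm]

theorem obsS_xor (s t : ℕ) : obsS (s ^^^ t) = obsS s ^^^ obsS t := by
  have hc : ∀ q, cond (s ^^^ t) q = cond s q ^^^ cond t q := fun q => by
    simp only [cond, fLin, show (fun j => fOf (s ^^^ t) j) = fun j => fOf s j ^^^ fOf t j from funext fun j => fOf_xor s t j,
      mv_map_xor, fOf_xor, mv_xor, Nat.shiftRight_xor_distrib]
    rw [show (16 : ℕ) = 2 ^ 4 from rfl, xor_bits, mv_xor]
    ac_rfl
  unfold obsS
  induction List.range 36 with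
  | nil => simp
  | cons q l ih =>
    simp only [List.foldr_cons]
    rw [ih, hc, Nat.shiftLeft_xor_distrib]
    ac_rfl

theorem solve_sound {s : ℕ} (hs : s < 2 ^ 84) (h : ∀ q < 36, cond s q = 0) : ∃ k < 64, s = mv kerS k := by
  have hk := solve_ok
  simp only [solveOK, Bool.and_eq_true, List.all_eq_true, List.mem_range, beq_iff_eq, decide_eq_true_eq] at hk
  have h0 : obsS s = 0 := by
    unfold obsS
    have : ∀ l : List ℕ, (∀ q ∈ l, q < 36) → l.foldr (fun q r => (cond s q <<< (12 * q)) ^^^ r) 0 = 0 := by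
      intro l
      induction l with
      | nil => intro _; rfl
      | cons q l ih =>
        intro hl
        simp only [List.forall_mem_cons] at hl
        rw [List.foldr_cons, ih hl.2, h q hl.1, Nat.zero_shiftLeft, Nat.zero_xor]
    exact this _ fun q hq => List.mem_range.mp hq
  have hz : obsS 0 = 0 := by have := obsS_xor 0 0; simpa using this
  have key := lin_ext (f := fun x => mv Data.rec (obsS x) ^^^ mv kerS (mv projS x)) (g := id) (· ^^^ ·) 84
    (fun a b => by simp only [obsS_xor, mv_xor]; ac_rfl) (fun a b => rfl)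
    (by simp only [hz, mv_zero, Nat.xor_zero, id]) (fun i hi => hk.1.1 i hi) s hs
  refine ⟨mv projS s, mv_lt (n := 6) hk.1.2 s, ?_⟩
  simp only [h0, mv_zero, Nat.zero_xor, id] at key
  exact key.symm

/-- Packed digits. -/
def pack (w : ℕ) : List ℕ → ℕ
  | [] => 0
  | a :: l => a + 2 ^ w * pack w l

theorem pack_get (w : ℕ) : ∀ (l : List ℕ), (∀ a ∈ l, a < 2 ^ w) → ∀ i, (pack w l >>> (w * i)) % 2 ^ w = l.getD i 0
  | [], _, i => by simp [pack]
  | a :: l, h, i => by
    simp only [List.forall_mem_cons] at h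
    cases i with
    | zero => simp [pack, Nat.mod_eq_of_lt h.1]
    | succ i =>
      rw [List.getD_cons_succ, ← pack_get w l h.2 i, Nat.mul_succ, Nat.add_comm, Nat.shiftRight_add, pack]
      simp only [Nat.shiftRight_eq_div_pow]
      rw [Nat.add_mul_div_left _ _ (Nat.two_pow_pos w), Nat.div_eq_of_lt h.1, zero_add]

theorem pack_lt (w : ℕ) : ∀ (l : List ℕ), (∀ a ∈ l, a < 2 ^ w) → pack w l < 2 ^ (w * l.length)
  | [], _ => by simp [pack]
  | a :: l, h => by
    simp only [List.forall_mem_cons] at h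
    have := pack_lt w l h.2
    rw [pack, List.length_cons, Nat.mul_succ, pow_add, mul_comm (2 ^ (w * l.length))]
    calc a + 2 ^ w * pack w l < 2 ^ w + 2 ^ w * pack w l := Nat.add_lt_add_right h.1 _
      _ = 2 ^ w * (pack w l + 1) := by ring
      _ ≤ _ := Nat.mul_le_mul_left _ this

theorem wOf_mem {b : ℕ} (hb : b < 64) : wOf b ∈ W0 := by
  have h := inner_ok
  simp only [innerOK, Bool.and_eq_true, List.all_eq_true, List.contains_iff_mem] at h
  exact h.1.1.1.1.2 b (List.mem_range.mpr hb)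

theorem exists_wOf {x : ℕ} (hx : x ∈ W0) : ∃ b < 64, wOf b = x := by
  have h := inner_ok
  simp only [innerOK, Bool.and_eq_true, List.all_eq_true, List.any_eq_true, List.mem_range, beq_iff_eq] at h
  exact h.1.1.1.1.1 x hx

theorem mv_range' (F : ℕ → ℕ) : ∀ (n k i : ℕ), i < n → mv ((List.range' k n).map F) (2 ^ i) = F (k + i) := by
  intro n
  induction n with
  | zero => intro k i hi; omega
  | succ n ih =>
    intro k i hi
    rw [List.range'_succ, List.map_cons, mv]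
    cases i with
    | zero => simp [mv_zero]
    | succ i =>
      rw [pow_succ, Nat.mul_mod_left, if_neg (by simp), Nat.zero_xor, Nat.mul_div_cancel _ two_pos,
        ih (k + 1) i (by omega)]
      congr 1; omega

theorem fLin_xor (s a b : ℕ) : fLin s (a ^^^ b) = fLin s a ^^^ fLin s b := mv_xor _ _ _

theorem fLin_pow (s : ℕ) {j : ℕ} (hj : j < 12) : fLin s (2 ^ j) = fOf s j := by
  rw [fLin, List.range_eq_range', mv_range' _ 12 0 j hj, Nat.zero_add]

theorem kMat_getD (g i : ℕ) : (kMat g).getD i 0 = ((kRows.getD g []).getD i (0, false)).1 := by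
  exact List.getD_map (f := Prod.fst) (l := kRows.getD g []) (d := (0, false)) (n := i)

universe u

variable {G : Type u} [Group G] [Finite G] {z : G} {P₀ : Subgroup G}

namespace Emb

variable {C : Ctx z P₀} (α : Emb C)

theorem Rl_pB [IsSimpleGroup G] (hG : ¬ IsMulCommutative G) :
    ∀ x < 4096, ∀ y < 4096, pB (mv α.Rl x) (mv α.Rl y) = pB x y := by
  refine bilin_ext (fun a a' b => by rw [mv_xor, pB_xor_left]) (fun a b b' => by rw [mv_xor, pB_xor_right])
    pB_xor_left pB_xor_right fun i hi j hj => ?_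
  rw [α.Rl_pow hG hi, α.Rl_pow hG hj]
  exact (α.forms hG).2 i hi j hj

theorem exists_fixW (α : Emb C) [IsSimpleGroup G] (hG : ¬ IsMulCommutative G) :
    ∃ β : Emb C, ∀ x ∈ W0, mv β.Rl x = x := by
  have key : ∀ (L : List (ℕ × List (ℕ × List ℕ))) (prev : List ℕ), treeOK prev L = true →
      ∀ α : Emb C, (∀ x ∈ spanX prev, mv α.Rl x = x) → ∃ β : Emb C, ∀ x ∈ W0, mv β.Rl x = x := by
    intro L
    induction L with
    | nil =>
      intro prev h α hp
      simp only [treeOK, List.all_eq_true, List.contains_iff_mem] at h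
      exact ⟨α, fun x hx => hp x (h x hx)⟩
    | cons e L ih =>
      intro prev h α hp
      obtain ⟨b, ent⟩ := e
      simp only [treeOK, Bool.and_eq_true, List.all_eq_true, Bool.or_eq_true, Bool.not_eq_true', List.any_eq_true,
        List.contains_eq_mem, decide_eq_true_eq, decide_eq_false_iff_not, beq_iff_eq] at h
      obtain ⟨⟨⟨hb, hbn⟩, hcase⟩, hrest⟩ := h
      have hc := α.Rl_partW hG hb
      have hsW : ∀ p ∈ spanX prev, p ^^^ b ∈ partW 1 → mv α.Rl (p ^^^ b) = p ^^^ mv α.Rl b := fun p hp' _ => by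
        rw [mv_xor, hp p hp']
      rcases hcase _ hc with (hspan | ⟨p, hp', h1, h2⟩) | ⟨en, hen, ⟨he1, hw⟩, hmv⟩
      · exfalso
        obtain ⟨hbW, -, -⟩ := mem_partW.mp hb
        have hcW : mv α.Rl b ∈ W0 := (mem_partW.mp hc).1
        have hR : mv α.Rl (b ^^^ mv α.Rl b) = 0 := by rw [mv_xor, hp _ hspan, Nat.xor_self]
        have := α.Rl_injW hG (W0_xor hbW hcW) hR
        exact hbn (Nat.xor_eq_zero_iff.mp this ▸ hspan)
      · exact absurd (hsW p hp' h1 ▸ α.Rl_partW hG h1) h2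
      · simp only [wordOK, Bool.and_eq_true, List.all_eq_true, decide_eq_true_eq, beq_iff_eq,
          List.contains_eq_mem] at hw
        obtain ⟨hw5, hwW, hwp⟩ := hw
        obtain ⟨g, hg, hgr⟩ := C.exists_word en.2 hw5
        have hgM : g ∈ C.M := C.mem_M_of_rep hg hgr hwW
        refine ih _ hrest (α.conjBy hgM) fun x hx => ?_
        rw [α.conjBy_Rl hG hgM hgr, mv_mm]
        have hprev : ∀ y ∈ spanX prev, mv (wM gens5 en.2) y = y :=
          spanX_ind (p := fun y => mv (wM gens5 en.2) y = y) (mv_zero _) prev fun q hq y hy => by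
            rw [mv_xor, hy, hwp q hq]
        simp only [spanX, List.mem_append, List.mem_map] at hx
        rcases hx with hx | ⟨y, hy, rfl⟩
        · rw [hp x hx, hprev x hx]
        · rw [mv_xor, mv_xor, hp y hy, hprev y hy, hmv]
  exact key Data.tree [] tree_ok' α fun x hx => by
    rw [show x = 0 by simpa [spanX] using hx, mv_zero]

theorem gen_matrix [IsSimpleGroup G] (hG : ¬ IsMulCommutative G) (hW : ∀ x ∈ W0, mv α.Rl x = x) {g : ℕ} (hg : g < 3) :
    ∃ i < 16, ∀ j < 12, mv α.Rl ((kMat g).getD j 0) = mv (elt (fix16.getD i 0)) (mv (kMat g) (α.Rl.getD j 0)) := by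
  have hd := dec_ok'
  simp only [decOK, Bool.and_eq_true, List.all_eq_true, List.mem_range, decide_eq_true_eq, beq_iff_eq,
    List.contains_eq_mem] at hd
  obtain ⟨⟨⟨hw5, hn⟩, hmat⟩, hstab⟩ := hd.1 g hg
  obtain ⟨h₁, hh₁, hr₁⟩ := C.exists_word _ hw5
  obtain ⟨h₂, hh₂, hr₂⟩ := C.exists_elt hn
  have hrH := C.rep_mul hh₂ hr₁ hr₂
  rw [hmat] at hrH
  set h := h₁ * h₂
  have hhH : h ∈ centralizer ({z} : Set G) := mul_mem hh₁ hh₂
  have hhM : h ∈ C.M := C.mem_M_of_rep hhH hrH hstab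
  have hgc := genConj_ok
  simp only [genConjOK, List.all_eq_true, List.mem_range, Bool.and_eq_true, decide_eq_true_eq, beq_iff_eq] at hgc
  obtain ⟨⟨⟨hl, hfix⟩, hrlt⟩, hconj⟩ := hgc g hg
  set m := jHom (wval im (kGens.getD g [])) with hm
  have hmK : m ∈ KJ := j_mem _
  have hmv0 : m * el v0 * m⁻¹ = el v0 := by
    have h := (actC_spec (invW (kGens.getD g [])) (invW_lt hl) v0 (by decide)).2
    rwa [hfix, ← wval_letters _ (invW_lt hl), J4Cert.wval_invW, wval_letters _ hl, ← hm, inv_inv] at h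
  have hfH : α.f m ∈ centralizer ({z} : Set G) := by
    have h := α.map_conj hmK (el_mem v0)
    rw [hmv0, α.base] at h
    exact mem_centralizer_singleton_iff.mpr (mul_inv_eq_iff_eq_mul.mp h.symm)
  have hfM : α.f m ∈ C.M := by rw [C.M_eq]; exact ⟨α.N_mem m hmK, hfH⟩
  -- conjugation on codes
  have hconjb : ∀ j < 12, C.π (α.f m * α.f (bG j) * (α.f m)⁻¹) = mv α.Rl ((kMat g).getD j 0) := fun j hj => by
    rw [← α.map_conj hmK (bG_mem j), conjRow_sound hconj (word_mok hl).1 (word_mok hl).2 hj, kMat_getD]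
    generalize (kRows.getD g []).getD j (0, false) = e
    obtain ⟨hK, hE, hπ⟩ := α.eE_spec hG e.1
    rw [eEz]
    cases e.2
    · rw [cond_false, mul_one, hπ]
    · rw [cond_true, α.map_mul _ hK _ (el_mem _), α.base, C.π_mul _ hE _ C.X.mem,
        (C.π_zero z C.X.mem).mpr (Or.inr rfl), Nat.xor_zero, hπ]
  have hconjx : ∀ x < 4096, C.π (α.f m * α.f (eE x) * (α.f m)⁻¹) = mv α.Rl (mv (kMat g) x) := by
    have hconj_mul : ∀ a b : G, α.f m * (a * b) * (α.f m)⁻¹ = α.f m * a * (α.f m)⁻¹ * (α.f m * b * (α.f m)⁻¹) :=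
      fun a b => by group
    refine lin_ext (g := fun x => mv α.Rl (mv (kMat g) x)) (· ^^^ ·) 12 (fun a b => ?_)
      (fun a b => by simp [mv_xor]) ?_ (fun j hj => ?_)
    · show C.π (α.f m * α.f (eE (a ^^^ b)) * (α.f m)⁻¹) = _
      obtain ⟨-, hEa, hπa⟩ := α.eE_spec hG a
      obtain ⟨-, hEb, hπb⟩ := α.eE_spec hG b
      obtain ⟨-, hEab, hπab⟩ := α.eE_spec hG (a ^^^ b)
      rcases C.π_eq hEab (mul_mem hEa hEb) (by rw [hπab, C.π_mul _ hEa _ hEb, hπa, hπb, mv_xor]) with e | e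
      · rw [e, hconj_mul, C.π_mul _ (C.conj_mem hfH hEa) _ (C.conj_mem hfH hEb)]
      · rw [e, hconj_mul, show α.f m * z * (α.f m)⁻¹ = z by rw [(C.z_comm hfH).eq, mul_inv_cancel_right],
          C.π_z_mul (C.conj_mem hfH (mul_mem hEa hEb)), hconj_mul,
          C.π_mul _ (C.conj_mem hfH hEa) _ (C.conj_mem hfH hEb)]
    · show C.π (α.f m * α.f (J4Cert.ev _ 0) * (α.f m)⁻¹) = _
      have : ∀ L : List Spor.J4, J4Cert.ev L 0 = 1 := fun L => by induction L <;> simp_all [J4Cert.ev]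
      rw [this, α.map_one, mul_one, mul_inv_cancel, C.π_one, mv_zero, mv_zero]
    · show C.π (α.f m * α.f (eE (2 ^ j)) * (α.f m)⁻¹) = _
      rw [eE_pow hj, hconjb j hj]
      congr 1
      have hlen : ∀ g < 3, ∀ j < 12, mv (kMat g) (2 ^ j) = (kMat g).getD j 0 := by decide +kernel
      exact (hlen g hg j hj).symm
  set k := α.f m * h⁻¹ with hk
  have hkM : k ∈ C.M := mul_mem hfM (inv_mem hhM)
  have hkfix : ∀ q ∈ C.Wt, C.π (k * q * k⁻¹) = C.π q := by
    intro q hq
    have hq' : h⁻¹ * q * h⁻¹⁻¹ ∈ C.Wt := (inv_mem hhM : h⁻¹ ∈ C.M).2 q hq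
    set q' := h⁻¹ * q * h⁻¹⁻¹ with hq'def
    have e : k * q * k⁻¹ = α.f m * q' * (α.f m)⁻¹ := by rw [hk, hq'def]; group
    have e2 : q = h * q' * h⁻¹ := by rw [hq'def]; group
    rw [e, e2, hrH q' hq'.1]
    obtain ⟨b, hb, hbx⟩ := exists_wOf hq'.2
    obtain ⟨-, hE, hπ⟩ := α.eE_spec hG (C.π q')
    have hx : C.π q' < 4096 := C.π_lt _
    have e3 : C.π (α.f m * q' * (α.f m)⁻¹) = C.π (α.f m * α.f (eE (C.π q')) * (α.f m)⁻¹) := by
      rcases C.π_eq hq'.1 hE (by rw [hπ, hW _ hq'.2]) with r | r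
      · rw [← r]
      · conv_lhs => rw [r]
        rw [show α.f m * (z * α.f (eE (C.π q'))) * (α.f m)⁻¹ = (α.f m * z * (α.f m)⁻¹) * (α.f m * α.f (eE (C.π q')) * (α.f m)⁻¹) by group,
          show α.f m * z * (α.f m)⁻¹ = z by rw [(C.z_comm hfH).eq, mul_inv_cancel_right],
          C.π_z_mul (C.conj_mem hfH hE)]
    rw [e3, hconjx _ hx, hW _ (W0_stable hstab hq'.2)]
  obtain ⟨n, hn', hns, hnr⟩ := C.M_card.2 k hkM hkfix
  have hrf : RepBy C.E C.π (α.f m) (mm (elt n) (kMat g)) := by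
    have := C.rep_mul hhH hnr hrH
    rwa [hk, inv_mul_cancel_right] at this
  obtain ⟨i, hi, rfl⟩ : ∃ i < 16, fix16.getD i 0 = n := by
    obtain ⟨i, hi, rfl⟩ := List.getElem_of_mem hns
    exact ⟨i, lt_of_lt_of_eq hi (by decide +kernel), List.getD_eq_getElem _ _ hi⟩
  refine ⟨i, hi, fun j hj => ?_⟩
  rw [← hconjb j hj, hrf _ (α.bG_E hG hj), mv_mm, α.Rl_getD hj]

theorem exists_frame (α : Emb C) [IsSimpleGroup G] (hG : ¬ IsMulCommutative G) : ∃ β : Emb C, β.Rl = idM := by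
  obtain ⟨β, hW⟩ := α.exists_fixW hG
  have hbits : ∀ j : Fin 12, ∃ b < 64, wOf b = β.Rl.getD j 0 ^^^ 2 ^ (j : ℕ) := fun j => by
    refine exists_wOf ?_
    have hj2 : 2 ^ (j : ℕ) < 4096 := Nat.pow_lt_pow_right (by norm_num) j.2 |>.trans_le (by norm_num)
    have hlt : β.Rl.getD j 0 ^^^ 2 ^ (j : ℕ) < 4096 := by
      rw [β.Rl_getD j.2]; exact Nat.xor_lt_two_pow (n := 12) (C.π_lt _) hj2
    obtain ⟨q, hq, hπq⟩ := C.π_surj _ hlt
    rw [← hπq]
    refine C.perp_W0 hq fun w hw => (C.π_comm q hq w hw.1).mpr ?_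
    rw [hπq, pB_xor_left, β.Rl_getD j.2, ← β.Rl_pow hG j.2]
    conv_lhs => arg 1; rw [← hW _ hw.2]
    rw [β.Rl_pB hG _ hj2 _ (C.π_lt w), Bool.xor_self]
  choose bits hb64 hbits using hbits
  choose ns hns hnsj using fun g : Fin 3 => β.gen_matrix hG hW g.2
  set s := pack 6 (List.ofFn bits) + 2 ^ 72 * pack 4 (List.ofFn ns) with hs
  have hb' : ∀ a ∈ List.ofFn bits, a < 2 ^ 6 := fun a ha => by
    obtain ⟨j, rfl⟩ := List.mem_ofFn.mp ha; exact hb64 j
  have hn' : ∀ a ∈ List.ofFn ns, a < 2 ^ 4 := fun a ha => by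
    obtain ⟨j, rfl⟩ := List.mem_ofFn.mp ha; exact hns j
  have l1 : pack 6 (List.ofFn bits) < 2 ^ 72 := by
    have := pack_lt 6 _ hb'
    rwa [List.length_ofFn] at this
  have l2 : pack 4 (List.ofFn ns) < 2 ^ 12 := by
    have := pack_lt 4 _ hn'
    rwa [List.length_ofFn] at this
  have hslt : s < 2 ^ 84 := by
    rw [hs]
    calc _ < 2 ^ 72 + 2 ^ 72 * pack 4 (List.ofFn ns) := Nat.add_lt_add_right l1 _
      _ = 2 ^ 72 * (pack 4 (List.ofFn ns) + 1) := by ring
      _ ≤ 2 ^ 72 * 2 ^ 12 := Nat.mul_le_mul_left _ l2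
      _ = _ := by norm_num
  have hf : ∀ j : Fin 12, fOf s j = β.Rl.getD j 0 ^^^ 2 ^ (j : ℕ) := fun j => by
    rw [fOf, show (64 : ℕ) = 2 ^ 6 from rfl]
    have e : (s >>> (6 * (j : ℕ))) % 2 ^ 6 = (List.ofFn bits).getD j 0 := by
      rw [← pack_get 6 _ hb' j, hs, Nat.shiftRight_eq_div_pow, Nat.shiftRight_eq_div_pow]
      have hj : 6 * (j : ℕ) + 6 ≤ 72 := by have := j.2; omega
      obtain ⟨d, hd⟩ := Nat.exists_eq_add_of_le hj
      rw [show (2 : ℕ) ^ 72 * pack 4 (List.ofFn ns) = 2 ^ (6 * (j : ℕ)) * (2 ^ 6 * (2 ^ d * pack 4 (List.ofFn ns))) by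
        rw [hd, pow_add, pow_add]; ring, Nat.add_mul_div_left _ _ (Nat.two_pow_pos _), Nat.add_mul_mod_self_left]
    rw [e, List.getD_eq_getElem _ _ (by simp), List.getElem_ofFn]
    exact hbits j
  have hns' : ∀ g : Fin 3, (s >>> (72 + 4 * (g : ℕ))) % 16 = ns g := fun g => by
    rw [Nat.shiftRight_add, hs, Nat.shiftRight_eq_div_pow _ 72, Nat.add_mul_div_left _ _ (Nat.two_pow_pos _),
      Nat.div_eq_of_lt l1, zero_add, show (16 : ℕ) = 2 ^ 4 from rfl, pack_get 4 _ hn' g,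
      List.getD_eq_getElem _ _ (by simp), List.getElem_ofFn]
  have hrR : rOf s = β.Rl := by
    refine List.ext_getElem (by simp [rOf, Rl]) fun j h1 h2 => ?_
    simp only [rOf, List.length_map, List.length_range] at h1
    simp only [rOf, List.getElem_map, List.getElem_range]
    rw [hf ⟨j, h1⟩, List.getD_eq_getElem _ _ h2, Nat.xor_comm, Nat.xor_assoc, Nat.xor_self, Nat.xor_zero]
  have hfl : ∀ x < 4096, fLin s x = mv β.Rl x ^^^ x := by
    refine lin_ext (g := fun x => mv β.Rl x ^^^ x) (· ^^^ ·) 12 (fun a b => fLin_xor s a b)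
      (fun a b => by simp only [mv_xor]; ac_rfl) (by simp only [fLin, mv_zero, Nat.xor_zero]) fun j hj => ?_
    rw [fLin_pow s hj, hf ⟨j, hj⟩, β.Rl_pow hG hj,
      β.Rl_getD hj]
  have hnT := solve_ok
  simp only [solveOK, Bool.and_eq_true, List.all_eq_true, List.mem_range, beq_iff_eq] at hnT
  have hgc := genConj_ok
  simp only [genConjOK, List.all_eq_true, List.mem_range, Bool.and_eq_true, decide_eq_true_eq] at hgc
  have hfx := fix_ok
  simp only [fixOK, Bool.and_eq_true, List.all_eq_true, decide_eq_true_eq, beq_iff_eq] at hfx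
  have hd := dec_ok'
  simp only [decOK, Bool.and_eq_true, List.all_eq_true, List.mem_range, List.contains_eq_mem, decide_eq_true_eq] at hd
  have hkey : ∀ q < 36, cond s q = 0 := by
    intro q hq
    have hg : q / 12 < 3 := by omega
    have hj : q % 12 < 12 := Nat.mod_lt _ (by norm_num)
    have e := hnsj ⟨q / 12, hg⟩ (q % 12) hj
    set i := ns ⟨q / 12, hg⟩ with hi
    have e2 := hnT.2 q hq i (hns _)
    have hx : (kMat (q / 12)).getD (q % 12) 0 < 4096 := by
      rw [kMat_getD]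
      by_cases hl : q % 12 < (kRows.getD (q / 12) []).length
      · rw [List.getD_eq_getElem _ _ hl]; exact (hgc _ hg).1.2 _ (List.getElem_mem hl)
      · rw [List.getD_eq_default _ _ (by omega)]; norm_num
    simp only [cond]
    rw [hns' ⟨q / 12, hg⟩, ← hi, ← e2, hfl _ hx, e, hf ⟨q % 12, hj⟩]
    have hmem : fix16.getD i 0 ∈ fix16 := by
      rw [List.getD_eq_getElem _ _ (lt_of_lt_of_eq (hns _) (by decide +kernel))]; exact List.getElem_mem _
    have hfW : mv (kMat (q / 12)) (β.Rl.getD (q % 12) 0 ^^^ 2 ^ (q % 12)) ∈ W0 :=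
      W0_stable (hd.1 _ hg).2 ((hbits ⟨q % 12, hj⟩) ▸ wOf_mem (hb64 _))
    have h2 : mv (kMat (q / 12)) (2 ^ (q % 12)) = (kMat (q / 12)).getD (q % 12) 0 := by
      have hlen : ∀ g < 3, ∀ j < 12, mv (kMat g) (2 ^ j) = (kMat g).getD j 0 := by decide +kernel
      exact hlen _ hg _ hj
    have h3 := (hfx _ hmem).2 _ hfW
    rw [mv_xor, mv_xor, h2] at h3
    rw [mv_xor, h2]
    generalize mv (elt (fix16.getD i 0)) (mv (kMat (q / 12)) (β.Rl.getD (q % 12) 0)) = a at h3 ⊢
    generalize mv (elt (fix16.getD i 0)) ((kMat (q / 12)).getD (q % 12) 0) = b at h3 ⊢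
    generalize mv (kMat (q / 12)) (β.Rl.getD (q % 12) 0) = c at h3 ⊢
    generalize (kMat (q / 12)).getD (q % 12) 0 = d at h3 ⊢
    calc a ^^^ d ^^^ (c ^^^ d) ^^^ (b ^^^ d) = (a ^^^ b) ^^^ (c ^^^ d) ^^^ (d ^^^ d) := by ac_rfl
      _ = 0 := by rw [h3, Nat.xor_self, Nat.xor_self, Nat.zero_xor]
  obtain ⟨k, hk, hsk⟩ := solve_sound hslt hkey
  have hc := cand_ok
  simp only [candOK, List.all_eq_true, List.mem_range, Bool.or_eq_true, List.any_eq_true, beq_iff_eq,
    Bool.not_eq_true'] at hc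
  have hiso : isoB β.Rl = true := by
    simp only [isoB, List.all_eq_true, List.mem_range, Bool.and_eq_true, beq_iff_eq]
    intro i hi
    refine ⟨by rw [β.Rl_getD hi]; exact (β.forms hG).1 i hi, fun j hj => ?_⟩
    rw [β.Rl_getD hi, β.Rl_getD hj]; exact (β.forms hG).2 i hi j hj
  have := hc k hk
  rw [← hsk, hrR] at this
  rcases this with h | ⟨n, hn, h⟩
  · rw [hiso] at h; exact Bool.noConfusion h
  obtain ⟨⟨hn256, hsq⟩, -⟩ := hfx n hn
  obtain ⟨x, hx, hxr⟩ := C.exists_index_lift hn256 (hd.2 n hn)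
  have hxM : x ∈ C.M := by rw [C.M_eq]; exact ⟨le_normalizer hx, C.V_le_H hx⟩
  have hdone : ∀ γ : Emb C, γ.Rl = elt n → ∃ δ : Emb C, δ.Rl = idM := fun γ hγ =>
    ⟨γ.conjBy hxM, by rw [γ.conjBy_Rl hG hxM hxr, hγ, hsq]⟩
  rcases h with h | h
  · exact hdone β h
  · obtain ⟨γ, hγ⟩ := β.exists_twisted hG
    exact hdone γ (hγ.trans h)

end Emb

end Cfsg.Lib.JankoFour.Unique
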