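import Cfsg.Agent.JankoFour.Unique.Labels
import Cfsg.Agent.JankoFour.Unique.FrameData
import Cfsg.Agent.JankoFour.Unique.BasisData
import Cfsg.Agent.J4Cert.CentDef

/-!
Coordinates on the extraspecial subgroup of the presented group: definitions and finite conditions.
-/

set_option autoImplicit false
set_option maxRecDepth 100000

namespace Cfsg.Lib.JankoFour.Unique

open Cfsg.Lib.J4Cert (evM eBasis wordM mB eRows invW)
open Cfsg.Lib.J4Rep (va idMat)
open Cfsg.Lib.J4Pres (tabs)
open Cfsg.Lib.PermCert (ap)
open Data (bA bU bMat aX cW kGens kRows vRows tRow nT rec kerS projS pairC dRow tree v0 maskT)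
open JankoFour.Data (W0 w0B X0)

/-- The matrix of the central element or of the identity. -/
def zE (b : Bool) : List ℕ := bif b then evM eBasis v0 else idMat

/-- The matrix of a code in the extraspecial subgroup. -/
def eM (e : ℕ × Bool) : List ℕ := mB (evM bMat e.1) (zE e.2)

/-- A matrix conjugates the basis by the given rows. -/
def conjRow (M Mi : List ℕ) (r : List (ℕ × Bool)) : Bool :=
  (List.range 12).all fun j => mB (mB M (bMat.getD j [])) Mi == eM (r.getD j (0, false))

/-- The basis matrices. -/
def basisOK : Bool :=
  (List.range 12).all fun j =>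
    (bU.getD j []).all (fun l => decide (l < 3)) && decide (bA.getD j 0 < 2048) &&
      mB (evM eBasis (bA.getD j 0)) (wordM (bU.getD j [])) == bMat.getD j []

/-- Squares and commutators of the basis. -/
def formsOK : Bool :=
  (List.range 12).all fun i =>
    mB (bMat.getD i []) (bMat.getD i []) == zE (qB (2 ^ i)) && (List.range 12).all fun j =>
      (mB (bMat.getD i []) (bMat.getD j []) == mB (bMat.getD j []) (bMat.getD i [])) == !pB (2 ^ i) (2 ^ j)

/-- The abelian codes of a basis of the distinguished space. -/
def cWOK : Bool :=
  (List.range 6).all fun i => decide (cW.getD i 0 < 2048) && evM bMat (w0B.getD i 0) == evM eBasis (cW.getD i 0)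

/-- The action of a word on a code. -/
def actC (v : ℕ) (w : List ℕ) : ℕ := w.foldl (fun v k => va v (eRows.getD k [])) v

/-- The codes in the distinguished space. -/
def cOf (bits : ℕ) : ℕ := mv cW bits

/-- The vectors of the distinguished space. -/
def wOf (bits : ℕ) : ℕ := mv w0B bits

/-- The thirty-six codes of the second class. -/
def list36 : List ℕ :=
  ((List.range 64).filter fun b => (partW 1).contains (wOf b)).flatMap fun b => [cOf b, cOf b ^^^ v0]

/-- Coordinates of the distinguished space and the second class there. -/
def innerOK : Bool :=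
  W0.all (fun w => (List.range 64).any fun b => wOf b == w) &&
    (List.range 64).all (fun b => W0.contains (wOf b)) &&
    (List.range 2048).all (fun v => !(maskT.testBit v && maskT.testBit (v ^^^ v0)) || list36.contains v) &&
    list36.all (fun v => decide (v < 2048) && maskT.testBit v && maskT.testBit (v ^^^ v0)) &&
    (List.range 12).all (fun j => W0.contains (aX.getD j 0) && (List.range 64).any fun b =>
      wOf b == aX.getD j 0 && (cOf b == bA.getD j 0 || (cOf b ^^^ v0) == bA.getD j 0)) &&
    (List.range 12).all (fun j => let u := invW (bU.getD j []);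
      actC v0 u == v0 && list36.all fun c => (actC c u ^^^ c) == 0 || (actC c u ^^^ c) == v0)

/-- Validity of the tree normalising the map on the distinguished space. -/
def treeOK : List ℕ → List (ℕ × List (ℕ × List ℕ)) → Bool
  | prev, [] => W0.all fun w => (spanX prev).contains w
  | prev, (b, ent) :: r =>
    (partW 1).contains b && !(spanX prev).contains b &&
      (partW 1).all (fun c => (spanX prev).contains c ||
        (spanX prev).any (fun p => (partW 1).contains (p ^^^ b) && !(partW 1).contains (p ^^^ c)) ||
        ent.any fun e => e.1 == c && wordOK prev e.2 && mv (wM gens5 e.2) c == b) &&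
      treeOK (b :: prev) r

/-- The codes of the sixteen maps fixing the distinguished space. -/
def fix16 : List ℕ := spanL X0.2

/-- The part of a coded solution at a basis vector. -/
def fOf (s j : ℕ) : ℕ := wOf ((s >>> (6 * j)) % 64)

/-- The coded map of a solution. -/
def rOf (s : ℕ) : List ℕ := (List.range 12).map fun j => 2 ^ j ^^^ fOf s j

/-- The matrix of a generator. -/
def kMat (g : ℕ) : List ℕ := (kRows.getD g []).map Prod.fst

/-- The image of a vector under the deviation. -/
def fLin (s x : ℕ) : ℕ := mv ((List.range 12).map (fOf s)) x

/-- One condition on a solution. -/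
def cond (s q : ℕ) : ℕ :=
  let A := kMat (q / 12)
  let x := A.getD (q % 12) 0
  fLin s x ^^^ mv A (fOf s (q % 12)) ^^^ mv (nT.getD q []) ((s >>> (72 + 4 * (q / 12))) % 16)

/-- All conditions, packed. -/
def obsS (s : ℕ) : ℕ := (List.range 36).foldr (fun q r => (cond s q <<< (12 * q)) ^^^ r) 0

/-- The conditions determine the solution. -/
def solveOK : Bool :=
  (List.range 84).all (fun i => (mv rec (obsS (2 ^ i)) ^^^ mv kerS (mv projS (2 ^ i))) == 2 ^ i) &&
    projS.all (fun x => decide (x < 64)) &&
    (List.range 36).all (fun q => (List.range 16).all fun i =>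
      (mv (elt (fix16.getD i 0)) ((kMat (q / 12)).getD (q % 12) 0) ^^^ (kMat (q / 12)).getD (q % 12) 0) ==
        mv (nT.getD q []) i)

/-- The forms are preserved by a coded map. -/
def isoB (R : List ℕ) : Bool :=
  (List.range 12).all fun i => qB (R.getD i 0) == qB (2 ^ i) &&
    (List.range 12).all fun j => pB (R.getD i 0) (R.getD j 0) == pB (2 ^ i) (2 ^ j)

/-- The matrix of the twist. -/
def dMat : List ℕ := dRow.map Prod.fst

/-- Every solution is a fixing map, possibly after the twist. -/
def candOK : Bool :=
  (List.range 64).all fun k => (fun R => !isoB R ||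
    fix16.any fun n => R == elt n || mm R dMat == elt n) (rOf (mv kerS k))

/-- The fixing maps are involutions and fix the distinguished space. -/
def fixOK : Bool :=
  fix16.all fun n => decide (n < 256) && mm (elt n) (elt n) == idM && W0.all fun w => mv (elt n) w == w

/-- The position of a point moved by a word. -/
def ptW : List ℕ → ℕ → ℕ
  | [], i => i
  | k :: w, i => ap (tabs.getD k (0, 0)).1 (ptW w i)

/-- The code of a pair of points. -/
def pairC24 (a b : ℕ) : ℕ := pairC.getD (24 * a + b) 0

/-- Pairs of points are permuted like their codes and add up. -/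
def pairOK : Bool :=
  pairC.all (fun v => decide (v < 2048)) && (pairC24 0 0 == 0) &&
    (List.range 24).all (fun b => (List.range 24).all fun c => (pairC24 0 b ^^^ pairC24 b c) == pairC24 0 c) &&
    (List.range 2).all (fun k => (List.range 24).all fun a => (List.range 24).all fun b =>
      va (pairC24 (ap (tabs.getD k (0, 0)).1 a) (ap (tabs.getD k (0, 0)).1 b)) (eRows.getD k []) == pairC24 a b)

/-- The twisted basis. -/
def twistOK : Bool :=
  (List.range 12).all fun j => let u := bU.getD j []
    mB (evM eBasis (bA.getD j 0 ^^^ pairC24 0 (ptW u 0))) (wordM u) == eM (dRow.getD j (0, false))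

end Cfsg.Lib.JankoFour.Unique
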