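import Cfsg.Agent.J4Cert.Order

/-!
The subgroup 2^11:M24 of the presented fourth Janko group as a split extension, and homomorphisms out of it.
-/

set_option autoImplicit false
set_option maxRecDepth 8000

namespace Cfsg.Lib.JankoFour.Unique

open Cfsg Cfsg.Lib.J4Cert Cfsg.Lib.J4Pres Cfsg.Lib.CosetTable
open Cfsg.Lib.J4Rep (va)

attribute [local irreducible] eBasis

/-- The chosen basis. -/
noncomputable def eB : EBasis := exists_basis.some

/-- The element of the elementary abelian group with a given code. -/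
noncomputable def el (v : ℕ) : Spor.J4 := ev eB.g v

theorem g_comm : Comm2 eB.g := by
  obtain ⟨h2, hc⟩ := eB.comm
  refine ⟨fun g hg => rhoG_injective ?_, fun g hg h hh => rhoG_injective ?_⟩
  · rw [map_mul, h2 _ (List.mem_map_of_mem hg), map_one]
  · rw [map_mul, map_mul, hc _ (List.mem_map_of_mem hg) _ (List.mem_map_of_mem hh)]

theorem el_xor (a b : ℕ) : el (a ^^^ b) = el a * el b := ev_xor g_comm a b

theorem el_zero : el 0 = 1 := by
  have h := el_xor 0 0
  rw [Nat.xor_self] at h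
  exact (left_eq_mul.mp h)

theorem el_mul_self (a : ℕ) : el a * el a = 1 := by rw [← el_xor, Nat.xor_self, el_zero]

theorem el_inv (a : ℕ) : (el a)⁻¹ = el a := inv_eq_of_mul_eq_one_right (el_mul_self a)

theorem el_comm (a b : ℕ) : el a * el b = el b * el a := by rw [← el_xor, ← el_xor, Nat.xor_comm]

theorem el_inj {a b : ℕ} (ha : a < 2048) (hb : b < 2048) (h : el a = el b) : a = b := by
  refine Nat.xor_eq_zero_iff.mp (eB.eq_zero (Nat.xor_lt_two_pow (n := 11) ha hb) ?_)
  rw [EBasis.img, ← rho_ev, show ev eB.g (a ^^^ b) = el (a ^^^ b) from rfl, el_xor, h, el_mul_self, map_one]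

theorem el_ne_one {a : ℕ} (ha : a < 2048) (h0 : a ≠ 0) : el a ≠ 1 := fun h =>
  h0 (el_inj ha (by norm_num) (h.trans el_zero.symm))

theorem el_mok (v : ℕ) : MOK (el v) (evM eBasis v) := evM_ok eB.mok v

theorem el_mem (v : ℕ) : el v ∈ KJ := by
  obtain ⟨k, hk, e⟩ := eB.sub_le v
  rwa [rhoG_injective (e.trans (rho_ev eB.g v).symm)] at hk

theorem j_mem (p : P) : jHom p ∈ KJ := Subgroup.subset_closure (Or.inl ⟨p, rfl⟩)

theorem el_one : el 1 = ge := by
  have h := eB.head
  rcases hg : eB.g with - | ⟨g, l⟩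
  · exact absurd (by rw [hg]; rfl : eB.g.length = 0) (by rw [eB.len]; norm_num)
  · rw [hg, List.getD_cons_zero] at h
    rw [el, hg, ev, if_pos (by norm_num), show (1 : ℕ) / 2 = 0 from rfl, show ev l 0 = 1 by
      clear hg; induction l <;> simp_all [ev], mul_one, h]

theorem letG_eq {k : ℕ} (hk : k < 3) : letG k = jHom (im k) := by
  interval_cases k
  · exact jHom_px.symm
  · exact jHom_py.symm
  · show gy⁻¹ = jHom py⁻¹
    rw [map_inv, jHom_py]

theorem rows_lt : ∀ k < 3, ∀ r ∈ eRows.getD k [], r < 2048 := by decide +kernel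

theorem va_rows_lt {k : ℕ} (hk : k < 3) (v : ℕ) : va v (eRows.getD k []) < 2048 := by
  have h : ∀ (l : List ℕ) (v : ℕ), (∀ r ∈ l, r < 2 ^ 11) → va v l < 2 ^ 11 := by
    intro l
    induction l with
    | nil => intro v _; simp [va]
    | cons a l ih =>
      intro v h
      simp only [List.forall_mem_cons] at h
      rw [va]
      exact Nat.xor_lt_two_pow (by split <;> [exact h.1; norm_num]) (ih _ h.2)
  exact h _ v (rows_lt k hk)

theorem conj_letter {k : ℕ} (hk : k < 3) (v : ℕ) :
    (jHom (im k))⁻¹ * el v * jHom (im k) = el (va v (eRows.getD k [])) := by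
  refine rhoG_injective ?_
  rw [← letG_eq hk, map_mul, map_mul, map_inv, el, el, rho_ev, rho_ev]
  exact eB.conj hk v

/-- The elementary abelian group. -/
def VJ : Subgroup Spor.J4 where
  carrier := {x | ∃ v < 2048, x = el v}
  one_mem' := ⟨0, by norm_num, el_zero.symm⟩
  mul_mem' := by
    rintro _ _ ⟨a, ha, rfl⟩ ⟨b, hb, rfl⟩
    exact ⟨a ^^^ b, Nat.xor_lt_two_pow (n := 11) ha hb, (el_xor a b).symm⟩
  inv_mem' := by
    rintro _ ⟨a, ha, rfl⟩
    exact ⟨a, ha, el_inv a⟩

theorem mem_VJ {x : Spor.J4} : x ∈ VJ ↔ ∃ v < 2048, x = el v := Iff.rfl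

theorem letters_top : Subgroup.closure ({px, py} : Set P) = ⊤ := by
  rw [eq_top_iff, ← PresentedGroup.closure_range_of relSet, Subgroup.closure_le]
  rintro _ ⟨b, rfl⟩
  refine Subgroup.subset_closure ?_
  cases b
  · exact Or.inr rfl
  · exact Or.inl rfl

theorem j_normal (p : P) : jHom p ∈ Subgroup.normalizer (VJ : Set Spor.J4) := by
  haveI := finite_J4
  have hk : ∀ k < 2, jHom (im k) ∈ Subgroup.normalizer (VJ : Set Spor.J4) := fun k hk => by
    refine (Subgroup.inv_mem_iff _).mp (Subgroup.mem_normalizer_fintype fun x hx => ?_)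
    obtain ⟨v, -, rfl⟩ := hx
    rw [inv_inv, conj_letter (by omega) v]
    exact ⟨_, va_rows_lt (by omega) v, rfl⟩
  have h : p ∈ (Subgroup.normalizer (VJ : Set Spor.J4)).comap jHom := by
    refine Subgroup.closure_le _ |>.mpr ?_ (letters_top.symm ▸ Subgroup.mem_top p)
    rintro q (rfl | rfl)
    · exact hk 0 (by norm_num)
    · exact hk 1 (by norm_num)
  exact h

theorem j_conj (p : P) {v : ℕ} (hv : v < 2048) : ∃ w < 2048, jHom p * el v * (jHom p)⁻¹ = el w :=
  (Subgroup.mem_normalizer_iff.mp (j_normal p) (el v)).mp ⟨v, hv, rfl⟩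

theorem j_inter {p : P} (h : jHom p ∈ VJ) : p = 1 := by
  haveI := simple_P
  have hn : (VJ.comap jHom).Normal := ⟨fun a ha q => by
    show jHom (q * a * q⁻¹) ∈ VJ
    rw [map_mul, map_mul, map_inv]
    exact (Subgroup.mem_normalizer_iff.mp (j_normal q) _).mp ha⟩
  rcases hn.eq_bot_or_eq_top with e | e
  · exact Subgroup.mem_bot.mp (e ▸ h)
  · exfalso
    haveI := finite_J4
    have h1 : ∀ q : P, ∃ v : Fin 2048, jHom q = el v := fun q => by
      obtain ⟨v, hv, e'⟩ := (show q ∈ VJ.comap jHom from e ▸ Subgroup.mem_top q)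
      exact ⟨⟨v, hv⟩, e'⟩
    choose f hf using h1
    have := Nat.card_le_card_of_injective f fun a b hab => jHom_injective (by rw [hf, hf, hab])
    rw [card_P, Nat.card_fin] at this
    norm_num at this

theorem dec_unique {v w : ℕ} (hv : v < 2048) (hw : w < 2048) {p q : P}
    (h : el v * jHom p = el w * jHom q) : v = w ∧ p = q := by
  have e : jHom (p * q⁻¹) = el (v ^^^ w) := by
    rw [map_mul, map_inv, el_xor, mul_inv_eq_iff_eq_mul, mul_assoc, ← h, ← mul_assoc, el_mul_self, one_mul]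
  have hpq := j_inter ⟨_, Nat.xor_lt_two_pow (n := 11) hv hw, e⟩
  obtain rfl : p = q := mul_inv_eq_one.mp hpq
  exact ⟨el_inj hv hw (mul_right_cancel h), rfl⟩

theorem dec {x : Spor.J4} (hx : x ∈ KJ) : ∃ v < 2048, ∃ p, x = el v * jHom p := by
  haveI := card_KJ.1
  let F : Fin 2048 × P → KJ := fun z => ⟨el z.1 * jHom z.2, mul_mem (el_mem _) (j_mem _)⟩
  have hF : Function.Injective F := by
    rintro ⟨v, p⟩ ⟨w, q⟩ h
    obtain ⟨h1, h2⟩ := dec_unique v.2 w.2 (congrArg Subtype.val h)
    exact Prod.ext (Fin.ext h1) h2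
  have hb : Function.Bijective F := by
    haveI := finite_P
    refine (Nat.bijective_iff_injective_and_card F).mpr ⟨hF, ?_⟩
    rw [Nat.card_prod, card_P, Nat.card_fin, card_KJ.2.1]
  obtain ⟨⟨v, p⟩, e⟩ := hb.2 ⟨x, hx⟩
  exact ⟨v, v.2, p, (congrArg Subtype.val e).symm⟩

open _root_.Classical in
/-- A map on the split extension from maps on its parts. -/
theorem exists_hom {G : Type*} [Group G] (β : ℕ → G) (l : P →* G)
    (hβ : ∀ a < 2048, ∀ b < 2048, β (a ^^^ b) = β a * β b)
    (heq : ∀ k < 2, ∀ v < 2048, (l (im k))⁻¹ * β v * l (im k) = β (va v (eRows.getD k []))) :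
    ∃ f : Spor.J4 → G, (∀ x ∈ KJ, ∀ y ∈ KJ, f (x * y) = f x * f y) ∧
      ∀ v < 2048, ∀ p, f (el v * jHom p) = β v * l p := by
  haveI := finite_P
  have hgood : ∀ (p : P) (v w : ℕ), v < 2048 → w < 2048 → jHom p * el v * (jHom p)⁻¹ = el w →
      l p * β v * (l p)⁻¹ = β w := by
    intro p
    have hp : p ∈ Submonoid.closure ({px, py} : Set P) := by
      rw [← Subgroup.closure_toSubmonoid_of_finite, letters_top]; exact Subgroup.mem_top p
    induction hp using Submonoid.closure_induction with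
    | mem x hx =>
      intro v w hv hw e
      obtain ⟨k, hk, rfl⟩ : ∃ k < 2, x = im k := by
        rcases hx with rfl | rfl
        exacts [⟨0, by norm_num, rfl⟩, ⟨1, by norm_num, rfl⟩]
      have hv' : v = va w (eRows.getD k []) := el_inj hv (va_rows_lt (by omega) w) (by
        rw [← conj_letter (by omega) w, ← e]; group)
      rw [hv', ← heq k hk w hw]
      group
    | one =>
      intro v w hv hw e
      rw [map_one, one_mul, inv_one, mul_one] at e ⊢
      rw [el_inj hv hw e]
    | mul x y _ _ hx hy =>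
      intro v w hv hw e
      obtain ⟨u, hu, eu⟩ := j_conj y hv
      have h1 := hy v u hv hu eu
      have h2 := hx u w hu hw (by rw [← eu, ← e, map_mul]; group)
      rw [← h2, ← h1, map_mul]; group
  let f : Spor.J4 → G := fun x => if h : ∃ v, v < 2048 ∧ ∃ p, x = el v * jHom p then β h.choose * l h.choose_spec.2.choose
    else 1
  have hf : ∀ v < 2048, ∀ p, f (el v * jHom p) = β v * l p := by
    intro v hv p
    have h : ∃ w, w < 2048 ∧ ∃ q, el v * jHom p = el w * jHom q := ⟨v, hv, p, rfl⟩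
    obtain ⟨e1, e2⟩ := dec_unique hv h.choose_spec.1 h.choose_spec.2.choose_spec
    simp only [f, dif_pos h]
    exact congrArg₂ (fun a b => β a * l b) e1.symm e2.symm
  refine ⟨f, fun x hx y hy => ?_, hf⟩
  obtain ⟨a, ha, p, rfl⟩ := dec hx
  obtain ⟨b, hb, q, rfl⟩ := dec hy
  obtain ⟨c, hc, ec⟩ := j_conj p hb
  have e : el a * jHom p * (el b * jHom q) = el (a ^^^ c) * jHom (p * q) := by
    rw [el_xor, ← ec, map_mul]; group
  rw [e, hf _ (Nat.xor_lt_two_pow (n := 11) ha hc), hf a ha, hf b hb, hβ a ha c hc,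
    ← hgood p b c hb hc ec, map_mul]
  group

end Cfsg.Lib.JankoFour.Unique
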