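import Cfsg.Agent.JankoFour.Unique.KJ
import Cfsg.Agent.JankoFour.Unique.LabelData
import Cfsg.Agent.JankoFour.SextetInst
import Cfsg.Agent.JankoFour.CentralP
import Cfsg.Agent.J4Cert.Simple
import Cfsg.Agent.JankoFour.Section
import Cfsg.Agent.LargeFischer.DuadModel
import Cfsg.Agent.Golay.StdObjects
import Cfsg.Agent.Golay.SteinerFam

/-!
The normaliser of the elementary abelian subgroup in a group of Janko-four type is the subgroup 2^11:M24 of the
presented group, with the central involution at a fixed code.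
-/

set_option autoImplicit false
set_option maxRecDepth 100000
set_option maxHeartbeats 1000000
set_option linter.style.haveILetI false
set_option linter.unusedSectionVars false

namespace Cfsg.Lib.JankoFour.Unique

open Cfsg Subgroup
open Cfsg.Lib.J4Cert (orbFrom invL eRows KJ jHom)
open Cfsg.Lib.J4Pres (P px py im tabs toM24)
open Cfsg.Lib.J4Rep (va)
open Cfsg.Lib.Golay (pts mk pidx inCode pc img)
open Cfsg.Lib.LargeFischer (Sextet)
open scoped symmDiff Pointwise

/-- The sum of selected representatives. -/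
def xr : List ℕ → ℕ → ℕ
  | [], _ => 0
  | m :: l, v => (if v % 2 = 1 then m else 0) ^^^ xr l (v / 2)

/-- Weights and equivariance of the representatives. -/
def labOK : Bool :=
  Data.rep.all (fun m => decide (m < 2 ^ 24) && pc m % 2 == 0) &&
    (List.range 2).all (fun k => (List.range 11).all fun j =>
      inCode (xr Data.rep ((eRows.getD k []).getD j 0) ^^^ img (tabs.getD (invL k) (0, 0)) (Data.rep.getD j 0))) &&
    inCode (xr Data.rep 14 ^^^ Data.pair14) && pc Data.pair14 == 2 && decide (Data.pair14 < 2 ^ 24) &&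
    inCode (xr Data.rep Data.v0 ^^^ Data.tet0) && pc Data.tet0 == 4 && decide (Data.tet0 < 2 ^ 24) &&
    pc (Data.rep.getD 0 0) == 4

theorem lab_ok : labOK = true := by decide +kernel

/-- The two orbits are reached and exhaust the nonzero codes. -/
def orb2OK : Bool :=
  (orbFrom (2 ^ Data.v0) Data.stepZ == some Data.maskZ) && (orbFrom (2 ^ Data.d0) Data.stepT == some Data.maskT) &&
    Nat.beq (Data.maskZ ||| Data.maskT) (2 ^ 2048 - 2)

theorem orb2_ok : orb2OK = true := by decide +kernel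

theorem orb_sound (root : ℕ) : ∀ (l : List (ℕ × ℕ × ℕ)) (seen out : ℕ), orbFrom seen l = some out →
    (∀ j, seen.testBit j = true → ∃ x ∈ KJ, x * el root * x⁻¹ = el j) →
    ∀ j, out.testBit j = true → ∃ x ∈ KJ, x * el root * x⁻¹ = el j := by
  intro l
  induction l with
  | nil => intro seen out h hs j hj; exact hs j ((Option.some.inj (h : some seen = some out)) ▸ hj)
  | cons e l ih =>
    intro seen out h hs
    obtain ⟨n, w, k⟩ := e
    rw [show orbFrom seen ((n, w, k) :: l) =
      bif Nat.blt k 3 && Nat.testBit seen w && (Nat.beq (Cfsg.Lib.J4Rep.va w (eRows.getD k [])) n) then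
        orbFrom (Nat.lor seen (Nat.shiftLeft 1 n)) l
      else none from rfl, Bool.cond_eq_ite] at h
    split at h <;> rename_i hc
    all_goals try simp at h
    simp only [Bool.and_eq_true, Nat.blt_eq] at hc
    obtain ⟨⟨hk, hseen⟩, hq⟩ := hc
    refine ih _ out h fun j hj => ?_
    change (seen ||| 1 <<< n).testBit j = true at hj
    rw [Nat.testBit_or, Bool.or_eq_true, Nat.one_shiftLeft, Nat.testBit_two_pow, decide_eq_true_eq] at hj
    rcases hj with hj | rfl
    · exact hs j hj
    · obtain ⟨x, hx, ex⟩ := hs w hseen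
      refine ⟨(jHom (im k))⁻¹ * x, mul_mem (inv_mem (j_mem _)) hx, ?_⟩
      rw [← Nat.eq_of_beq_eq_true hq, ← conj_letter hk, ← ex]
      group

theorem code_cases {v : ℕ} (hv : v < 2048) (h0 : v ≠ 0) :
    (∃ x ∈ KJ, x * el Data.v0 * x⁻¹ = el v) ∨ ∃ x ∈ KJ, x * el Data.d0 * x⁻¹ = el v := by
  have h := orb2_ok
  simp only [orb2OK, Bool.and_eq_true, beq_iff_eq] at h
  obtain ⟨⟨hz, ht⟩, hu⟩ := h
  have hbit : (Data.maskZ ||| Data.maskT).testBit v = true := by
    rw [Nat.eq_of_beq_eq_true hu]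
    exact Nat.testBit_two_pow_sub_succ (x := 1) (n := 2048) (Nat.one_lt_two_pow (by norm_num)) v ▸ by
      rw [show (1 : ℕ) = 2 ^ 0 from rfl, Nat.testBit_two_pow]; simp [hv]; omega
  have hroot : ∀ r j : ℕ, (2 ^ r).testBit j = true → ∃ x ∈ KJ, x * el r * x⁻¹ = el j := fun r j hj => by
    rw [Nat.testBit_two_pow, decide_eq_true_eq] at hj
    exact ⟨1, one_mem _, by subst hj; group⟩
  rw [Nat.testBit_or, Bool.or_eq_true] at hbit
  exact hbit.imp (orb_sound _ _ _ _ hz (hroot _) v) (orb_sound _ _ _ _ ht (hroot _) v)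

universe u

variable {G : Type u} [Group G] [Finite G] {z : G} {P₀ : Subgroup G}

/-- An isomorphism of the subgroup of the presented group with the normaliser, sending the fixed code to the
involution. -/
structure Emb (C : Ctx z P₀) where
  f : Spor.J4 → G
  map_mul : ∀ x ∈ KJ, ∀ y ∈ KJ, f (x * y) = f x * f y
  inj : ∀ x ∈ KJ, ∀ y ∈ KJ, f x = f y → x = y
  V_mem : ∀ v < 2048, f (el v) ∈ C.V
  V_surj : ∀ u ∈ C.V, ∃ v < 2048, f (el v) = u
  N_mem : ∀ x ∈ KJ, f x ∈ normalizer (C.V : Set G)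
  N_surj : ∀ n ∈ normalizer (C.V : Set G), ∃ x ∈ KJ, f x = n
  base : f (el Data.v0) = z

namespace Emb

variable {C : Ctx z P₀} (α : Emb C)

theorem map_one : α.f 1 = 1 := by
  have h := α.map_mul 1 (one_mem _) 1 (one_mem _)
  rw [one_mul] at h
  exact left_eq_mul.mp h

theorem map_inv {x : Spor.J4} (hx : x ∈ KJ) : α.f x⁻¹ = (α.f x)⁻¹ :=
  eq_inv_of_mul_eq_one_left (by rw [← α.map_mul _ (inv_mem hx) _ hx, inv_mul_cancel, α.map_one])

theorem map_conj {x y : Spor.J4} (hx : x ∈ KJ) (hy : y ∈ KJ) : α.f (x * y * x⁻¹) = α.f x * α.f y * (α.f x)⁻¹ := by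
  rw [α.map_mul _ (mul_mem hx hy) _ (inv_mem hx), α.map_mul _ hx _ hy, α.map_inv hx]

/-- The group homomorphism. -/
def hom : ↥KJ →* G where
  toFun x := α.f x
  map_one' := α.map_one
  map_mul' x y := α.map_mul _ x.2 _ y.2

theorem conj_class {x : Spor.J4} {a b : ℕ} (hx : x ∈ KJ) (e : x * el a * x⁻¹ = el b) :
    IsConj (α.f (el a)) (α.f (el b)) :=
  isConj_iff.mpr ⟨α.f x, by rw [← α.map_conj hx (el_mem a), e]⟩

theorem class_Z {v : ℕ} (h : Data.maskZ.testBit v = true) : IsConj z (α.f (el v)) := by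
  have ho := orb2_ok
  simp only [orb2OK, Bool.and_eq_true, beq_iff_eq] at ho
  obtain ⟨x, hx, e⟩ := orb_sound Data.v0 _ _ _ ho.1.1 (fun j hj => ⟨1, one_mem _, by
    rw [Nat.testBit_two_pow, decide_eq_true_eq] at hj; subst hj; group⟩) v h
  have h := α.conj_class hx e
  rwa [α.base] at h

theorem class_T [IsSimpleGroup G] (hG : ¬ IsMulCommutative G) {v : ℕ} (h : Data.maskT.testBit v = true) :
    ¬ IsConj z (α.f (el v)) := by
  have ho := orb2_ok
  simp only [orb2OK, Bool.and_eq_true, beq_iff_eq] at ho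
  have key : ∀ w, Data.maskT.testBit w = true → IsConj (α.f (el Data.d0)) (α.f (el w)) := fun w hw => by
    obtain ⟨x, hx, e⟩ := orb_sound Data.d0 _ _ _ ho.1.2 (fun j hj => ⟨1, one_mem _, by
      rw [Nat.testBit_two_pow, decide_eq_true_eq] at hj; subst hj; group⟩) w hw
    exact α.conj_class hx e
  intro hz
  obtain ⟨u, hu⟩ := (C.sextet hG).T_nonempty
  obtain ⟨w, hw, rfl⟩ := α.V_surj u hu.1
  refine hu.2.2 ?_
  rcases code_cases hw (fun e => hu.2.1 (by rw [e, el_zero, α.map_one])) with ⟨x, hx, e⟩ | ⟨x, hx, e⟩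
  · have h' := α.conj_class hx e
    rwa [α.base] at h'
  · exact (hz.trans (key v h).symm).trans (α.conj_class hx e)

end Emb

section Existence

variable [IsSimpleGroup G]

attribute [local instance] Sextet.Model.fintype Sextet.Model.deceq

theorem exists_emb (C : Ctx z P₀) (hG : ¬ IsMulCommutative G) : Nonempty (Emb C) := by
  classical
  obtain ⟨M⟩ := Sextet.exists_model (C.sextet hG)
  set D := C.sextet hG with hD
  have hsq : ∀ a ∈ C.V, a * a = 1 := fun a ha => C.V_sq ha
  have hcomm : ∀ a ∈ C.V, ∀ b ∈ C.V, a * b = b * a := fun a ha b hb => (C.V_comm ha hb).eq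
  have hfm : ∀ a, M.f a ∈ C.V := M.mem
  have hsm : ∀ s, M.sm s ∈ C.V := M.sm_mem
  -- sums over symmetric differences
  have hsd : ∀ s t : Finset M.Pt, M.sm (s ∆ t) = M.sm s * M.sm t := by
    intro s
    induction s using Finset.induction_on with
    | empty => intro t; rw [M.sm_empty, one_mul, ← Finset.bot_eq_empty, bot_symmDiff]
    | insert x s hx ih =>
      intro t
      have e1 : insert x s = s ∆ {x} := by
        ext y; simp only [Finset.mem_insert, Finset.mem_symmDiff, Finset.mem_singleton]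
        constructor
        · rintro (rfl | h)
          · exact Or.inr ⟨rfl, hx⟩
          · exact Or.inl ⟨h, fun e => hx (e ▸ h)⟩
        · rintro (⟨h, -⟩ | ⟨h, -⟩)
          exacts [Or.inr h, Or.inl h]
      have tog : M.sm ({x} ∆ t) = M.f x * M.sm t := by
        by_cases hxt : x ∈ t
        · have e2 : ({x} : Finset M.Pt) ∆ t = t.erase x := by
            ext y; simp only [Finset.mem_symmDiff, Finset.mem_singleton, Finset.mem_erase]
            constructor
            · rintro (⟨rfl, h⟩ | ⟨h, hn⟩)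
              exacts [absurd hxt h, ⟨hn, h⟩]
            · rintro ⟨hn, h⟩; exact Or.inr ⟨h, hn⟩
          have h3 := M.sm_insert x (t.erase x) (Finset.notMem_erase x t)
          rw [Finset.insert_erase hxt] at h3
          rw [e2, h3, ← mul_assoc, hsq _ (hfm x), one_mul]
        · have e2 : ({x} : Finset M.Pt) ∆ t = insert x t := by
            ext y; simp only [Finset.mem_symmDiff, Finset.mem_singleton, Finset.mem_insert]
            constructor
            · rintro (⟨h, -⟩ | ⟨h, -⟩)
              exacts [Or.inl h, Or.inr h]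
            · rintro (rfl | h)
              exacts [Or.inl ⟨rfl, hxt⟩, Or.inr ⟨h, fun e => hxt (e ▸ h)⟩]
          rw [e2, M.sm_insert x t hxt]
      rw [e1, symmDiff_assoc, ih, tog, M.sm_insert x s hx |> fun h => (e1 ▸ h : M.sm (s ∆ {x}) = _),
        ← mul_assoc, hcomm _ (hsm s) _ (hfm x)]
  -- the Steiner system of the points
  let B : Set (Finset M.Pt) := {o | o.card = 8 ∧ M.sm o = 1}
  have hB : Cfsg.IsSteinerSystem 5 8 B := by
    refine ⟨fun o ho => ho.1, fun F hF => ?_⟩
    obtain ⟨x, hx⟩ := Finset.card_pos.mp (by rw [hF]; norm_num : 0 < F.card)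
    have hq : (F.erase x).card = 4 := by rw [Finset.card_erase_of_mem hx, hF]
    obtain ⟨r, hr, er, hxr⟩ := M.sextet _ hq x
    have hdis : Disjoint (F.erase x) r := by
      rw [Finset.disjoint_left]
      intro a ha har
      have : 0 < (r ∩ F.erase x).card := Finset.card_pos.mpr ⟨a, Finset.mem_inter.mpr ⟨har, ha⟩⟩
      have e := M.sm_inj r (F.erase x) er (by omega) (by rw [hr, hq]; decide)
      exact Finset.notMem_erase x F (e ▸ hxr)
    refine ⟨(F.erase x) ∆ r, ⟨⟨?_, ?_⟩, ?_⟩, ?_⟩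
    · rw [hdis.symmDiff_eq_sup, Finset.sup_eq_union, Finset.card_union_of_disjoint hdis, hq, hr]
    · rw [hsd, er, hsq _ (hsm _)]
    · intro a ha
      rw [hdis.symmDiff_eq_sup, Finset.sup_eq_union, Finset.mem_union, Finset.mem_erase]
      by_cases e : a = x
      · exact Or.inr (e ▸ hxr)
      · exact Or.inl ⟨e, ha⟩
    · rintro o ⟨⟨ho, ho1⟩, hFo⟩
      have hU : (F.erase x ∆ r).card = 8 := by
        rw [hdis.symmDiff_eq_sup, Finset.sup_eq_union, Finset.card_union_of_disjoint hdis, hq, hr]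
      refine M.sm_inj _ _ (by rw [ho1, hsd, er, hsq _ (hsm _)]) ?_ (by rw [ho, hU]; decide)
      have : F ⊆ o ∩ (F.erase x ∆ r) := fun a ha => Finset.mem_inter.mpr ⟨hFo ha, by
        rw [hdis.symmDiff_eq_sup, Finset.sup_eq_union, Finset.mem_union, Finset.mem_erase]
        by_cases e : a = x
        · exact Or.inr (e ▸ hxr)
        · exact Or.inl ⟨e, ha⟩⟩
      have := Finset.card_le_card this
      omega
  obtain ⟨e, he⟩ := Cfsg.Lib.Golay.exists_equiv_octads M.card hB
  -- sums of masks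
  let S : ℕ → G := fun m => M.sm ((pts m).map e.symm.toEmbedding)
  have hSV : ∀ m, S m ∈ C.V := fun m => hsm _
  have hSx : ∀ a b, S (a ^^^ b) = S a * S b := by
    intro a b
    rw [← hsd]
    refine congrArg M.sm ?_
    ext y
    simp only [Finset.mem_symmDiff, Finset.mem_map_equiv, Equiv.symm_symm, Cfsg.Lib.Golay.mem_pts, Nat.testBit_xor]
    cases a.testBit (pidx (e y)) <;> cases b.testBit (pidx (e y)) <;> simp
  have hS0 : S 0 = 1 := by
    simp only [S, show pts 0 = ∅ from Finset.ext fun p => by simp, Finset.map_empty, M.sm_empty]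
  have hcode : ∀ m, inCode m = true → S m = 1 := by
    intro m hm
    have hrow : ∀ r ∈ Cfsg.Lib.Golay.rows, S r = 1 := by
      intro r hr
      have h8 : ∀ r ∈ Cfsg.Lib.Golay.rows, inCode r = true ∧ pc r = 8 := by decide +kernel
      have ho := Cfsg.Lib.Golay.pts_mem_octads (h8 r hr).1 (h8 r hr).2
      have h2 : ((pts r).map e.symm.toEmbedding).image e = pts r := by
        rw [Finset.map_eq_image, Finset.image_image]
        exact (Finset.image_congr fun p _ => e.apply_symm_apply p).trans Finset.image_id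
      exact ((he _).mp (h2.symm ▸ ho)).2
    simp only [inCode, beq_iff_eq] at hm
    rw [← hm, Cfsg.Lib.Golay.enc]
    generalize List.range 12 = l
    induction l with
    | nil => exact hS0
    | cons k l ih =>
      simp only [List.foldr_cons]
      split
      · rw [hSx, ih, mul_one]
        by_cases hk : k < Cfsg.Lib.Golay.rows.length
        · rw [List.getD_eq_getElem _ _ hk]; exact hrow _ (List.getElem_mem hk)
        · rw [List.getD_eq_default _ _ (by omega)]; exact hS0
      · exact ih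
  have hScongr : ∀ a b, inCode (a ^^^ b) = true → S a = S b := fun a b h => by
    have h1 := hcode _ h
    rw [hSx] at h1
    rw [eq_inv_of_mul_eq_one_left h1, inv_eq_of_mul_eq_one_right (hsq _ (hSV b))]
  -- the action on the points
  let τ : ↥(normalizer (C.V : Set G)) →* Equiv.Perm Cfsg.GolayPt := e.permCongrHom.toMonoidHom.comp M.σ
  have hτ : ∀ n p, τ n p = e (M.σ n (e.symm p)) := fun n p => rfl
  have hmov : ∀ (n : ↥(normalizer (C.V : Set G))) (m : ℕ), Even (pts m).card →
      (n : G) * S m * (n : G)⁻¹ = M.sm (((pts m).map e.symm.toEmbedding).image (M.σ n)) := fun n m hm =>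
    M.sm_conj n _ (by rwa [Finset.card_map])
  have hτM : ∀ n, τ n ∈ Cfsg.M24 := by
    intro n
    rw [Cfsg.Lib.Golay.M24_eq_octadAut, MulAction.mem_stabilizer_iff]
    have hmaps : ∀ (n : ↥(normalizer (C.V : Set G))) (o : Finset Cfsg.GolayPt), o ∈ Cfsg.octads → τ n • o ∈ Cfsg.octads := by
      intro n o ho
      obtain ⟨q, rfl⟩ : ∃ q : Finset M.Pt, q.image e = o :=
        ⟨o.image e.symm, by rw [Finset.image_image, Equiv.self_comp_symm, Finset.image_id]⟩
      obtain ⟨h8, h0⟩ := (he q).mp ho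
      have himg : τ n • q.image e = (q.image (M.σ n)).image e := by
        rw [Finset.smul_finset_def, Finset.image_image, Finset.image_image]
        exact Finset.image_congr fun x _ => by show τ n (e x) = e (M.σ n x); rw [hτ, e.symm_apply_apply]
      rw [himg, he]
      refine ⟨(Finset.card_image_of_injective _ (M.σ n).injective).trans h8, ?_⟩
      have := M.sm_conj n q (by rw [h8]; decide)
      rw [h0, mul_one, mul_inv_cancel] at this
      exact this.symm
    refine Set.Subset.antisymm ?_ fun o ho => ⟨τ n⁻¹ • o, hmaps _ o ho, ?_⟩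
    · rintro _ ⟨o, ho, rfl⟩
      exact hmaps n o ho
    · show τ n • τ n⁻¹ • o = o
      rw [← mul_smul, ← _root_.map_mul, mul_inv_cancel, _root_.map_one, one_smul]
  let φ : ↥(normalizer (C.V : Set G)) →* ↥Cfsg.M24 := τ.codRestrict Cfsg.M24 hτM
  obtain ⟨φ₀, hs₀, hk₀⟩ := C.exists_hom hG
  have hker : φ.ker ≤ C.V.subgroupOf (normalizer (C.V : Set G)) := by
    intro n hn
    rw [mem_subgroupOf]
    refine M.faithful n (Equiv.ext fun x => e.injective ?_)
    have h := congrArg (fun σ : ↥Cfsg.M24 => (σ : Equiv.Perm Cfsg.GolayPt) (e x)) (MonoidHom.mem_ker.mp hn)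
    have h' : τ n (e x) = e x := h
    rwa [hτ, e.symm_apply_apply] at h'
  have hφs : Function.Surjective φ := by
    rw [← MonoidHom.range_eq_top]
    refine Subgroup.eq_top_of_card_eq _ ?_
    have h1 := φ.ker.card_mul_index
    have h2 := φ₀.ker.card_mul_index
    rw [index_ker] at h1 h2
    rw [MonoidHom.range_eq_top.mpr hs₀, card_top, hk₀] at h2
    have h3 := Subgroup.card_le_of_le hker
    have h4 : Nat.card φ.range ≤ Nat.card ↥Cfsg.M24 := Subgroup.card_le_card_group _
    have h5 : 0 < Nat.card φ.ker := Nat.card_pos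
    have h6 : 0 < Nat.card φ.range := Nat.card_pos
    by_contra hne
    have : Nat.card φ.ker * Nat.card φ.range <
        Nat.card ↥(C.V.subgroupOf (normalizer (C.V : Set G))) * Nat.card ↥Cfsg.M24 :=
      calc _ ≤ Nat.card ↥(C.V.subgroupOf (normalizer (C.V : Set G))) * Nat.card φ.range := Nat.mul_le_mul_right _ h3
        _ < _ := Nat.mul_lt_mul_of_pos_left (lt_of_le_of_ne h4 hne) Nat.card_pos
    omega
  obtain ⟨K, hKN, hKV, hsup, -⟩ := C.exists_complement hG
  let ψ : ↥K →* ↥Cfsg.M24 := φ.comp (Subgroup.inclusion hKN)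
  have hVker : ∀ v (hv : v ∈ C.V), φ ⟨v, le_normalizer hv⟩ = 1 := by
    intro v hv
    refine Subtype.ext (Equiv.ext fun p => ?_)
    show τ ⟨v, le_normalizer hv⟩ p = p
    rw [hτ]
    suffices h : M.σ ⟨v, le_normalizer hv⟩ = 1 from
      (congrArg (fun σ : Equiv.Perm M.Pt => e (σ (e.symm p))) h).trans (e.apply_symm_apply p)
    refine M.few _ ∅ (by simp) fun x _ => ?_
    by_contra hx
    obtain ⟨y, hy1, hy2⟩ : ∃ y, y ∉ ({x, M.σ ⟨v, le_normalizer hv⟩ x} : Finset M.Pt) ∧ True :=
      let ⟨y, _, hy⟩ := Finset.exists_mem_notMem_of_card_lt_card (s := {x, M.σ ⟨v, le_normalizer hv⟩ x})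
        (t := Finset.univ) (by
          have := Finset.card_le_two (a := x) (b := M.σ ⟨v, le_normalizer hv⟩ x)
          rw [Finset.card_univ, M.card]; omega)
      ⟨y, hy, trivial⟩
    simp only [Finset.mem_insert, Finset.mem_singleton, not_or] at hy1
    have hq := M.sm_conj ⟨v, le_normalizer hv⟩ {x, y} (by rw [Finset.card_pair (Ne.symm hy1.1)]; decide)
    rw [show v * M.sm {x, y} * v⁻¹ = M.sm {x, y} by rw [hcomm _ hv _ (hsm _)]; group] at hq
    have hc := M.sm_inj _ _ hq (by
      rw [Finset.card_image_of_injective _ (M.σ _).injective, Finset.card_pair (Ne.symm hy1.1)]; omega) (by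
      rw [Finset.card_image_of_injective _ (M.σ _).injective, Finset.card_pair (Ne.symm hy1.1)]; decide)
    have : M.σ ⟨v, le_normalizer hv⟩ x ∈ ({x, y} : Finset M.Pt) := hc.symm ▸ Finset.mem_image_of_mem _ (by simp)
    simp only [Finset.mem_insert, Finset.mem_singleton] at this
    rcases this with h | h
    · exact hx h
    · exact hy1.2 h.symm
  have hψb : Function.Bijective ψ := by
    constructor
    · rw [← MonoidHom.ker_eq_bot_iff, eq_bot_iff_forall]
      intro k hk
      exact Subtype.ext (mem_bot.mp (hKV ▸ (mem_inf.mpr ⟨k.2, hker (MonoidHom.mem_ker.mp hk : φ _ = 1)⟩ :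
        (k : G) ∈ K ⊓ C.V)))
    · intro m
      obtain ⟨⟨x, hx⟩, rfl⟩ := hφs m
      have hx' : x ∈ ((C.V ⊔ K : Subgroup G) : Set G) := by rw [sup_comm, hsup]; exact hx
      rw [coe_mul_of_right_le_normalizer_left C.V K hKN] at hx'
      obtain ⟨v, hv, k, hk, rfl⟩ := Set.mem_mul.mp hx'
      refine ⟨⟨k, hk⟩, ?_⟩
      rw [show (⟨v * k, hx⟩ : ↥(normalizer (C.V : Set G))) = ⟨v, le_normalizer hv⟩ * ⟨k, hKN hk⟩ from rfl,
        _root_.map_mul, hVker v hv, one_mul]
      rfl
  let eψ := MulEquiv.ofBijective ψ hψb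
  let l : P →* G := K.subtype.comp (eψ.symm.toMonoidHom.comp toM24)
  have hlK : ∀ g, l g ∈ K := fun g => (eψ.symm (toM24 g)).2
  have hφl : ∀ g, φ ⟨l g, hKN (hlK g)⟩ = toM24 g := fun g => eψ.apply_symm_apply (toM24 g)
  have hl_inj : Function.Injective l := fun a b h => Cfsg.Lib.J4Pres.toM24_injective
    (eψ.symm.injective (Subtype.ext h))
  have hlconj : ∀ k < 3, ∀ m, m < 2 ^ 24 → Even (pts m).card →
      l (im k) * S m * (l (im k))⁻¹ = S (img (tabs.getD k (0, 0)) m) := by
    intro k hk m _ hev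
    obtain ⟨hv, hp⟩ := Cfsg.Lib.J4Pres.tabs_act k (by simpa [tabs] using hk)
    rw [hmov ⟨_, hKN (hlK (im k))⟩ m hev]
    refine congrArg M.sm ?_
    have hperm : ∀ q, e (M.σ ⟨_, hKN (hlK (im k))⟩ (e.symm q)) = Cfsg.Lib.Golay.toP (tabs.getD k (0, 0)) q := by
      intro q
      refine (hτ ⟨_, hKN (hlK (im k))⟩ q).symm.trans ?_
      have h2 : τ ⟨_, hKN (hlK (im k))⟩ = Cfsg.Lib.J4Pres.sigma (im k) := congrArg Subtype.val (hφl (im k))
      rw [h2, Cfsg.Lib.J4Pres.sigma]
      show Cfsg.Lib.Golay.permHom (Cfsg.Lib.J4Pres.psi (im k)) q = _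
      rw [hp]; rfl
    rw [Cfsg.Lib.Golay.pts_img hv, Finset.smul_finset_def, Finset.map_eq_image, Finset.map_eq_image,
      Finset.image_image, Finset.image_image]
    refine Finset.image_congr fun q _ => ?_
    show M.σ _ (e.symm q) = e.symm (Cfsg.Lib.Golay.toP _ q)
    rw [← hperm]
    exact (e.symm_apply_apply _).symm
  -- the map on codes
  let β : ℕ → G := fun v => S (xr Data.rep v)
  have hxr : ∀ (L : List ℕ) (a b : ℕ), xr L (a ^^^ b) = xr L a ^^^ xr L b := by
    intro L
    induction L with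
    | nil => simp [xr]
    | cons m L ih =>
      intro a b
      simp only [xr, Nat.xor_div_two, ih, Cfsg.Lib.J4Rep.xor_mod_two]
      rcases Nat.mod_two_eq_zero_or_one a with ha | ha <;> rcases Nat.mod_two_eq_zero_or_one b with hb | hb <;>
        simp [ha, hb, Nat.xor_assoc, Nat.xor_left_comm]
  have hxr0 : ∀ L : List ℕ, xr L 0 = 0 := fun L => by induction L <;> simp_all [xr]
  have hβ : ∀ a b, β (a ^^^ b) = β a * β b := fun a b => by
    show S _ = _
    rw [hxr, hSx]
  have hlab := lab_ok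
  simp only [labOK, Bool.and_eq_true, List.all_eq_true, List.mem_range, decide_eq_true_eq, beq_iff_eq] at hlab
  obtain ⟨⟨⟨⟨⟨⟨⟨⟨hrep, heqv⟩, h14⟩, hp14⟩, hl14⟩, hv0⟩, ht0⟩, htl⟩, hr0⟩ := hlab
  have heq : ∀ k < 2, ∀ v < 2048, (l (im k))⁻¹ * β v * l (im k) = β (va v (eRows.getD k [])) := by
    intro k hk v hv
    refine Cfsg.Lib.JankoFour.lin_ext (f := fun v => (l (im k))⁻¹ * β v * l (im k))
      (g := fun v => β (va v (eRows.getD k []))) (· * ·) 11
      (fun a b => by simp only [hβ]; group) (fun a b => by simp only [Cfsg.Lib.J4Rep.va_xor, hβ])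
      (by simp only [Cfsg.Lib.J4Rep.va_zero, β, hxr0, hS0]; group) (fun j hj => ?_) v hv
    have hva : va (2 ^ j) (eRows.getD k []) = (eRows.getD k []).getD j 0 := by
      have h : ∀ k < 2, ∀ j < 11, va (2 ^ j) (eRows.getD k []) = (eRows.getD k []).getD j 0 := by decide +kernel
      exact h k hk j hj
    have hx2 : xr Data.rep (2 ^ j) = Data.rep.getD j 0 := by
      have h : ∀ j < 11, xr Data.rep (2 ^ j) = Data.rep.getD j 0 := by decide +kernel
      exact h j hj
    show _ = S _
    rw [hva]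
    obtain ⟨hlt, hev⟩ := hrep (Data.rep.getD j 0) (by
      have : j < Data.rep.length := lt_of_lt_of_eq hj (by decide +kernel)
      rw [List.getD_eq_getElem _ _ this]; exact List.getElem_mem this)
    have hinv : l (im (invL k)) = (l (im k))⁻¹ := by
      interval_cases k
      · rw [← _root_.map_inv]; exact congrArg l Cfsg.Lib.J4Pres.px_inv.symm
      · rw [← _root_.map_inv]; rfl
    rw [hScongr _ _ (heqv k hk j hj), ← hlconj (invL k) (by interval_cases k <;> decide) _ hlt
      (by rw [← Cfsg.Lib.Golay.pc_eq_card]; exact Nat.even_iff.mpr hev), hinv, inv_inv]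
    show (l (im k))⁻¹ * S (xr Data.rep (2 ^ j)) * l (im k) = _
    rw [hx2]
  obtain ⟨f, hfm', hf⟩ := exists_hom β l (fun a _ b _ => hβ a b) heq
  have hfel : ∀ v < 2048, f (el v) = β v := fun v hv => by
    have h := hf v hv 1
    rwa [_root_.map_one, _root_.map_one, mul_one, mul_one] at h
  have hβV : ∀ v, β v ∈ C.V := fun v => hSV _
  have hβone : ∀ {m v : ℕ}, inCode (xr Data.rep v ^^^ m) = true → β v = M.sm ((pts m).map e.symm.toEmbedding) :=
    fun h => hScongr _ _ h
  have hZset : ∀ m, pc m = 4 → S m ∈ D.Z := fun m hm => M.sm_four _ (by rw [Finset.card_map, ← Cfsg.Lib.Golay.pc_eq_card, hm])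
  have hne : ∀ u ∈ D.Z, u ≠ 1 := fun u hu h => D.ne1 (by
    obtain ⟨c, hc⟩ := isConj_iff.mp (h ▸ hu.2 : IsConj z 1)
    exact conj_eq_one_iff.mp hc)
  have hb1 : β 1 ≠ 1 := by
    have e1 : xr Data.rep 1 = Data.rep.getD 0 0 := by decide +kernel
    show S _ ≠ 1
    rw [e1]
    exact hne _ (hZset _ hr0)
  have hb14 : β 14 ≠ 1 := by
    rw [hβone h14]
    obtain ⟨a, b, hab, hs⟩ := Finset.card_eq_two.mp (show ((pts Data.pair14).map e.symm.toEmbedding).card = 2 by
      rw [Finset.card_map, ← Cfsg.Lib.Golay.pc_eq_card, hp14])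
    rw [hs, M.sm_insert a {b} (by simpa using hab), show ({b} : Finset M.Pt) = insert b ∅ by simp,
      M.sm_insert b ∅ (by simp), M.sm_empty, mul_one]
    exact (M.pair a b hab).2.1
  have hβinj : ∀ v < 2048, β v = 1 → v = 0 := by
    intro v hv h1
    by_contra h0
    have hconj : ∀ (x : Spor.J4), x ∈ KJ → ∀ {a b : ℕ}, a < 2048 → b < 2048 → x * el a * x⁻¹ = el b →
        (β a = 1 ↔ β b = 1) := by
      intro x hx a b ha hb e'
      have hmul : f (x * el a * x⁻¹) * f x = f x * f (el a) := by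
        rw [← hfm' _ (mul_mem (mul_mem hx (el_mem a)) (inv_mem hx)) _ hx, ← hfm' _ hx _ (el_mem a), inv_mul_cancel_right]
      rw [e', hfel a ha, hfel b hb] at hmul
      constructor <;> intro h <;> rw [h] at hmul
      · rw [mul_one] at hmul; exact mul_eq_right.mp hmul
      · rw [one_mul] at hmul; exact left_eq_mul.mp hmul
    have h1' : ∀ r, r < 2048 → (∃ x ∈ KJ, x * el r * x⁻¹ = el v) → β r = 1 := fun r hr ⟨x, hx, e'⟩ =>
      (hconj x hx hr hv e').mpr h1
    have hnum : Data.v0 < 2048 ∧ Data.d0 < 2048 := by decide +kernel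
    have h1o : Data.maskZ.testBit 1 = true ∧ Data.maskT.testBit 14 = true := by decide +kernel
    have ho := orb2_ok
    simp only [orb2OK, Bool.and_eq_true, beq_iff_eq] at ho
    rcases code_cases hv h0 with h | h
    · obtain ⟨x, hx, e'⟩ := orb_sound Data.v0 _ _ _ ho.1.1 (fun j hj => ⟨1, one_mem _, by
        rw [Nat.testBit_two_pow, decide_eq_true_eq] at hj; subst hj; group⟩) 1 h1o.1
      exact hb1 ((hconj x hx hnum.1 (by norm_num) e').mp (h1' _ hnum.1 h))
    · obtain ⟨x, hx, e'⟩ := orb_sound Data.d0 _ _ _ ho.1.2 (fun j hj => ⟨1, one_mem _, by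
        rw [Nat.testBit_two_pow, decide_eq_true_eq] at hj; subst hj; group⟩) 14 h1o.2
      exact hb14 ((hconj x hx hnum.2 (by norm_num) e').mp (h1' _ hnum.2 h))
  have hβsurj : ∀ u ∈ C.V, ∃ v < 2048, β v = u := by
    let F : Fin 2048 → ↥C.V := fun v => ⟨β v, hβV v⟩
    have hF : Function.Injective F := fun a b h => by
      have h' : β a = β b := congrArg Subtype.val h
      have := hβinj _ (Nat.xor_lt_two_pow (n := 11) a.2 b.2) (by rw [hβ, h', ← hβ, Nat.xor_self]; show S _ = 1; rw [hxr0, hS0])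
      exact Fin.ext (Nat.xor_eq_zero_iff.mp this)
    have hb : Function.Bijective F := (Nat.bijective_iff_injective_and_card F).mpr ⟨hF, by
      rw [Nat.card_fin, C.V_spec.2.1]; norm_num⟩
    intro u hu
    obtain ⟨v, hv⟩ := hb.2 ⟨u, hu⟩
    exact ⟨v, v.2, congrArg Subtype.val hv⟩
  -- conjugation to the involution
  have hzZ : β Data.v0 ∈ D.Z := by rw [hβone hv0]; exact hZset _ ht0
  obtain ⟨m, hm, hmz⟩ := C.fuse hzZ.1 hzZ.2
  refine ⟨{
    f := fun x => m⁻¹ * f x * m
    map_mul := fun x hx y hy => by rw [hfm' x hx y hy]; group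
    inj := ?_
    V_mem := fun v hv => by
      rw [hfel v hv]
      have := (mem_normalizer_iff.mp (inv_mem hm) (β v)).mp (hβV v)
      rwa [inv_inv] at this
    V_surj := fun u hu => by
      obtain ⟨v, hv, e'⟩ := hβsurj (m * u * m⁻¹) ((mem_normalizer_iff.mp hm u).mp hu)
      exact ⟨v, hv, by rw [hfel v hv, e']; group⟩
    N_mem := fun x hx => by
      obtain ⟨v, hv, p, rfl⟩ := dec hx
      rw [hf v hv p]
      exact mul_mem (mul_mem (inv_mem hm) (mul_mem (le_normalizer (hβV v)) (hKN (hlK p)))) hm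
    N_surj := fun n hn => by
      obtain ⟨u, hu, k, hk, e'⟩ : ∃ u ∈ C.V, ∃ k ∈ K, m * n * m⁻¹ = u * k := by
        have hx' : m * n * m⁻¹ ∈ ((C.V ⊔ K : Subgroup G) : Set G) := by
          rw [sup_comm, hsup]; exact mul_mem (mul_mem hm hn) (inv_mem hm)
        rw [coe_mul_of_right_le_normalizer_left C.V K hKN] at hx'
        obtain ⟨v, hv, k, hk, e'⟩ := Set.mem_mul.mp hx'
        exact ⟨v, hv, k, hk, e'.symm⟩
      obtain ⟨v, hv, hvu⟩ := hβsurj u hu
      obtain ⟨p, hp⟩ := Cfsg.Lib.J4Pres.toM24_surjective (eψ ⟨k, hk⟩)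
      refine ⟨el v * jHom p, mul_mem (el_mem v) (j_mem p), ?_⟩
      rw [hf v hv p, hvu, show l p = k by
        show ((eψ.symm (toM24 p) : ↥K) : G) = k
        rw [hp, eψ.symm_apply_apply], ← e']
      group
    base := by rw [hfel _ (by decide +kernel), ← hmz]; group }⟩
  intro x hx y hy hxy
  obtain ⟨a, ha, p, rfl⟩ := dec hx
  obtain ⟨b, hb, q, rfl⟩ := dec hy
  have h := mul_left_cancel (mul_right_cancel hxy)
  rw [hf a ha p, hf b hb q] at h
  have h2 : l (q * p⁻¹) ∈ C.V := by
    rw [_root_.map_mul, _root_.map_inv, show l q * (l p)⁻¹ = (β b)⁻¹ * β a by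
      rw [eq_inv_mul_iff_mul_eq, ← mul_assoc, ← h]; group]
    exact mul_mem (inv_mem (hβV b)) (hβV a)
  have h3 : q * p⁻¹ = 1 := hl_inj (by
    rw [_root_.map_one]; exact mem_bot.mp (hKV ▸ mem_inf.mpr ⟨hlK _, h2⟩))
  obtain rfl : q = p := mul_inv_eq_one.mp h3
  have h4 : β (a ^^^ b) = 1 := by rw [hβ, mul_right_cancel h, ← hβ, Nat.xor_self]; show S _ = 1; rw [hxr0, hS0]
  rw [Nat.xor_eq_zero_iff.mp (hβinj _ (Nat.xor_lt_two_pow (n := 11) ha hb) h4)]

end Existence

end Cfsg.Lib.JankoFour.Unique
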