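import Cfsg.Agent.JankoFour.Unique.LocalDefs

/-!
The finite conditions on the local subgroup hold.
-/

set_option autoImplicit false
set_option maxRecDepth 100000
set_option Elab.async false

namespace Cfsg.Lib.JankoFour.Unique

theorem local_ok : localOK = true := by decide +kernel

theorem chainK_ok : chainK = true := by decide +kernel

theorem agCode_ok : ∀ i < 5, agCodeOK i = true := by decide +kernel

theorem words_ok : wordsOK = true := by decide +kernel

end Cfsg.Lib.JankoFour.Unique
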