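import Cfsg.Agent.JankoFour.Unique.Frame
import Cfsg.Agent.JankoFour.Unique.LocalChecks
import Cfsg.Agent.S0051

/-!
A homomorphism on the centraliser of the central involution of the presented group that extends the normalised
isomorphism on the local subgroup.
-/

set_option autoImplicit false
set_option maxRecDepth 100000
set_option maxHeartbeats 1000000
set_option linter.style.haveILetI false
set_option linter.unusedSectionVars false

namespace Cfsg.Lib.JankoFour.Unique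

open Cfsg Subgroup
open Cfsg.Lib.J4Cert (KJ jHom gt eBasis wordM invW MOK)
open Cfsg.Lib.J4Pres (P im psi)
open Cfsg.Lib.CosetTable (wval)
open _root_.Cfsg.Lib.JankoFour.Unique.Data (kGens vRows tRow tDec dualT spanV slp levels v0)

/-- The central involution. -/
noncomputable def z0 : Spor.J4 := el v0

/-- The local subgroup. -/
noncomputable def M0 : Subgroup Spor.J4 := KJ ⊓ centralizer ({z0} : Set Spor.J4)

/-- A word in the small group as an element. -/
noncomputable def jw (w : List ℕ) : Spor.J4 := jHom (wval im w)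

theorem jw_mem (w : List ℕ) : jw w ∈ KJ := j_mem _

theorem z0_mem : z0 ∈ KJ := el_mem _

theorem mem_M0 {x : Spor.J4} : x ∈ M0 ↔ x ∈ KJ ∧ x * z0 = z0 * x := by
  rw [M0, mem_inf, mem_centralizer_singleton_iff]

theorem el_M0 (v : ℕ) : el v ∈ M0 := mem_M0.mpr ⟨el_mem v, el_comm v v0⟩

theorem jw_invW {w : List ℕ} (h : ∀ l ∈ w, l < 3) : jw (invW w) = (jw w)⁻¹ := by
  rw [jw, jw, ← wval_letters w h, ← wval_letters _ (invW_lt h), J4Cert.wval_invW]

theorem jw_append (a b : List ℕ) : jw (a ++ b) = jw a * jw b := by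
  rw [jw, jw, jw, ← map_mul, CosetTable.wval, CosetTable.wval, CosetTable.wval, List.map_append, List.prod_append]

theorem jw_conj {w : List ℕ} (hw : ∀ l ∈ w, l < 3) {v : ℕ} (hv : v < 2048) :
    actC v (invW w) < 2048 ∧ jw w * el v * (jw w)⁻¹ = el (actC v (invW w)) := by
  obtain ⟨h1, h2⟩ := actC_spec (invW w) (invW_lt hw) v hv
  refine ⟨h1, ?_⟩
  rw [show jHom (wval im (invW w)) = (jw w)⁻¹ from jw_invW hw, inv_inv] at h2
  exact h2

theorem jw_fix {w : List ℕ} (hw : ∀ l ∈ w, l < 3) (h : actC v0 (invW w) = v0) : jw w ∈ M0 := by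
  have h' := (jw_conj hw (show v0 < 2048 by decide +kernel)).2
  rw [h] at h'
  exact mem_M0.mpr ⟨jw_mem w, mul_inv_eq_iff_eq_mul.mp h'⟩

theorem kGen_spec {g : ℕ} (hg : g < 3) : (∀ l ∈ kGens.getD g [], l < 3) ∧
    actC v0 (invW (kGens.getD g [])) = v0 ∧
    ∀ j < 12, jw (kGens.getD g []) * bG j * (jw (kGens.getD g []))⁻¹ =
      eEz ((Data.kRows.getD g []).getD j (0, false)) := by
  have h := genConj_ok
  simp only [genConjOK, List.all_eq_true, List.mem_range, Bool.and_eq_true, decide_eq_true_eq, beq_iff_eq] at h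
  obtain ⟨⟨⟨hl, hfix⟩, -⟩, hconj⟩ := h g hg
  exact ⟨hl, hfix, fun j hj => conjRow_sound hconj (word_mok hl).1 (word_mok hl).2 hj⟩

theorem kGen_M0 {g : ℕ} (hg : g < 3) : jw (kGens.getD g []) ∈ M0 :=
  jw_fix (kGen_spec hg).1 (kGen_spec hg).2.1

/-- A stabiliser chain gives distinct products. -/
theorem chain_card (K : Subgroup P) (hel : ∀ t < slpP.length, ∃ a ∈ K, J4Cert.El (slpP.getD t 0) a) :
    ∀ (L : List (ℕ × List ℕ)) (prev : List ℕ), chainLevels prev L = true → ∃ S : Finset P,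
      S.card = (L.map fun e => e.2.length).prod ∧
        ∀ s ∈ S, s ∈ K ∧ ∀ p ∈ prev, ∀ i : Fin 24, (i : ℕ) = p → (psi s i : ℕ) = p := by
  classical
  intro L
  induction L with
  | nil =>
    intro prev _
    exact ⟨{1}, by simp, fun s hs => by simp_all [one_mem]⟩
  | cons e L ih =>
    intro prev h
    obtain ⟨b, ts⟩ := e
    simp only [chainLevels, Bool.and_eq_true, List.all_eq_true, decide_eq_true_eq, beq_iff_eq] at h
    obtain ⟨⟨⟨hb, hts⟩, hnd⟩, hrest⟩ := h
    obtain ⟨S, hS, hSp⟩ := ih _ hrest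
    have he : ∀ t : {t // t ∈ ts}, ∃ a ∈ K, J4Cert.El (slpP.getD t.1 0) a := fun t => hel _ (hts _ t.2).1
    choose a ha hae using he
    have hpair : (List.map (fun t => J4Cert.ap (slpP.getD t 0) b) ts).Nodup := hnd
    have hts' : ts.Nodup := List.Nodup.of_map _ hpair
    let T : Finset {t // t ∈ ts} := Finset.univ
    have hinj : Function.Injective fun q : {t // t ∈ ts} × {s // s ∈ S} => a q.1 * q.2.1 := by
      rintro ⟨t, s⟩ ⟨t', s'⟩ e'
      simp only at e'
      have hpt := congrArg (fun g => (psi g ⟨b, hb⟩ : ℕ)) e'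
      simp only [map_mul, Equiv.Perm.mul_apply] at hpt
      have hs1 : psi s.1 ⟨b, hb⟩ = ⟨b, hb⟩ := Fin.ext ((hSp _ s.2).2 b List.mem_cons_self ⟨b, hb⟩ rfl)
      have hs2 : psi s'.1 ⟨b, hb⟩ = ⟨b, hb⟩ := Fin.ext ((hSp _ s'.2).2 b List.mem_cons_self ⟨b, hb⟩ rfl)
      rw [hs1, hs2, ← hae t, ← hae t'] at hpt
      obtain rfl : t = t' := Subtype.ext (List.inj_on_of_nodup_map hpair t.2 t'.2 hpt)
      exact Prod.ext rfl (Subtype.ext (mul_left_cancel e'))
    refine ⟨Finset.univ.image fun q : {t // t ∈ ts} × {s // s ∈ S} => a q.1 * q.2.1, ?_, ?_⟩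
    · rw [Finset.card_image_of_injective _ hinj, Finset.card_univ, Fintype.card_prod, Fintype.card_coe, hS,
        List.map_cons, List.prod_cons]
      congr 1
      rw [Fintype.card_of_subtype ts.toFinset (fun t => List.mem_toFinset), List.toFinset_card_of_nodup hts']
    · intro x hx
      simp only [Finset.mem_image, Finset.mem_univ, true_and] at hx
      obtain ⟨⟨t, s⟩, rfl⟩ := hx
      refine ⟨mul_mem (ha t) (hSp _ s.2).1, fun p hp i hi => ?_⟩
      have h1 : psi s.1 i = i := Fin.ext (((hSp _ s.2).2 p (List.mem_cons_of_mem _ hp) i hi).trans hi.symm)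
      rw [map_mul, Equiv.Perm.mul_apply, h1, ← hae t i, hi]
      exact (hts _ t.2).2 p hp

theorem slp_el : ∀ t < slpP.length, ∃ a ∈ closure (Set.range fun g : Fin 3 => wval im (kGens.getD g [])),
    J4Cert.El (slpP.getD t 0) a := by
  set K := closure (Set.range fun g : Fin 3 => wval im (kGens.getD g [])) with hK
  have h := chainK_ok
  simp only [chainK, Bool.and_eq_true, List.all_eq_true, decide_eq_true_eq] at h
  have key : ∀ (l : List (ℕ × ℕ)) (L : List ℕ), (∀ t < L.length, ∃ a ∈ K, J4Cert.El (L.getD t 0) a) →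
      (∀ i (hi : i < l.length), l[i].1 < L.length + i ∧ l[i].2 < L.length + i) →
      ∀ t < (l.foldl (fun L e => L ++ [J4Cert.pm (L.getD e.1 0) (L.getD e.2 0)]) L).length, ∃ a ∈ K,
        J4Cert.El ((l.foldl (fun L e => L ++ [J4Cert.pm (L.getD e.1 0) (L.getD e.2 0)]) L).getD t 0) a := by
    intro l
    induction l with
    | nil => intro L hL _ t ht; exact hL t ht
    | cons e l ih =>
      intro L hL hl
      have he := hl 0 (by simp)
      simp only [List.getElem_cons_zero, add_zero] at he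
      refine ih _ (fun t ht => ?_) (fun i hi => ?_)
      · simp only [List.length_append, List.length_cons, List.length_nil] at ht
        rcases Nat.lt_or_ge t L.length with ht' | ht'
        · rw [List.getD_append _ _ _ _ ht']; exact hL t ht'
        · obtain rfl : t = L.length := by omega
          rw [List.getD_append_right _ _ _ _ le_rfl, Nat.sub_self, List.getD_cons_zero]
          obtain ⟨a, ha, hae⟩ := hL _ he.1
          obtain ⟨b, hb, hbe⟩ := hL _ he.2
          exact ⟨a * b, mul_mem ha hb, hae.mul hbe⟩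
      · have := hl (i + 1) (by simpa using hi)
        simp only [List.getElem_cons_succ] at this
        simp only [List.length_append, List.length_cons, List.length_nil]
        omega
  refine key slp _ (fun t ht => ?_) (fun i hi => ?_)
  · simp only [List.length_map, List.length_range] at ht
    refine ⟨_, subset_closure ⟨⟨t, ht⟩, rfl⟩, ?_⟩
    rw [List.getD_eq_getElem _ _ (by simpa using ht)]
    simpa using J4Cert.wp_el (kGens.getD t [])
  · have := h.1.1 (slp[i], i) (by rw [List.mem_zipIdx_iff_getElem?, List.getElem?_eq_getElem hi])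
    simpa using this

universe u

variable {G : Type u} [Group G] [Finite G] {z : G} {P₀ : Subgroup G}

namespace Emb

variable {C : Ctx z P₀} (α : Emb C)

theorem f_z0 : α.f z0 = z := α.base

theorem f_H {x : Spor.J4} (hx : x ∈ M0) : α.f x ∈ centralizer ({z} : Set G) := by
  obtain ⟨h1, h2⟩ := mem_M0.mp hx
  have e1 := α.map_mul _ h1 _ z0_mem
  have e2 := α.map_mul _ z0_mem _ h1
  rw [α.f_z0] at e1 e2
  exact mem_centralizer_singleton_iff.mpr (e1.symm.trans ((congrArg α.f h2).trans e2))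

theorem mem_M0_of_H {x : Spor.J4} (hx : x ∈ KJ) (h : α.f x ∈ centralizer ({z} : Set G)) : x ∈ M0 := by
  refine mem_M0.mpr ⟨hx, α.inj _ (mul_mem hx z0_mem) _ (mul_mem z0_mem hx) ?_⟩
  rw [α.map_mul _ hx _ z0_mem, α.map_mul _ z0_mem _ hx, α.f_z0]
  exact mem_centralizer_singleton_iff.mp h

include α in
theorem card_M0 : Nat.card ↥M0 = 138240 * 2048 := by
  rw [← C.M_card.1]
  refine Nat.card_congr (Equiv.ofBijective (fun x => ⟨α.f x.1, by
    rw [C.M_eq]; exact ⟨α.N_mem _ (mem_M0.mp x.2).1, α.f_H x.2⟩⟩) ⟨fun a b e => ?_, fun m => ?_⟩)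
  · exact Subtype.ext (α.inj _ (mem_M0.mp a.2).1 _ (mem_M0.mp b.2).1 (congrArg Subtype.val e))
  · have hm : (m : G) ∈ normalizer (C.V : Set G) ⊓ centralizer ({z} : Set G) := C.M_eq.le m.2
    rw [mem_inf] at hm
    obtain ⟨x, hx, e⟩ := α.N_surj m.1 hm.1
    exact ⟨⟨x, α.mem_M0_of_H hx (e ▸ hm.2)⟩, Subtype.ext e⟩

include α in
theorem M0_le {S : Subgroup Spor.J4} (hV : ∀ v < 2048, el v ∈ S) (hK : ∀ g < 3, jw (kGens.getD g []) ∈ S) :
    M0 ≤ S := by
  classical
  haveI := J4Cert.finite_J4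
  obtain ⟨L, hL, hLK⟩ := chain_card _ slp_el levels [] (by
    have h := chainK_ok
    simp only [chainK, Bool.and_eq_true] at h
    exact h.1.2)
  have hL' : L.card = 138240 := by
    have h := chainK_ok
    simp only [chainK, Bool.and_eq_true, beq_iff_eq] at h
    exact hL.trans h.2
  have hKS : closure (Set.range fun g : Fin 3 => wval im (kGens.getD g [])) ≤ S.comap jHom :=
    (closure_le _).mpr (by rintro _ ⟨g, rfl⟩; exact hK g g.2)
  have hKM : closure (Set.range fun g : Fin 3 => wval im (kGens.getD g [])) ≤ M0.comap jHom :=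
    (closure_le _).mpr (by rintro _ ⟨g, rfl⟩; exact kGen_M0 g.2)
  let F : Fin 2048 × {k // k ∈ L} → ↥(M0 ⊓ S) := fun q => ⟨el q.1 * jHom q.2.1,
    mul_mem (⟨el_M0 _, hV _ q.1.2⟩ : el q.1 ∈ M0 ⊓ S)
      ⟨hKM (hLK _ q.2.2).1, hKS (hLK _ q.2.2).1⟩⟩
  have hF : Function.Injective F := by
    rintro ⟨v, p⟩ ⟨w, q⟩ h
    obtain ⟨h1, h2⟩ := dec_unique v.2 w.2 (congrArg Subtype.val h)
    exact Prod.ext (Fin.ext h1) (Subtype.ext h2)
  have hc := Nat.card_le_card_of_injective F hF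
  rw [Nat.card_prod, Nat.card_fin, Nat.card_eq_fintype_card, Fintype.card_coe, hL'] at hc
  have h := Subgroup.eq_of_le_of_card_ge (inf_le_left : M0 ⊓ S ≤ M0) (by rw [α.card_M0]; omega)
  exact h ▸ inf_le_right

/-- The extraspecial subgroup of the local subgroup. -/
noncomputable def E0 : Subgroup Spor.J4 where
  carrier := {q | q ∈ KJ ∧ α.f q ∈ C.E}
  one_mem' := ⟨one_mem _, by rw [α.map_one]; exact one_mem _⟩
  mul_mem' := fun {a b} ha hb => ⟨mul_mem ha.1 hb.1, by rw [α.map_mul _ ha.1 _ hb.1]; exact mul_mem ha.2 hb.2⟩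
  inv_mem' := fun {a} ha => ⟨inv_mem ha.1, by rw [α.map_inv ha.1]; exact inv_mem ha.2⟩

theorem mem_E0 {q : Spor.J4} : q ∈ α.E0 ↔ q ∈ KJ ∧ α.f q ∈ C.E := Iff.rfl

theorem z0_E0 : z0 ∈ α.E0 := ⟨z0_mem, by rw [α.f_z0]; exact C.X.mem⟩

theorem E0_le : α.E0 ≤ M0 := fun _ hq => α.mem_M0_of_H hq.1 (C.le hq.2)

/-- Two compatible elements act alike on the extraspecial subgroup. -/
def Cj (x : Spor.J4) (h : G) : Prop :=
  ∀ q ∈ α.E0, x * q * x⁻¹ ∈ α.E0 ∧ α.f (x * q * x⁻¹) = h * α.f q * h⁻¹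

theorem cj_mul {x y : Spor.J4} {g h : G} (hx : α.Cj x g) (hy : α.Cj y h) : α.Cj (x * y) (g * h) := fun q hq => by
  obtain ⟨h1, h2⟩ := hy q hq
  obtain ⟨h3, h4⟩ := hx _ h1
  rw [show x * y * q * (x * y)⁻¹ = x * (y * q * y⁻¹) * x⁻¹ by group]
  exact ⟨h3, by rw [h4, h2]; group⟩

theorem cj_M0 {m : Spor.J4} (hm : m ∈ M0) : α.Cj m (α.f m) := fun q hq => by
  have hmK := (mem_M0.mp hm).1
  have e := α.map_conj hmK hq.1
  exact ⟨⟨mul_mem (mul_mem hmK hq.1) (inv_mem hmK), by rw [e]; exact C.conj_mem (α.f_H hm) hq.2⟩, e⟩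

section Frame

variable [IsSimpleGroup G]

theorem eE_E0 (hG : ¬ IsMulCommutative G) (x : ℕ) : eE x ∈ α.E0 := ⟨(α.eE_spec hG x).1, (α.eE_spec hG x).2.1⟩

theorem eEz_E0 (hG : ¬ IsMulCommutative G) (e : ℕ × Bool) : eEz e ∈ α.E0 :=
  mul_mem (α.eE_E0 hG _) (by cases e.2 <;> [exact one_mem _; exact α.z0_E0])

theorem π_eEz (hG : ¬ IsMulCommutative G) (hR : α.Rl = idM) {e : ℕ × Bool} (he : e.1 < 4096) :
    C.π (α.f (eEz e)) = e.1 := by
  obtain ⟨hK, hE, hπ⟩ := α.eE_spec hG e.1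
  rw [hR, mv_idM he] at hπ
  rw [eEz]
  cases e.2
  · rw [cond_false, mul_one, hπ]
  · rw [cond_true, α.map_mul _ hK _ (el_mem _), α.base, C.π_mul _ hE _ C.X.mem,
      (C.π_zero z C.X.mem).mpr (Or.inr rfl), Nat.xor_zero, hπ]

theorem E0_cases (hG : ¬ IsMulCommutative G) (hR : α.Rl = idM) {q : Spor.J4} (hq : q ∈ α.E0) :
    ∃ b, q = eEz (C.π (α.f q), b) := by
  set x := C.π (α.f q)
  have hx : x < 4096 := C.π_lt _
  obtain ⟨hK, hE, hπ⟩ := α.eE_spec hG x
  rw [hR, mv_idM hx] at hπ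
  rcases C.π_eq hq.2 hE hπ.symm with e | e
  · exact ⟨false, α.inj _ hq.1 _ (α.eEz_E0 hG _).1 (by rw [e, eEz, cond_false, mul_one])⟩
  · refine ⟨true, α.inj _ hq.1 _ (α.eEz_E0 hG _).1 ?_⟩
    rw [e, eEz, cond_true, α.map_mul _ hK _ (el_mem _), α.base]
    exact (C.X.central _ hE).symm

theorem exists_E0 (hG : ¬ IsMulCommutative G) (hR : α.Rl = idM) {e : G} (he : e ∈ C.E) :
    ∃ q ∈ α.E0, α.f q = e := by
  have hx : C.π e < 4096 := C.π_lt _
  obtain ⟨hK, hE, hπ⟩ := α.eE_spec hG (C.π e)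
  rw [hR, mv_idM hx] at hπ
  rcases C.π_eq he hE hπ.symm with r | r
  · exact ⟨_, α.eE_E0 hG _, r.symm⟩
  · exact ⟨z0 * eE (C.π e), mul_mem α.z0_E0 (α.eE_E0 hG _), (α.map_mul _ z0_mem _ hK).trans ((congrArg (· * _) α.f_z0).trans r.symm)⟩

/-- The action on the extraspecial subgroup is determined by the basis. -/
theorem cj_of_gens (hG : ¬ IsMulCommutative G) (hR : α.Rl = idM) {x : Spor.J4} {h : G} (hz : x * z0 = z0 * x)
    (hh : h ∈ centralizer ({z} : Set G))
    (hb : ∀ j < 12, x * bG j * x⁻¹ ∈ α.E0 ∧ α.f (x * bG j * x⁻¹) = h * α.f (bG j) * h⁻¹) : α.Cj x h := by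
  let good : Spor.J4 → Prop := fun q =>
    q ∈ α.E0 ∧ x * q * x⁻¹ ∈ α.E0 ∧ α.f (x * q * x⁻¹) = h * α.f q * h⁻¹
  have hmul : ∀ a b, good a → good b → good (a * b) := by
    rintro a b ⟨a1, a2, a3⟩ ⟨b1, b2, b3⟩
    refine ⟨mul_mem a1 b1, ?_⟩
    rw [show x * (a * b) * x⁻¹ = x * a * x⁻¹ * (x * b * x⁻¹) by group]
    exact ⟨mul_mem a2 b2, by rw [α.map_mul _ a2.1 _ b2.1, a3, b3, α.map_mul _ a1.1 _ b1.1]; group⟩
  have hone : good 1 := ⟨one_mem _, by simp [α.map_one, one_mem]⟩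
  have hev : ∀ (L : List Spor.J4), (∀ g ∈ L, good g) → ∀ v, good (J4Cert.ev L v) := by
    intro L
    induction L with
    | nil => intro _ v; exact hone
    | cons g L ih =>
      intro hL v
      simp only [List.forall_mem_cons] at hL
      rw [J4Cert.ev]
      exact hmul _ _ (by split <;> [exact hL.1; exact hone]) (ih hL.2 _)
  have hz0 : good z0 := by
    refine ⟨α.z0_E0, ?_⟩
    rw [show x * z0 * x⁻¹ = z0 by rw [hz, mul_inv_cancel_right]]
    exact ⟨α.z0_E0, by rw [α.f_z0, (C.z_comm hh).eq, mul_inv_cancel_right]⟩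
  intro q hq
  obtain ⟨b, e⟩ := α.E0_cases hG hR hq
  have hq' : good q := e ▸ hmul _ _ (hev _ (fun g hg => by
    obtain ⟨j, hj, rfl⟩ := List.mem_map.mp hg
    exact ⟨eE_pow (List.mem_range.mp hj) ▸ α.eE_E0 hG _, hb j (List.mem_range.mp hj)⟩) _)
    (by cases b <;> [exact hone; exact hz0])
  exact hq'.2

/-- Compatible elements act on codes by the listed rows. -/
theorem rep_of_rows (hG : ¬ IsMulCommutative G) (hR : α.Rl = idM) {x : Spor.J4} {h : G}
    (hh : h ∈ centralizer ({z} : Set G)) (hx : α.Cj x h) {r : List (ℕ × Bool)} (hl : r.length = 12)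
    (hr : ∀ j < 12, x * bG j * x⁻¹ = eEz (r.getD j (0, false))) (hlt : ∀ e ∈ r, e.1 < 4096) :
    RepBy C.E C.π h (r.map Prod.fst) := by
  intro q hq
  obtain ⟨a, ha, rfl⟩ := α.exists_E0 hG hR hq
  have hconj : ∀ y < 4096, C.π (h * α.f (eE y) * h⁻¹) = mv (r.map Prod.fst) y := by
    refine lin_ext (g := fun y => mv (r.map Prod.fst) y) (· ^^^ ·) 12 (fun a b => ?_)
      (fun a b => mv_xor _ a b) ?_ (fun j hj => ?_)
    · obtain ⟨-, hEa, hπa⟩ := α.eE_spec hG a
      obtain ⟨-, hEb, hπb⟩ := α.eE_spec hG b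
      obtain ⟨-, hEab, hπab⟩ := α.eE_spec hG (a ^^^ b)
      rcases C.π_eq hEab (mul_mem hEa hEb) (by rw [hπab, C.π_mul _ hEa _ hEb, hπa, hπb, mv_xor]) with e | e
      · rw [e, show h * (α.f (eE a) * α.f (eE b)) * h⁻¹ = h * α.f (eE a) * h⁻¹ * (h * α.f (eE b) * h⁻¹) by group,
          C.π_mul _ (C.conj_mem hh hEa) _ (C.conj_mem hh hEb)]
      · rw [e, show h * (z * (α.f (eE a) * α.f (eE b))) * h⁻¹ =
            h * z * h⁻¹ * (h * α.f (eE a) * h⁻¹ * (h * α.f (eE b) * h⁻¹)) by group,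
          show h * z * h⁻¹ = z by rw [(C.z_comm hh).eq, mul_inv_cancel_right],
          C.π_z_mul (mul_mem (C.conj_mem hh hEa) (C.conj_mem hh hEb)),
          C.π_mul _ (C.conj_mem hh hEa) _ (C.conj_mem hh hEb)]
    · have : ∀ L : List Spor.J4, J4Cert.ev L 0 = 1 := fun L => by induction L <;> simp_all [J4Cert.ev]
      rw [eE, this, α.map_one, mul_one, mul_inv_cancel, C.π_one, mv_zero]
    · obtain ⟨-, e⟩ := hx _ (α.eE_E0 hG (2 ^ j))
      rw [← e, eE_pow hj, hr j hj, α.π_eEz hG hR (by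
        rw [List.getD_eq_getElem _ _ (hl.symm ▸ hj)]; exact hlt _ (List.getElem_mem _)),
        List.getD_eq_getElem _ _ (hl.symm ▸ hj)]
      have hkey : ∀ (L : List ℕ) (i : ℕ) (hi : i < L.length), mv L (2 ^ i) = L[i] := by
        intro L
        induction L with
        | nil => intro i hi; simp at hi
        | cons a L ih =>
          intro i hi
          cases i with
          | zero => simp [mv, mv_zero]
          | succ i =>
            rw [mv, pow_succ, Nat.mul_mod_left, if_neg (by simp), Nat.zero_xor, Nat.mul_div_cancel _ two_pos,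
              ih i (by simpa using hi), List.getElem_cons_succ]
      rw [hkey _ j (by rw [List.length_map, hl]; exact hj), List.getElem_map]
  obtain ⟨b, e⟩ := α.E0_cases hG hR ha
  have hx' : C.π (α.f a) < 4096 := C.π_lt _
  rw [← hconj _ hx']
  obtain ⟨hK, hE, hπ⟩ := α.eE_spec hG (C.π (α.f a))
  rw [hR, mv_idM hx'] at hπ
  rcases C.π_eq ha.2 hE hπ.symm with r | r
  · rw [← r]
  · conv_lhs => rw [r]
    rw [show h * (z * α.f (eE (C.π (α.f a)))) * h⁻¹ = h * z * h⁻¹ * (h * α.f (eE (C.π (α.f a))) * h⁻¹) by group,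
      show h * z * h⁻¹ = z by rw [(C.z_comm hh).eq, mul_inv_cancel_right], C.π_z_mul (C.conj_mem hh hE)]

end Frame

end Emb

end Cfsg.Lib.JankoFour.Unique
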