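import Mathlib.Data.Nat.Notation

/-!
The local subgroup and the relations of the presented group: the data.
-/

set_option autoImplicit false
set_option maxRecDepth 100000

namespace Cfsg.Lib.JankoFour.Unique.Data

/-- The dual of the rows of the third letter. -/
def dualT : List ℕ := [1054, 3129, 49, 35, 1991, 3726, 784, 560, 1616, 3568, 2867, 1570]

/-- The basis of the abelian group as sums of commutators. -/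
def spanV : List ℕ := [119046, 96516, 73985, 49166, 118794, 108805, 112902, 8457, 45066, 20746, 47364]

/-- Products of earlier permutations. -/
def slp : List (ℕ × ℕ) := [(0, 0), (1, 0), (2, 0), (0, 1), (0, 2), (0, 4), (1, 4), (0, 5), (2, 5), (2, 6), (1, 7), (2, 7), (1, 8), (2, 8), (0, 9), (1, 10), (0, 11), (2, 12), (1, 13), (0, 14), (0, 15), (1, 1), (24, 1), (25, 1), (26, 1), (27, 1), (28, 1), (29, 1), (30, 1), (31, 1), (32, 1), (33, 1), (16, 16), (1, 21), (35, 36), (2, 19), (15, 38), (39, 34), (34, 37), (37, 37), (39, 37), (34, 39), (39, 39), (34, 40), (37, 40), (34, 41), (37, 42), (39, 43), (34, 45), (39, 45), (43, 43), (53, 43), (46, 46), (37, 47), (31, 56), (34, 46), (37, 58), (37, 51), (55, 60), (59, 57), (61, 57), (57, 59), (59, 59), (61, 59), (57, 61), (59, 61), (61, 61), (57, 64),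 (57, 66), (59, 66), (57, 68), (57, 57), (65, 59), (57, 67), (75, 76), (57, 70), (72, 78), (61, 67), (75, 80), (77, 77), (79, 77), (79, 79), (77, 54), (82, 81)]

/-- The orbits of a stabiliser chain. -/
def levels : List (ℕ × List ℕ) := [(0, [3, 0, 1, 2, 4, 5, 6, 7, 8, 9, 10, 11, 12, 13, 14, 15, 16, 17, 18, 19, 20, 21, 22, 23]), (2, [3, 34, 37, 39, 31, 40, 41, 42, 43, 44, 45, 28, 46, 47, 48, 49, 50, 51, 52, 25]), (5, [3, 57, 59, 61, 62, 63, 64, 65, 66, 67, 68, 69, 70, 71, 72, 73]), (6, [3, 77, 79, 82, 83, 84, 54, 74, 85]), (1, [3, 86])]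

/-- The inverse matrices of the generators. -/
def kInv : List (List ℕ) := [[1700, 3420, 2570, 1285, 3926, 2813, 3307, 2198, 3213, 2123, 43, 22], [639, 917, 1985, 2370, 3655, 1929, 148, 232, 3143, 1161, 2917, 3514], [610, 947, 3327, 1109, 1069, 2102, 1137, 2194, 816, 272, 3237, 1274]]

/-- The five standard elements as words. -/
def five : List (List ℕ) := [[9, 17, 1, 17, 0, 1, 1, 0, 2, 0, 2, 0, 6, 1, 1], [0, 1, 1, 0, 1, 1, 1, 0, 2, 0, 2, 6], [8, 17, 11, 1, 17, 0, 1, 0, 1, 1, 0, 2, 0, 2, 11, 2, 2], [11, 17, 9, 1, 17, 0, 2, 2, 2, 0, 2, 0, 1, 13], [2, 2, 2, 2, 2]]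

/-- The conjugators of the conjugates of the third letter. -/
def kws : List (List ℕ) := [[], [0, 1, 0, 1, 0, 1, 1, 0, 1, 0, 1, 0, 1, 0, 1, 0, 1, 0, 1, 1], [0, 1, 0, 1, 0, 1, 1, 0, 1, 0, 1, 0, 1, 0, 1, 0, 1, 0, 1, 1, 1, 0, 1, 0, 1, 0, 1, 1, 0, 1, 0, 1, 0, 1, 1, 0, 1, 0, 1, 0, 1]]

/-- The words moving the central code. -/
def sMove : List (List ℕ) := [[0, 2, 0], [1, 0], [1, 0]]

/-- The words moving the central code for the auxiliary conjugate. -/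
def sAux : List (List ℕ) := [[1, 0], [0], [0]]

/-- The conjugator of the auxiliary conjugate. -/
def kAux : List ℕ := [1, 0, 1, 1, 0, 1, 0]

/-- The rotation in terms of the centralising letters. -/
def wRot : List ℕ := [0, 1, 1, 0, 2, 0, 1, 0, 2, 0, 1, 0, 1, 0, 1, 0, 1, 1, 0, 2, 0, 1, 0]

/-- The target code. -/
def v1 : ℕ := 1042

/-- The common codes. -/
def uMid : List ℕ := [629, 1905, 1905]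

/-- The two conjugators of each agreement. -/
def agW : List (List ℕ × List ℕ) := [([0, 2, 0, 2, 0, 2, 0, 1, 0, 1, 0, 2, 0, 2, 0], [1, 1, 0, 1, 1, 0, 1, 0, 1, 1, 0, 1, 0, 1, 1, 0]), ([2, 2, 0, 2, 0, 2, 0, 2, 0, 2, 0, 2, 0, 2, 2, 0, 2, 0, 2, 0, 1, 0, 1, 0, 2, 0, 2, 0, 1, 0, 1, 0, 1, 0], [1, 1, 0, 1, 1, 0, 1, 0, 1, 1, 0, 1, 0, 1, 1, 0]), ([2, 0, 2, 0, 2, 0, 2, 2, 0, 2, 0, 2, 0, 2, 2, 0, 2, 0, 2, 0, 2, 2, 2, 0, 2, 0, 2, 0, 2, 0, 2, 0, 2, 0, 2, 2, 0, 2, 0, 2, 0, 1, 0, 1, 0, 2, 0, 2, 0, 1, 0, 1, 0, 1, 0], [1, 1, 0, 1, 1, 0, 1, 0, 1, 1, 0, 1, 0, 1, 1, 0]), ([], [0]), ([], [1, 0, 1, 0, 2, 0, 2, 0, 1, 0, 1, 0, 1])]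

/-- The two codes of each agreement. -/
def agC : List (ℕ × ℕ) := [(629, 1042), (1905, 1042), (1905, 1042), (1206, 1885), (1206, 1731)]

/-- Certificates of membership of the local subgroup. -/
def agX : List (List ℕ × ℕ × Bool) := [([6, 2, 17, 0, 2, 0, 2, 0, 1, 1, 0, 2, 2, 6], 2348, false), ([6, 0, 1, 17, 0, 1, 1, 1, 0, 2, 2, 0, 1, 6], 2573, true), ([6, 0, 1, 17, 0, 1, 1, 1, 0, 2, 2, 0, 1, 6], 2026, true)]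

/-- The elements of the extraspecial subgroups on both sides. -/
def agE : List (List ℕ × List ℕ) := [([3, 4], [4]), ([1, 4], [1]), ([1, 4], [1]), ([2, 64], [8]), ([1, 4], [4])]

/-- The inverses of the commutation maps. -/
def agRec : List (List ℕ) := [[0, 0, 0, 0, 0, 0, 0, 0, 0, 455, 313, 0, 0, 0, 0, 0, 0, 207, 82, 0, 0, 412, 0, 0, 0, 0, 0, 325, 402, 401, 0, 0, 450], [0, 0, 0, 0, 0, 0, 0, 0, 0, 0, 247, 0, 0, 0, 0, 0, 0, 125, 324, 0, 0, 131, 0, 0, 0, 0, 0, 0, 24, 375, 20, 425, 422], [0, 0, 0, 0, 0, 0, 0, 0, 0, 0, 304, 0, 0, 0, 0, 0, 0, 131, 442, 0, 0, 125, 0, 0, 0, 0, 0, 0, 239, 71, 227, 153, 150], [0, 0, 0, 0, 0, 0, 0, 0, 0, 0, 257, 0, 0, 0, 0, 0, 315, 0, 0, 474, 157, 120, 0, 0, 0, 0, 0, 0, 461, 0, 464, 316, 476], [0, 0, 0, 0, 0, 0, 0, 0, 0, 0, 44, 0, 0, 0, 0, 0, 299, 107, 265, 0, 0, 495,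 0, 0, 0, 0, 0, 399, 221, 256, 0, 0, 240]]

/-- The free coordinates of the commutation maps. -/
def agProj : List (List ℕ) := [[0, 0, 0, 0, 0, 0, 0, 0, 0, 1, 2], [0, 0, 0, 0, 0, 0, 0, 0, 0, 3, 2], [0, 0, 0, 0, 0, 0, 0, 0, 0, 3, 2], [0, 0, 0, 0, 0, 0, 0, 0, 0, 3, 1], [0, 0, 0, 0, 0, 0, 0, 0, 0, 3, 1]]

/-- The auxiliary elements. -/
def agS : List (List ℕ × ℕ) := [([2, 0, 2, 2, 0, 2, 2, 0, 2, 0, 2, 0, 2, 2, 0, 2, 0, 2, 0, 2, 0, 2, 0, 2, 2, 0, 2, 2, 0, 2, 2, 0, 2, 0, 2, 2, 0, 2, 2, 0, 2, 0, 2, 0, 2, 2, 0, 1, 0, 1, 0, 1, 0, 1, 0, 1, 0, 1, 1, 0, 1, 0, 1, 0, 1, 1, 0, 1, 0, 1, 1, 0, 1, 0, 1, 0, 1, 0, 1, 1, 0, 1, 1, 0, 1, 1, 0, 1, 0, 1, 0, 1, 0], 0), ([0, 2, 0, 2, 0, 2, 2, 0, 2, 2, 0, 2, 2, 0, 2, 2, 0, 2, 0, 2, 0, 2, 2, 0, 2, 2, 0, 2, 2, 0, 2, 2, 0, 2, 0, 2, 0, 2, 2, 0, 2, 0, 2, 0, 2, 0, 1, 0, 1,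 1, 0, 1, 0, 1, 1, 0, 1, 1, 0, 1, 0, 1, 0, 1, 0, 1, 1, 0, 1, 0, 1, 0, 1, 0, 1, 1, 0, 1, 1, 0, 1, 1, 0, 1, 0, 1, 0, 1, 1, 0, 1, 0], 894), ([0, 2, 2, 0, 2, 0, 2, 2, 0, 2, 0, 2, 2, 0, 2, 0, 2, 0, 2, 0, 2, 0, 2, 0, 2, 0, 2, 0, 2, 0, 1, 1, 1, 0, 1, 0, 1, 0, 1, 0, 1, 0, 1, 0, 1, 0, 1, 0, 1, 0, 1, 1, 0, 1, 0, 1, 1, 0, 1, 0, 1, 1, 0, 0, 2, 0, 2, 2, 0, 2, 2, 0, 2, 0, 2, 0, 2, 0, 2, 0, 2, 0, 2, 0, 2, 2, 0, 2, 2, 0, 2, 0, 2, 0, 2, 0, 2, 2, 0, 2, 0, 2, 0, 2, 0, 1, 1, 0, 1, 0, 1, 1, 0, 1, 1, 0, 1, 0, 1, 1, 0, 1, 1, 0, 1, 1, 0, 1, 0, 1, 0, 1, 0, 1, 0, 1, 0, 1, 0, 1, 0, 1, 0, 1, 0, 1, 0, 2, 0, 2, 2, 0, 2, 2, 0, 2, 2, 0, 2, 0, 2, 0, 2, 0, 2, 0, 2, 2, 0, 2, 2, 0, 2, 2, 0, 2, 2, 0, 2, 0, 2, 0, 2, 0, 2, 2, 0, 0, 1, 1, 0, 1, 0, 1, 0, 1, 0, 1, 1, 0, 1, 1, 0, 1, 1, 0, 1, 1, 0, 1, 0, 1, 0, 1, 0, 1, 0, 1, 1, 0, 1,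 1, 0, 1, 1, 0, 1], 146), ([2, 0, 2, 0, 2, 0, 2, 0, 2, 2, 0, 2, 0, 2, 2, 0, 2, 0, 2, 0, 2, 0, 2, 2, 0, 2, 2, 0, 2, 2, 0, 2, 2, 0, 2, 0, 1, 1, 1, 0, 1, 0, 1, 1, 0, 1, 1, 0, 1, 1, 0, 1, 1, 0, 1, 0, 1, 0, 1, 0, 1, 1, 0, 1, 0, 1, 1, 0, 1, 0, 1, 0, 1, 0, 1], 1211), ([2, 0, 2, 0, 2, 2, 0, 2, 2, 0, 2, 2, 0, 2, 2, 0, 2, 2, 0, 1, 1, 1, 0, 1, 1, 0, 1, 1, 0, 1, 1, 0, 1, 1, 0, 1, 1, 0, 1, 0, 1, 2, 0, 2, 2, 0, 2, 2, 0, 2, 0, 2, 2, 0, 2, 0, 2, 2, 0, 2, 2, 0, 2, 2, 0, 2, 0, 2, 0, 2, 2, 0, 2, 0, 2, 0, 1, 1, 1, 0, 1, 0, 1, 0, 1, 1, 0, 1, 0, 1, 0, 1, 1, 0, 1, 1, 0, 1, 1, 0, 1, 0, 1, 1, 0, 1, 0, 1, 1, 0, 1, 1, 0, 1], 1108)]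

/-- The odd exponents. -/
def agK : List ℕ := [5, 5, 3, 3, 3]

/-- The images of the abelian basis under the powers. -/
def agR : List (List ℕ) := [[1927, 865, 1742, 650, 1942, 1770, 1575, 1412, 815, 1127, 229], [39, 1484, 669, 1261, 1644, 1911, 1189, 575, 1882, 512, 1970], [1522, 276, 1558, 1261, 16, 85, 980, 406, 1540, 512, 1302], [350, 1898, 1313, 1138, 1677, 711, 234, 373, 95, 682, 962], [681, 682, 315, 1675, 111, 2019, 64, 1515, 256, 1579, 1344]]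

end Cfsg.Lib.JankoFour.Unique.Data
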