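import Cfsg.Agent.JankoFour.Unique.FrameDefs
import Cfsg.Agent.JankoFour.Unique.LocalData
import Cfsg.Agent.J4Cert.GSys

/-!
The local subgroup and the relations of the presented group: definitions and finite conditions.
-/

set_option autoImplicit false
set_option maxRecDepth 100000

namespace Cfsg.Lib.JankoFour.Unique

open Cfsg.Lib.J4Cert (eBasis evM mB wordM invW wp pm idp w2)
open Cfsg.Lib.J4Rep (matT idMat)
open Data (kGens vRows tRow tDec dualT spanV slp levels kInv five kws sMove sAux kAux wRot v1 uMid agW agC agX agE agRec agProj agS agK agR v0)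

/-- A power of the rotation by the element of order three. -/
def omP (b : Bool) : List ℕ :=
  bif b then mm _root_.Cfsg.Lib.JankoFour.Data.OM _root_.Cfsg.Lib.JankoFour.Data.OM
  else _root_.Cfsg.Lib.JankoFour.Data.OM

/-- A map commutes with the rotation, or inverts it. -/
def semiOM (b : Bool) (M : List ℕ) : Bool := mm M _root_.Cfsg.Lib.JankoFour.Data.OM == mm (omP b) M

/-- The matrix of the third letter on the codes. -/
def tMat : List ℕ := tRow.map Prod.fst

/-- The matrices of the local generators on the codes. -/
def g12 (i : ℕ) : List ℕ :=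
  if i < 3 then kMat i else if i < 6 then kInv.getD (i - 3) []
  else if i < 17 then (vRows.getD (i - 6) []).map Prod.fst else tMat

/-- The words of the generators in the small group. -/
def gWord (i : ℕ) : List ℕ := if i < 3 then kGens.getD i [] else invW (kGens.getD (i - 3) [])

/-- The matrices of the local generators. -/
def gmat (i : ℕ) : List ℕ :=
  if i < 6 then wordM (gWord i) else if i < 17 then eBasis.getD (i - 6) [] else matT

/-- The matrix of a word in the local generators. -/
def gwM : List ℕ → List ℕ
  | [] => idMat
  | i :: w => mB (gmat i) (gwM w)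

/-- The matrix of such a word on the codes. -/
def gw12 : List ℕ → List ℕ
  | [] => idM
  | i :: w => mm (g12 i) (gw12 w)

/-- The commutators spanning the abelian group. -/
def commV : List ℕ :=
  (List.range 3).flatMap fun g => (List.range 11).map fun i =>
    actC (2 ^ i) (invW (kGens.getD g [])) ^^^ 2 ^ i

/-- The conditions on the local generators. -/
def localOK : Bool :=
  (List.range 3).all (fun g => mm (kInv.getD g []) (kMat g) == idM && (kInv.getD g []).all fun x => decide (x < 4096)) &&
    (List.range 11).all (fun i => evM eBasis (2 ^ i) == eBasis.getD i [] && mv commV (spanV.getD i 0) == 2 ^ i) &&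
    (tDec.1.all (fun i => decide (i < 5)) && decide (tDec.2 < 256) && mm (wM gens5 tDec.1) (elt tDec.2) == tMat) &&
    (List.range 12).all (fun j => decide (dualT.getD j 0 < 4096) &&
      (List.range 12).all fun k => pB (dualT.getD j 0) (tMat.getD k 0) == (j == k)) &&
    (semiOM false _root_.Cfsg.Lib.JankoFour.Data.A && semiOM false _root_.Cfsg.Lib.JankoFour.Data.B &&
      semiOM false _root_.Cfsg.Lib.JankoFour.Data.C && semiOM true _root_.Cfsg.Lib.JankoFour.Data.T &&
      semiOM true (kMat 0) && !(semiOM true idM)) &&
    (List.range 2).all (fun g => (List.range 24).all fun i =>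
      ptW (List.replicate 15 (kGens.getD (g + 1) [])).flatten i == i) &&
    (List.range 5).all fun k => (five.getD k []).all (fun i => decide (i < 18)) &&
      gw12 (five.getD k []) == gens5.getD k []

/-- The listed permutations. -/
def slpP : List ℕ :=
  slp.foldl (fun L e => L ++ [pm (L.getD e.1 0) (L.getD e.2 0)]) ((List.range 3).map fun g => wp (kGens.getD g []))

/-- The orbits of the chain are as listed. -/
def chainLevels : List ℕ → List (ℕ × List ℕ) → Bool
  | _, [] => true
  | prev, (b, ts) :: r =>
    decide (b < 24) &&
      ts.all (fun t => decide (t < slpP.length) && prev.all fun p => J4Cert.ap (slpP.getD t 0) p == p) &&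
      (ts.map fun t => J4Cert.ap (slpP.getD t 0) b).Nodup &&
      chainLevels (b :: prev) r

/-- The conditions on the chain. -/
def chainK : Bool :=
  slp.zipIdx.all (fun e => decide (e.1.1 < 3 + e.2 ∧ e.1.2 < 3 + e.2)) && chainLevels [] levels &&
    (levels.map fun e => e.2.length).prod == 138240

/-- The word of the second centralising letter. -/
def aW : List ℕ := [1, 0, 1, 0, 2, 0, 2, 0, 1, 0, 1, 0, 1]

/-- A word in the centralising letters. -/
def swW (s : List ℕ) : List ℕ := s.flatMap fun i => [[0], aW, invW aW].getD i []

/-- The word of the rotation. -/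
def rotW : List ℕ := (List.replicate 3 [1, 0, 1, 0, 1, 0, 1]).flatten

/-- The word of the conjugator in the last relation. -/
def conW : List ℕ := [0, 1, 0, 1, 0, 1, 1, 0, 1, 0, 1, 0, 1, 0, 1, 0, 1, 0, 1, 1]

/-- The word of the conjugator in the first relation. -/
def fstW : List ℕ := [1, 0, 2, 0, 1, 0, 2, 0]

/-- The auxiliary conjugate of the third letter. -/
def tAux : List ℕ := invW kAux ++ [3] ++ kAux

/-- The first member of an agreement. -/
def agA (i : ℕ) : List ℕ := (agW.getD i ([], [])).1

/-- The second member of an agreement. -/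
def agB (i : ℕ) : List ℕ := (agW.getD i ([], [])).2

/-- The matrix of the element of an agreement. -/
def agM (i : ℕ) : List ℕ :=
  if i < 3 then
    mB (mB (mB (wordM tAux) (eBasis.getD 0 [])) (wordM (invW (kws.getD i []) ++ [3] ++ kws.getD i [])))
      (mB (eBasis.getD 0 []) (wordM tAux))
  else matT

/-- A power of a matrix. -/
def powM (A : List ℕ) : ℕ → List ℕ
  | 0 => idMat
  | n + 1 => mB (powM A n) A

/-- The word of an element of the extraspecial subgroup. -/
def wX (x : ℕ) : List ℕ := (List.range 12).flatMap fun j => if x.testBit j then Data.bU.getD j [] else []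

/-- The commutation of a code with the selected elements, packed. -/
def agObs (i d : ℕ) : ℕ :=
  let side := fun (g xs : List ℕ) => xs.map fun x => actC (actC d g) (wX x) ^^^ actC d g
  let e := agE.getD i ([], [])
  (side (agA i) e.1 ++ side (agB i) e.2).foldr (fun q r => q ^^^ (r <<< 11)) 0

/-- The conditions of an agreement on codes. -/
def agCodeOK (i : ℕ) : Bool :=
  let c := agC.getD i (0, 0)
  let e := agE.getD i ([], [])
  let s := (agS.getD i ([], 0)).1
  decide (c.1 < 2048) && decide (c.2 < 2048) && agK.getD i 0 % 2 == 1 &&
    (agA i).all (fun l => decide (l < 3)) && (agB i).all (fun l => decide (l < 3)) &&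
    s.all (fun l => decide (l < 3)) && decide ((agS.getD i ([], 0)).2 < 2048) &&
    actC v0 (invW (agA i)) == c.1 && actC v0 (invW (agB i)) == c.2 &&
    actC c.1 (invW s) == c.1 && actC c.2 (invW s) == c.2 &&
    e.1.all (fun x => decide (x < 4096) && actC (actC c.2 (agA i)) (wX x) == actC c.2 (agA i)) &&
    e.2.all (fun x => decide (x < 4096) && actC (actC c.1 (agB i)) (wX x) == actC c.1 (agB i)) &&
    (List.range 11).all (fun t => (mv (agRec.getD i []) (agObs i (2 ^ t)) ^^^
      mv [c.1, c.2] ((agProj.getD i []).getD t 0)) == 2 ^ t)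

/-- The odd power of an agreement normalises the abelian group. -/
def agPowOK (i : ℕ) : Bool :=
  let s := agS.getD i ([], 0)
  let r := powM (mB (agM i) (mB (wordM s.1) (evM eBasis s.2))) (agK.getD i 0)
  (List.range 11).all fun t => let c := (agR.getD i []).getD t 0
    decide (c < 2048) && mB r (eBasis.getD t []) == mB (evM eBasis c) r

/-- The certificate of membership. -/
def agMemOK (i : ℕ) : Bool :=
  let X := agX.getD i ([], 0, false)
  X.1.all (fun l => decide (l < 18)) && decide (X.2.1 < 4096) &&
    mB (agM i) (wordM (agB i)) == mB (wordM (agB i)) (mB (gwM X.1) (eM X.2))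

/-- The words of the relations. -/
def wordsOK : Bool :=
  (List.range 3).all (fun i =>
    agA i == invW (kws.getD i []) ++ swW (sMove.getD i []) && agB i == agB 0 &&
      (kws.getD i []).all (fun l => decide (l < 3)) &&
      (agC.getD i (0, 0)).1 == uMid.getD i 0 && (agC.getD i (0, 0)).2 == v1 &&
      actC v0 (invW (invW kAux ++ swW (sAux.getD i []))) == uMid.getD i 0 &&
      (sMove.getD i []).all (fun l => decide (l < 3)) && (sAux.getD i []).all (fun l => decide (l < 3))) &&
    (agA 3 == [] && agA 4 == [] && agB 3 == [0] && agB 4 == aW) &&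
    (kws.getD 0 [] == [] && kws.getD 1 [] == conW && kws.getD 2 [] == conW ++ rotW) &&
    kAux.all (fun l => decide (l < 3)) && wRot.all (fun l => decide (l < 3)) &&
    wp (swW wRot) == wp rotW &&
    actC v0 (invW (fstW ++ [1] ++ invW fstW)) == v0 &&
    actC v0 (invW (invW (swW [1, 1, 0]) ++ (w2 ++ [1] ++ invW w2) ++ swW [1, 1, 0])) == v0

/-- The two identities of the last relation. -/
def lastOK : Bool :=
  let G0 := mB (eBasis.getD 0 []) (wordM tAux)
  mB (agM 0) (mB (agM 1) (mB (agM 0) (agM 2))) == evM eBasis v1 &&
    mB (mB G0 (evM eBasis v1)) (mB (wordM tAux) (eBasis.getD 0 [])) == wordM (rotW ++ rotW)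

end Cfsg.Lib.JankoFour.Unique
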