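import Cfsg.Agent.JankoFour.Unique.Agree

/-!
The image of the third letter satisfies the relations of the presented group.
-/

set_option autoImplicit false
set_option maxRecDepth 100000
set_option maxHeartbeats 1000000
set_option linter.style.haveILetI false
set_option linter.unusedSectionVars false

namespace Cfsg.Lib.JankoFour.Unique

open Cfsg Subgroup
open Cfsg.Lib.J4Cert (KJ jHom gt gx gy ge letG eBasis evM wordM invW MOK w2 wExpr wP)
open Cfsg.Lib.J4Pres (P im psi px py)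
open Cfsg.Lib.CosetTable (wval)
open _root_.Cfsg.Lib.JankoFour.Unique.Data (kGens vRows kws sMove sAux kAux wRot v1 uMid agC agX v0)

theorem swW_lt (s : List ℕ) : ∀ l ∈ swW s, l < 3 := by
  intro l hl
  simp only [swW, List.mem_flatMap] at hl
  obtain ⟨i, -, hl⟩ := hl
  have h : ∀ w ∈ [[0], aW, invW aW], ∀ l ∈ w, l < 3 := by decide +kernel
  by_cases hi : i < 3
  · rw [List.getD_eq_getElem _ _ (by simpa using hi)] at hl
    exact h _ (List.getElem_mem _) l hl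
  · rw [List.getD_eq_default _ _ (by simp; omega)] at hl
    simp at hl

theorem jw_nil : jw [] = 1 := by simp [jw, CosetTable.wval]

theorem jw_zero : jw [0] = gx := by
  rw [jw, show wval im [0] = px by simp [CosetTable.wval]; rfl, J4Cert.jHom_px]

theorem jw_one : jw [1] = gy := by
  rw [jw, show wval im [1] = py by simp [CosetTable.wval]; rfl, J4Cert.jHom_py]

theorem jw_aW : jw aW = jHom wP := by
  rw [jw]
  congr 1

theorem gt_swW : ∀ s : List ℕ, gt * jw (swW s) = jw (swW s) * gt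
  | [] => by simp [swW, jw, CosetTable.wval]
  | i :: s => by
    rw [show swW (i :: s) = [[0], aW, invW aW].getD i [] ++ swW s by simp [swW], jw_append]
    have h : gt * jw ([[0], aW, invW aW].getD i []) = jw ([[0], aW, invW aW].getD i []) * gt := by
      match i with
      | 0 => rw [List.getD_cons_zero, jw_zero]; exact J4Cert.comm_x
      | 1 => rw [List.getD_cons_succ, List.getD_cons_zero, jw_aW]; exact J4Cert.comm_w
      | 2 =>
        rw [List.getD_cons_succ, List.getD_cons_succ, List.getD_cons_zero, jw_invW (by decide), jw_aW]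
        exact (Commute.inv_right (J4Cert.comm_w : Commute gt (jHom wP))).eq
      | n + 3 => simp [jw, CosetTable.wval]
    rw [← mul_assoc, h, mul_assoc, gt_swW s, mul_assoc]

theorem rot_eq : jw rotW = jw (swW wRot) := by
  have h := words_ok
  simp only [wordsOK, Bool.and_eq_true, beq_iff_eq] at h
  rw [jw, jw]
  congr 1
  exact J4Cert.El.unique (h.1.1.2 ▸ J4Cert.wp_el rotW) (J4Cert.wp_el (swW wRot))

theorem first_rel : (gy * ((jw fstW)⁻¹ * gt * jw fstW)) ^ 3 = 1 := by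
  have h := J4Cert.extra_one ((Spor.J4.y * ((Spor.J4.y * Spor.J4.x * (Spor.J4.y⁻¹) * Spor.J4.x * Spor.J4.y *
    Spor.J4.x * (Spor.J4.y⁻¹) * Spor.J4.x)⁻¹ * Spor.J4.t * (Spor.J4.y * Spor.J4.x * (Spor.J4.y⁻¹) * Spor.J4.x *
    Spor.J4.y * Spor.J4.x * (Spor.J4.y⁻¹) * Spor.J4.x))) ^ 3) (by simp [Spor.J4.extra])
  simp only [map_pow, map_mul, map_inv] at h
  have e : jw fstW = gy * gx * gy⁻¹ * gx * gy * gx * gy⁻¹ * gx := by
    rw [jw, ← wval_letters _ (by decide : ∀ l ∈ fstW, l < 3)]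
    simp only [CosetTable.wval, fstW, List.map_cons, List.map_nil, List.prod_cons, List.prod_nil, J4Cert.letG]
    group
  rw [e]
  exact h

theorem ge_eq : ge = (gy * ((jw w2)⁻¹ * gt * jw w2)) ^ 3 := rfl

/-- The element of a local generator. -/
noncomputable def gel (i : ℕ) : Spor.J4 :=
  if i < 6 then jw (gWord i) else if i < 17 then el (2 ^ (i - 6)) else gt

/-- The element of a word in the local generators. -/
noncomputable def gwl : List ℕ → Spor.J4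
  | [] => 1
  | i :: w => gel i * gwl w

theorem gWord_spec {i : ℕ} (hi : i < 6) : (∀ l ∈ gWord i, l < 3) ∧ jw (gWord i) ∈ M0 := by
  by_cases h3 : i < 3
  · rw [gWord, if_pos h3]; exact ⟨(kGen_spec h3).1, kGen_M0 h3⟩
  · rw [gWord, if_neg h3]
    exact ⟨invW_lt (kGen_spec (by omega)).1,
      by rw [jw_invW (kGen_spec (by omega)).1]; exact inv_mem (kGen_M0 (by omega))⟩

theorem gel_mok {i : ℕ} (hi : i < 18) : MOK (gel i) (gmat i) := by
  unfold gel gmat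
  split_ifs with h1 h2
  · exact (word_mok (gWord_spec h1).1).1
  · exact el_pow_mok (by omega)
  · exact J4Cert.mok_gens.2.2.2

theorem gwl_mok : ∀ {w : List ℕ}, (∀ l ∈ w, l < 18) → MOK (gwl w) (gwM w)
  | [], _ => MOK.one
  | i :: w, h => by
    simp only [List.forall_mem_cons] at h
    exact (gel_mok h.1).mul (gwl_mok h.2)

theorem conj_mem_of_cert {i : ℕ} (hi : i < 3) :
    ∃ (w : List ℕ) (e : ℕ × Bool), (∀ l ∈ w, l < 18) ∧
      (jw (agB i))⁻¹ * agElt i * jw (agB i) = gwl w * eEz e := by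
  have h := agMem_ok i hi
  simp only [agMemOK, Bool.and_eq_true, List.all_eq_true, decide_eq_true_eq] at h
  obtain ⟨⟨hw, -⟩, he⟩ := h
  have hc := agCode_ok i (by omega)
  simp only [agCodeOK, Bool.and_eq_true, List.all_eq_true, decide_eq_true_eq, beq_iff_eq] at hc
  obtain ⟨⟨⟨⟨⟨⟨⟨⟨⟨⟨⟨⟨⟨-, -⟩, -⟩, -⟩, hb⟩, -⟩, -⟩, -⟩, -⟩, -⟩, -⟩, -⟩, -⟩, -⟩ := hc
  refine ⟨(Data.agX.getD i ([], 0, false)).1, (Data.agX.getD i ([], 0, false)).2, hw, ?_⟩
  rw [mul_assoc, inv_mul_eq_iff_eq_mul]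
  exact mok_eq (mok_cast ((agElt_mok i).mul (word_mok hb).1) he)
    ((word_mok hb).1.mul ((gwl_mok hw).mul (eEz_mok _)))

universe u

variable {G : Type u} [Group G] [Finite G] {z : G} {P₀ : Subgroup G}

namespace Sect

variable {C : Ctx z P₀} {α : Emb C} (S : Sect α)

theorem gel_X {i : ℕ} (hi : i < 18) : gel i ∈ S.X := by
  unfold gel
  split_ifs with h1 h2
  · exact S.M_le (gWord_spec h1).2
  · exact S.M_le (el_M0 _)
  · exact S.t_mem

theorem gwl_X : ∀ {w : List ℕ}, (∀ l ∈ w, l < 18) → gwl w ∈ S.X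
  | [], _ => one_mem _
  | i :: w, h => by
    simp only [List.forall_mem_cons] at h
    exact mul_mem (S.gel_X h.1) (gwl_X h.2)

/-- The image of the third letter. -/
noncomputable def T : G := S.ψ gt

theorem T_sq : S.T * S.T = 1 := by
  rw [T, ← S.map_mul _ S.t_mem _ S.t_mem, J4Cert.t_sq, S.ψ_one]

theorem T_inv : S.T⁻¹ = S.T := inv_eq_of_mul_eq_one_right S.T_sq

variable [IsSimpleGroup G] (hG : ¬ IsMulCommutative G) (hR : α.Rl = idM)

include hG hR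

theorem T_gen {i : ℕ} (hi : i < 2) : Commute S.T (α.f (jw (agB (3 + i)))) := by
  have h := words_ok
  simp only [wordsOK, Bool.and_eq_true, beq_iff_eq] at h
  obtain ⟨⟨⟨⟨⟨⟨⟨-, ⟨⟨⟨h3, h4⟩, b3⟩, b4⟩⟩, -⟩, -⟩, -⟩, -⟩, -⟩, -⟩ := h
  have hA : agA (3 + i) = [] := by interval_cases i <;> assumption
  have hgt : agElt (3 + i) = gt := if_neg (by omega)
  have hg : gt * jw (agB (3 + i)) = jw (agB (3 + i)) * gt := by
    interval_cases i
    · rw [b3, jw_zero]; exact J4Cert.comm_x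
    · rw [b4, jw_aW]; exact J4Cert.comm_w
  have e1 : (jw (agB (3 + i)))⁻¹ * gt * jw (agB (3 + i)) = gt := by rw [mul_assoc, hg, inv_mul_cancel_left]
  have hA' : agElt (3 + i) ∈ S.Dom (jw (agA (3 + i))) := by
    rw [S.mem_Dom, hA, hgt, jw_nil, inv_one, one_mul, mul_one]; exact S.t_mem
  have hB' : agElt (3 + i) ∈ S.Dom (jw (agB (3 + i))) := by
    rw [S.mem_Dom, hgt, e1]; exact S.t_mem
  have e := S.agree hG hR (show 3 + i < 5 by omega) hA' hB'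
  rw [hA, hgt, jw_nil, Ψ, Ψ, e1, α.map_one, inv_one, inv_one, one_mul, one_mul, mul_one, mul_one] at e
  show S.ψ gt * α.f (jw (agB (3 + i))) = α.f (jw (agB (3 + i))) * S.ψ gt
  conv_lhs => rw [e]
  rw [inv_mul_cancel_right]

theorem T_x : Commute S.T (α.f gx) := by
  have h := S.T_gen hG hR (i := 0) (by norm_num)
  have h' := words_ok
  simp only [wordsOK, Bool.and_eq_true, beq_iff_eq] at h'
  obtain ⟨⟨⟨⟨⟨⟨⟨-, ⟨⟨-, b3⟩, -⟩⟩, -⟩, -⟩, -⟩, -⟩, -⟩, -⟩ := h'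
  rwa [show agB (3 + 0) = [0] from b3, jw_zero] at h

theorem T_a : Commute S.T (α.f (jw aW)) := by
  have h := S.T_gen hG hR (i := 1) (by norm_num)
  have h' := words_ok
  simp only [wordsOK, Bool.and_eq_true, beq_iff_eq] at h'
  obtain ⟨⟨⟨⟨⟨⟨⟨-, ⟨-, b4⟩⟩, -⟩, -⟩, -⟩, -⟩, -⟩, -⟩ := h'
  rwa [show agB (3 + 1) = aW from b4] at h

theorem T_swW : ∀ s : List ℕ, Commute S.T (α.f (jw (swW s)))
  | [] => by rw [show swW [] = [] from rfl, jw_nil, α.map_one]; exact Commute.one_right _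
  | i :: s => by
    rw [show swW (i :: s) = [[0], aW, invW aW].getD i [] ++ swW s by simp [swW], jw_append,
      α.map_mul _ (jw_mem _) _ (jw_mem _)]
    refine Commute.mul_right ?_ (T_swW s)
    match i with
    | 0 => rw [List.getD_cons_zero, jw_zero]; exact S.T_x hG hR
    | 1 => rw [List.getD_cons_succ, List.getD_cons_zero]; exact S.T_a hG hR
    | 2 =>
      rw [List.getD_cons_succ, List.getD_cons_succ, List.getD_cons_zero, jw_invW (by decide), α.map_inv (jw_mem _)]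
      exact (S.T_a hG hR).inv_right
    | n + 3 =>
      rw [show [[0], aW, invW aW].getD (n + 3) [] = [] from rfl, jw_nil, α.map_one]
      exact Commute.one_right _

omit hG hR

omit [IsSimpleGroup G] in
theorem f_conj_word {g : Spor.J4} (hg : g ∈ KJ) {x : Spor.J4} :
    S.Ψ g (g * x * g⁻¹) = α.f g * S.ψ x * (α.f g)⁻¹ := by
  rw [Ψ]; congr 3; group

include hG hR

theorem ψ_M0_t {μ : Spor.J4} (hμ : μ ∈ M0) : S.ψ (μ * gt * μ⁻¹) = α.f μ * S.T * (α.f μ)⁻¹ := by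
  rw [S.map_mul _ (mul_mem (S.M_le hμ) S.t_mem) _ (inv_mem (S.M_le hμ)), S.map_mul _ (S.M_le hμ) _ S.t_mem,
    S.ψ_inv (S.M_le hμ), S.M_eq μ hμ]
  rfl

theorem second_rel : (α.f (jw rotW) * S.T * ((α.f (jw conW))⁻¹ * S.T * α.f (jw conW))) ^ 2 = 1 := by
  have hw := words_ok
  simp only [wordsOK, Bool.and_eq_true, List.all_eq_true, List.mem_range, decide_eq_true_eq, beq_iff_eq] at hw
  obtain ⟨⟨⟨⟨⟨⟨⟨hag, -⟩, ⟨⟨hk0, hk1⟩, hk2⟩⟩, hkA⟩, hwR⟩, -⟩, -⟩, -⟩ := hw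
  set F1 := α.f (el 1) with hF1
  set Tσ := (α.f (jw kAux))⁻¹ * S.T * α.f (jw kAux) with hTσ
  set Tk : ℕ → G := fun i => (α.f (jw (kws.getD i [])))⁻¹ * S.T * α.f (jw (kws.getD i [])) with hTk
  have hv0 : v0 < 2048 := by decide +kernel
  have htaux : wval letG tAux = (jw kAux)⁻¹ * gt * jw kAux := by
    rw [tAux, wval_t (invW_lt hkA) hkA, jw_invW hkA]
  have hv1 : v1 < 2048 := by decide +kernel
  -- each extension at the middle code
  have key : ∀ i < 3, agElt i ∈ S.Dom (jw (agA i)) ∧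
      S.Ψ (jw (agA i)) (agElt i) = Tσ * F1 * Tk i * (F1 * Tσ) ∧
      wval letG tAux ∈ S.Dom (jw (agA i)) ∧ S.Ψ (jw (agA i)) (wval letG tAux) = Tσ ∧
      jw (agA i) * z0 * (jw (agA i))⁻¹ = el (agC.getD i (0, 0)).1 := by
    intro i hi
    obtain ⟨⟨⟨⟨⟨⟨⟨hA, -⟩, hkl⟩, hcu⟩, -⟩, hga2⟩, -⟩, -⟩ := hag i hi
    have hc := agCode_ok i (by omega)
    simp only [agCodeOK, Bool.and_eq_true, List.all_eq_true, decide_eq_true_eq, beq_iff_eq] at hc
    obtain ⟨⟨⟨⟨⟨⟨⟨⟨⟨⟨⟨⟨⟨ha2, -⟩, -⟩, hwa⟩, -⟩, -⟩, -⟩, hca⟩, -⟩, -⟩, -⟩, -⟩, -⟩, -⟩ := hc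
    set ga := jw (agA i) with hga
    have hgaK : ga ∈ KJ := jw_mem _
    have ha : ga * z0 * ga⁻¹ = el (agC.getD i (0, 0)).1 := by rw [← hca]; exact (jw_conj hwa hv0).2
    set s1 := jw (swW (sMove.getD i [])) with hs1
    set s2 := jw (swW (sAux.getD i [])) with hs2
    set kw := jw (kws.getD i []) with hkw
    have ega : ga = kw⁻¹ * s1 := by rw [hga, hA, jw_append, jw_invW hkl]
    -- the auxiliary conjugator
    set g2 := (jw kAux)⁻¹ * s2 with hg2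
    have hg2K : g2 ∈ KJ := mul_mem (inv_mem (jw_mem _)) (jw_mem _)
    have hg2z : g2 * z0 * g2⁻¹ = el (agC.getD i (0, 0)).1 := by
      rw [hcu, ← hga2]
      have hlt : ∀ l ∈ invW kAux ++ swW (sAux.getD i []), l < 3 := fun l hl =>
        (List.mem_append.mp hl).elim (invW_lt hkA l) (swW_lt _ l)
      rw [← (jw_conj hlt hv0).2, jw_append, jw_invW hkA]
      rfl
    set μ := ga⁻¹ * g2 with hμ
    have hμM : μ ∈ M0 := mem_M0.mpr ⟨mul_mem (inv_mem hgaK) hg2K, by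
      rw [hμ]
      calc ga⁻¹ * g2 * z0 = ga⁻¹ * (g2 * z0 * g2⁻¹) * g2 := by group
        _ = ga⁻¹ * (ga * z0 * ga⁻¹) * g2 := by rw [hg2z, ha]
        _ = _ := by group⟩
    have hs1t : s1⁻¹ * gt * s1 = gt := by rw [mul_assoc, gt_swW, inv_mul_cancel_left]
    have hs2t : s2 * gt * s2⁻¹ = gt := by rw [← gt_swW, mul_inv_cancel_right]
    -- the conjugates of the third letter
    have e1 : ga⁻¹ * (kw⁻¹ * gt * kw) * ga = gt := by
      calc ga⁻¹ * (kw⁻¹ * gt * kw) * ga = s1⁻¹ * gt * s1 := by rw [ega]; group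
        _ = gt := hs1t
    have e2 : ga⁻¹ * wval letG tAux * ga = μ * gt * μ⁻¹ := by
      calc ga⁻¹ * wval letG tAux * ga = ga⁻¹ * ((jw kAux)⁻¹ * (s2 * gt * s2⁻¹) * jw kAux) * ga := by
            rw [htaux, hs2t]
        _ = _ := by rw [hμ, hg2]; group
    have hD1 : kw⁻¹ * gt * kw ∈ S.Dom ga := S.mem_Dom.mpr (by rw [e1]; exact S.t_mem)
    have hD2 : wval letG tAux ∈ S.Dom ga :=
      S.mem_Dom.mpr (by rw [e2]; exact mul_mem (mul_mem (S.M_le hμM) S.t_mem) (inv_mem (S.M_le hμM)))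
    have hel1 : ga⁻¹ * el 1 * ga ∈ M0 := M0_of_fix hgaK ha (el_mem 1) (el_comm _ _)
    have hD3 : el 1 ∈ S.Dom ga := S.mem_Dom.mpr (S.M_le hel1)
    have v1' : S.Ψ ga (kw⁻¹ * gt * kw) = Tk i := by
      rw [Ψ, e1, ega, α.map_mul _ (inv_mem (jw_mem _)) _ (jw_mem _), α.map_inv (jw_mem _)]
      show (α.f kw)⁻¹ * α.f s1 * S.T * ((α.f kw)⁻¹ * α.f s1)⁻¹ = _
      calc (α.f kw)⁻¹ * α.f s1 * S.T * ((α.f kw)⁻¹ * α.f s1)⁻¹
          = (α.f kw)⁻¹ * (α.f s1 * S.T) * ((α.f kw)⁻¹ * α.f s1)⁻¹ := by group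
        _ = (α.f kw)⁻¹ * (S.T * α.f s1) * ((α.f kw)⁻¹ * α.f s1)⁻¹ := by rw [← (S.T_swW hG hR (Data.sMove.getD i [])).eq]
        _ = (α.f kw)⁻¹ * S.T * α.f kw := by group
    have v2' : S.Ψ ga (wval letG tAux) = Tσ := by
      rw [Ψ, e2, S.ψ_M0_t hG hR hμM]
      have hf : α.f ga * α.f μ = (α.f (jw kAux))⁻¹ * α.f s2 := by
        rw [← α.map_mul _ hgaK _ (mem_M0.mp hμM).1, hμ, mul_inv_cancel_left, hg2,
          α.map_mul _ (inv_mem (jw_mem _)) _ (jw_mem _), α.map_inv (jw_mem _)]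
      calc α.f ga * (α.f μ * S.T * (α.f μ)⁻¹) * (α.f ga)⁻¹
          = (α.f ga * α.f μ) * S.T * (α.f ga * α.f μ)⁻¹ := by group
        _ = (α.f (jw kAux))⁻¹ * (α.f s2 * S.T) * ((α.f (jw kAux))⁻¹ * α.f s2)⁻¹ := by rw [hf]; group
        _ = (α.f (jw kAux))⁻¹ * (S.T * α.f s2) * ((α.f (jw kAux))⁻¹ * α.f s2)⁻¹ := by
          rw [← (S.T_swW hG hR (Data.sAux.getD i [])).eq]
        _ = _ := by rw [hTσ]; group
    have hm : agElt i = wval letG tAux * el 1 * (kw⁻¹ * gt * kw) * (el 1 * wval letG tAux) := by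
      rw [agElt, if_pos hi, wval_t (invW_lt hkl) hkl, jw_invW hkl]
    refine ⟨hm ▸ mul_mem (mul_mem (mul_mem hD2 hD3) hD1) (mul_mem hD3 hD2), ?_, hD2, v2', ha⟩
    rw [hm, S.Ψ_mul (mul_mem (mul_mem hD2 hD3) hD1) (mul_mem hD3 hD2), S.Ψ_mul (mul_mem hD2 hD3) hD1,
      S.Ψ_mul hD2 hD3, S.Ψ_mul hD3 hD2, v1', v2', S.Ψ_M hgaK (el_mem 1) hel1]
  -- agreement
  set gb := jw (agB 0) with hgb
  have hB : ∀ i < 3, agB i = agB 0 := fun i hi => by
    obtain ⟨⟨⟨⟨⟨⟨⟨-, hb⟩, -⟩, -⟩, -⟩, -⟩, -⟩, -⟩ := hag i hi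
    exact hb
  have hbD : ∀ i < 3, agElt i ∈ S.Dom gb := fun i hi => by
    obtain ⟨w, e, hw, hc⟩ := conj_mem_of_cert hi
    rw [S.mem_Dom, hgb, ← hB i hi, hc]
    exact mul_mem (S.gwl_X hw) (S.M_le (α.E0_le (α.eEz_E0 hG e)))
  have hΨ : ∀ i < 3, S.Ψ gb (agElt i) = Tσ * F1 * Tk i * (F1 * Tσ) := fun i hi => by
    obtain ⟨hA, hv, -⟩ := key i hi
    have hB' : agElt i ∈ S.Dom (jw (agB i)) := by rw [hB i hi]; exact hbD i hi
    have e := S.agree hG hR (show i < 5 by omega) hA hB'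
    rw [hB i hi] at e
    rw [← e, hv]
  have hl := last_ok
  simp only [lastOK, Bool.and_eq_true] at hl
  have hprod : agElt 0 * (agElt 1 * (agElt 0 * agElt 2)) = el v1 :=
    mok_eq (mok_cast ((agElt_mok 0).mul ((agElt_mok 1).mul ((agElt_mok 0).mul (agElt_mok 2)))) hl.1) (el_mok v1)
  have hgbv : gb⁻¹ * el v1 * gb ∈ M0 := by
    have hc := agCode_ok 0 (by norm_num)
    simp only [agCodeOK, Bool.and_eq_true, List.all_eq_true, decide_eq_true_eq, beq_iff_eq] at hc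
    obtain ⟨⟨⟨⟨⟨⟨⟨⟨⟨⟨⟨⟨⟨-, -⟩, -⟩, -⟩, hwb⟩, -⟩, -⟩, -⟩, hcb⟩, -⟩, -⟩, -⟩, -⟩, -⟩ := hc
    exact M0_of_fix (jw_mem _) (jw_conj hwb hv0).2 (el_mem _) (el_comm _ _)
  have hF : F1 * F1 = 1 := by rw [hF1, ← α.map_mul _ (el_mem 1) _ (el_mem 1), el_mul_self, α.map_one]
  have hTσ2 : Tσ * Tσ = 1 := by
    rw [hTσ]
    calc _ = (α.f (jw kAux))⁻¹ * (S.T * S.T) * α.f (jw kAux) := by group
      _ = _ := by rw [S.T_sq, mul_one, inv_mul_cancel]
  have hQ : Tσ * F1 * (Tk 0 * Tk 1 * Tk 0 * Tk 2) * (F1 * Tσ) = α.f (el v1) := by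
    rw [← S.Ψ_M (jw_mem _) (el_mem v1) hgbv, ← hprod,
      S.Ψ_mul (hbD 0 (by norm_num)) (mul_mem (hbD 1 (by norm_num)) (mul_mem (hbD 0 (by norm_num)) (hbD 2 (by norm_num)))),
      S.Ψ_mul (hbD 1 (by norm_num)) (mul_mem (hbD 0 (by norm_num)) (hbD 2 (by norm_num))),
      S.Ψ_mul (hbD 0 (by norm_num)) (hbD 2 (by norm_num)), hΨ 0 (by norm_num), hΨ 1 (by norm_num), hΨ 2 (by norm_num)]
    have hc : ∀ a : G, F1 * Tσ * (Tσ * F1 * a) = a := fun a => by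
      rw [show F1 * Tσ * (Tσ * F1 * a) = F1 * (Tσ * Tσ) * F1 * a by group, hTσ2, mul_one, hF, one_mul]
    symm
    calc _ = Tσ * F1 * Tk 0 * (F1 * Tσ * (Tσ * F1 * Tk 1)) * (F1 * Tσ * (Tσ * F1 * Tk 0)) *
        (F1 * Tσ * (Tσ * F1 * Tk 2)) * (F1 * Tσ) := by group
      _ = _ := by rw [hc, hc, hc]; group
  -- the auxiliary conjugate moves the element to the square of the rotation
  obtain ⟨-, -, htD, htΨ, hz⟩ := key 0 (by norm_num)
  have hwR : ∀ l ∈ rotW ++ rotW, l < 3 := by decide +kernel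
  have h1m : MOK (el 1) (eBasis.getD 0 []) := el_pow_mok (i := 0) (by norm_num)
  have htm : MOK (wval letG tAux) (wordM tAux) := J4Cert.wordM_ok _
  have hsq : (el 1 * wval letG tAux) * el v1 * (wval letG tAux * el 1) = jw (rotW ++ rotW) :=
    mok_eq (mok_cast (((h1m.mul htm).mul (el_mok v1)).mul (htm.mul h1m))
      hl.2) (word_mok hwR).1
  have htt : wval letG tAux * wval letG tAux = 1 := by
    rw [htaux]
    calc _ = (jw kAux)⁻¹ * (gt * gt) * jw kAux := by group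
      _ = _ := by rw [J4Cert.t_sq, mul_one, inv_mul_cancel]
  have hq : wval letG tAux * el v1 * (wval letG tAux)⁻¹ = el 1 * jw (rotW ++ rotW) * el 1 := by
    rw [inv_eq_of_mul_eq_one_right htt, ← hsq]
    calc _ = (el 1 * el 1) * (wval letG tAux * el v1 * wval letG tAux) * (el 1 * el 1) := by
          rw [el_mul_self, one_mul, mul_one]
      _ = _ := by group
  have hconj := S.Ψ_conj (jw_mem _) hz htD (el_mem v1) (el_comm _ _)
    (hq ▸ mul_mem (mul_mem (el_mem 1) (jw_mem _)) (el_mem 1))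
  rw [hq, htΨ, α.map_mul _ (mul_mem (el_mem 1) (jw_mem _)) _ (el_mem 1), α.map_mul _ (el_mem 1) _ (jw_mem _),
    jw_append, α.map_mul _ (jw_mem _) _ (jw_mem _)] at hconj
  set W := α.f (jw rotW) with hW
  have hcycle : Tk 0 * Tk 1 * Tk 0 * Tk 2 = W * W := by
    calc _ = (F1 * F1) * (Tk 0 * Tk 1 * Tk 0 * Tk 2) * (F1 * F1) := by rw [hF, one_mul, mul_one]
      _ = F1 * (Tσ * Tσ) * F1 * (Tk 0 * Tk 1 * Tk 0 * Tk 2) * F1 * (Tσ * Tσ) * F1 := by
        rw [hTσ2, mul_one, mul_one]; group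
      _ = F1 * (Tσ * (Tσ * F1 * (Tk 0 * Tk 1 * Tk 0 * Tk 2) * (F1 * Tσ))) * Tσ * F1 := by group
      _ = F1 * (F1 * (W * W) * F1 * Tσ) * Tσ * F1 := by rw [hQ, hconj]
      _ = (F1 * F1) * (W * W) * F1 * (Tσ * Tσ) * F1 := by group
      _ = _ := by rw [hF, hTσ2, one_mul, mul_one, mul_assoc, hF, mul_one]
  have hWT : Commute S.T W := by rw [hW, rot_eq]; exact S.T_swW hG hR _
  have hT0 : Tk 0 = S.T := by
    show (α.f (jw (kws.getD 0 [])))⁻¹ * S.T * α.f (jw (kws.getD 0 [])) = _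
    rw [hk0, jw_nil, α.map_one, inv_one, one_mul, mul_one]
  set T1 := (α.f (jw conW))⁻¹ * S.T * α.f (jw conW) with hT1
  have hT1' : Tk 1 = T1 := by show (α.f (jw (kws.getD 1 [])))⁻¹ * S.T * α.f (jw (kws.getD 1 [])) = _; rw [hk1]
  have hT2 : Tk 2 = W⁻¹ * T1 * W := by
    show (α.f (jw (kws.getD 2 [])))⁻¹ * S.T * α.f (jw (kws.getD 2 [])) = _
    rw [hk2, jw_append, α.map_mul _ (jw_mem _) _ (jw_mem _), hW, hT1]
    group
  rw [hT0, hT1', hT2] at hcycle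
  have hT1s : T1 * T1 = 1 := by
    rw [hT1]
    calc _ = (α.f (jw conW))⁻¹ * (S.T * S.T) * α.f (jw conW) := by group
      _ = _ := by rw [S.T_sq, mul_one, inv_mul_cancel]
  set T2 := W⁻¹ * T1 * W with hT2'
  have hT2s : T2 * T2 = 1 := by
    rw [hT2']
    calc _ = W⁻¹ * (T1 * T1) * W := by group
      _ = _ := by rw [hT1s, mul_one, inv_mul_cancel]
  have hback : T1 * S.T * T2 * S.T = W * W := by
    calc T1 * S.T * T2 * S.T = (S.T * S.T) * T1 * S.T * T2 * S.T := by rw [S.T_sq, one_mul]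
      _ = S.T * (S.T * T1 * S.T * T2) * S.T := by group
      _ = S.T * (W * W) * S.T := by rw [hcycle]
      _ = (W * W) * (S.T * S.T) := by rw [(hWT.mul_right hWT).eq, mul_assoc]
      _ = _ := by rw [S.T_sq, mul_one]
  have hrev : S.T * T2 * S.T * T1 = (W * W)⁻¹ := by
    rw [← hback]
    simp only [mul_inv_rev, S.T_inv, inv_eq_of_mul_eq_one_right hT1s, inv_eq_of_mul_eq_one_right hT2s, mul_assoc]
  calc (W * S.T * T1) ^ 2 = W * S.T * (W * T2 * W⁻¹) * W * S.T * T1 := by rw [pow_two, hT2']; group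
    _ = W * (S.T * W) * T2 * S.T * T1 := by group
    _ = W * W * (S.T * T2 * S.T * T1) := by rw [hWT.eq]; group
    _ = 1 := by rw [hrev, mul_inv_cancel]

theorem first_image : (α.f gy * ((α.f (jw fstW))⁻¹ * S.T * α.f (jw fstW))) ^ 3 = 1 := by
  set g := jw fstW with hg
  have hw := words_ok
  simp only [wordsOK, Bool.and_eq_true, beq_iff_eq] at hw
  have hy1 : g * gy * g⁻¹ ∈ M0 := by
    have := jw_fix (w := fstW ++ [1] ++ invW fstW) (by decide +kernel) hw.1.2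
    rwa [jw_append, jw_append, jw_one, jw_invW (by decide)] at this
  have h1 : (g * gy * g⁻¹ * gt) ^ 3 = 1 := by
    rw [show g * gy * g⁻¹ * gt = g * (gy * (g⁻¹ * gt * g)) * g⁻¹ by group, conj_pow, first_rel, mul_one,
      mul_inv_cancel]
  have h2 := S.ψ_pow (mul_mem (S.M_le hy1) S.t_mem) 3
  rw [h1, S.ψ_one, S.map_mul _ (S.M_le hy1) _ S.t_mem, S.M_eq _ hy1,
    α.map_conj (jw_mem _) (by rw [← jw_one]; exact jw_mem _)] at h2
  rw [show α.f gy * ((α.f g)⁻¹ * S.T * α.f g) = (α.f g)⁻¹ * (α.f g * α.f gy * (α.f g)⁻¹ * S.T) * α.f g by group,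
    show ∀ a : G, (α.f g)⁻¹ * a * α.f g = (α.f g)⁻¹ * a * ((α.f g)⁻¹)⁻¹ from fun a => by rw [inv_inv], conj_pow]
  show (α.f g)⁻¹ * (α.f g * α.f gy * (α.f g)⁻¹ * S.ψ gt) ^ 3 * _ = 1
  rw [← h2, mul_one, mul_inv_cancel]

theorem ge_image : (α.f gy * ((α.f (jw w2))⁻¹ * S.T * α.f (jw w2))) ^ 3 = α.f ge := by
  set v := jw w2 with hv
  set s := jw (swW [1, 1, 0]) with hs
  have hw := words_ok
  simp only [wordsOK, Bool.and_eq_true, beq_iff_eq] at hw
  have hy1 : s⁻¹ * (v * gy * v⁻¹) * s ∈ M0 := by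
    have := jw_fix (w := invW (swW [1, 1, 0]) ++ (w2 ++ [1] ++ invW w2) ++ swW [1, 1, 0]) (by decide +kernel) hw.2
    rwa [jw_append, jw_append, jw_append, jw_append, jw_one, jw_invW (swW_lt _), jw_invW (by decide)] at this
  have hst : s⁻¹ * gt * s = gt := by rw [mul_assoc, gt_swW, inv_mul_cancel_left]
  have hgeK : ge ∈ KJ := Subgroup.subset_closure (Or.inr rfl)
  have hcomb : (s⁻¹ * (v * gy * v⁻¹) * s * gt) ^ 3 = s⁻¹ * v * ge * (s⁻¹ * v)⁻¹ := by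
    rw [ge_eq, ← hv, ← conj_pow]
    congr 1
    conv_lhs => arg 2; rw [← hst]
    group
  have hD : s⁻¹ * (v * gy * v⁻¹) * s * gt ∈ S.X := mul_mem (S.M_le hy1) S.t_mem
  have hsv : s⁻¹ * v ∈ KJ := mul_mem (inv_mem (jw_mem _)) (jw_mem _)
  have hgM : s⁻¹ * v * ge * (s⁻¹ * v)⁻¹ ∈ M0 :=
    mem_M0.mpr ⟨mul_mem (mul_mem hsv hgeK) (inv_mem hsv), S.X_comm _ (hcomb ▸ pow_mem hD 3)⟩
  have hgyK : gy ∈ KJ := by rw [← jw_one]; exact jw_mem _
  have h2 := S.ψ_pow hD 3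
  rw [hcomb, S.M_eq _ hgM, S.map_mul _ (S.M_le hy1) _ S.t_mem, S.M_eq _ hy1, α.map_conj hsv hgeK,
    show s⁻¹ * (v * gy * v⁻¹) * s = s⁻¹ * v * gy * (s⁻¹ * v)⁻¹ by group, α.map_conj hsv hgyK] at h2
  have hsT : Commute S.T (α.f s) := S.T_swW hG hR _
  have hfsv : α.f (s⁻¹ * v) = (α.f s)⁻¹ * α.f v := by
    rw [α.map_mul _ (inv_mem (jw_mem _)) _ (jw_mem _), α.map_inv (jw_mem _)]
  rw [hfsv] at h2
  set u := (α.f s)⁻¹ * α.f v with hu
  have e : u * α.f gy * u⁻¹ * S.ψ gt = u * (α.f gy * ((α.f v)⁻¹ * S.T * α.f v)) * u⁻¹ := by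
    have e1 : (α.f s)⁻¹ * S.T * α.f s = S.T := by rw [mul_assoc, hsT.eq, inv_mul_cancel_left]
    show u * α.f gy * u⁻¹ * S.T = _
    conv_lhs => arg 2; rw [← e1]
    rw [hu]; group
  rw [e, conj_pow] at h2
  exact (mul_left_cancel (mul_right_cancel h2)).symm

end Sect

end Cfsg.Lib.JankoFour.Unique
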