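import Cfsg.Agent.JankoFour.Unique.Local

/-!
A homomorphism on the centraliser of the central involution of the presented group extending the normalised
isomorphism, by averaging over the local subgroup of odd index.
-/

set_option autoImplicit false
set_option maxRecDepth 100000
set_option maxHeartbeats 1000000
set_option linter.style.haveILetI false
set_option linter.unusedSectionVars false

namespace Cfsg.Lib.JankoFour.Unique

open Cfsg Subgroup
open Cfsg.Lib.J4Cert (KJ jHom gt eBasis wordM invW MOK)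
open Cfsg.Lib.J4Pres (P im psi)
open Cfsg.Lib.CosetTable (wval)
open _root_.Cfsg.Lib.JankoFour.Unique.Data (kGens vRows tRow tDec dualT spanV v0)

theorem omP_mul : ∀ b c : Bool, (List.range 12).all (fun j => mv (omP (b ^^ c)) (2 ^ j) ==
    bif c then mv (omP b) (mv (omP b) (2 ^ j)) else mv (omP b) (2 ^ j)) = true := by decide +kernel

theorem omP_ne : mv (omP false) 1 ≠ mv (omP true) 1 := by decide +kernel

theorem omP_apply (b c : Bool) {x : ℕ} (hx : x < 4096) : mv (omP (b ^^ c)) x =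
    bif c then mv (omP b) (mv (omP b) x) else mv (omP b) x := by
  refine lin_ext (f := fun x => mv (omP (b ^^ c)) x)
    (g := fun x => bif c then mv (omP b) (mv (omP b) x) else mv (omP b) x) (· ^^^ ·) 12
    (fun a b => mv_xor _ a b) (fun a b => by cases c <;> simp [mv_xor]) (by cases c <;> simp [mv_zero])
    (fun j hj => ?_) x hx
  have h := omP_mul b c
  simp only [List.all_eq_true, List.mem_range, beq_iff_eq] at h
  exact h j hj

theorem t_row_spec {j : ℕ} (hj : j < 12) : gt * bG j * gt⁻¹ = eEz (tRow.getD j (0, false)) := by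
  have h := tConj_ok
  simp only [tConjOK, Bool.and_eq_true] at h
  refine conjRow_sound h.2 J4Cert.mok_gens.2.2.2 ?_ hj
  rw [inv_eq_of_mul_eq_one_right J4Cert.t_sq]
  exact J4Cert.mok_gens.2.2.2

theorem t_z0 : gt * z0 = z0 * gt := by
  have h : (J4Cert.mB J4Rep.matT (J4Cert.evM eBasis v0) == J4Cert.mB (J4Cert.evM eBasis v0) J4Rep.matT) = true := by
    decide +kernel
  exact mok_eq (mok_cast (J4Cert.mok_gens.2.2.2.mul (el_mok v0)) h) ((el_mok v0).mul J4Cert.mok_gens.2.2.2)

universe u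

variable {G : Type u} [Group G] [Finite G] {z : G} {P₀ : Subgroup G}

/-- An element commutes with the element of order three on the coordinates, or inverts it. -/
def Sg (C : Ctx z P₀) (b : Bool) (h : G) : Prop :=
  h ∈ centralizer ({z} : Set G) ∧
    ∀ a ∈ C.E, C.π (h * (C.p * a * C.p⁻¹) * h⁻¹) = mv (omP b) (C.π (h * a * h⁻¹))

section Sg

variable (C : Ctx z P₀)

theorem sg_of_rep {b : Bool} {h : G} {M : List ℕ} (hh : h ∈ centralizer ({z} : Set G)) (hr : RepBy C.E C.π h M)
    (hM : semiOM b M = true) : Sg C b h := ⟨hh, fun a ha => by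
  rw [hr _ (C.conj_mem C.pH ha), C.rep_p a ha, hr a ha, ← mv_mm, ← mv_mm, beq_iff_eq.mp hM]⟩

theorem π_conj_congr {g a b : G} (hg : g ∈ centralizer ({z} : Set G)) (ha : a ∈ C.E) (hb : b ∈ C.E)
    (h : C.π a = C.π b) : C.π (g * a * g⁻¹) = C.π (g * b * g⁻¹) := by
  rcases C.π_eq ha hb h with e | e
  · rw [e]
  · rw [e, show g * (z * b) * g⁻¹ = g * z * g⁻¹ * (g * b * g⁻¹) by group,
      show g * z * g⁻¹ = z by rw [(C.z_comm hg).eq, mul_inv_cancel_right], C.π_z_mul (C.conj_mem hg hb)]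

theorem sg_mul {b c : Bool} {g h : G} (hg : Sg C b g) (hh : Sg C c h) : Sg C (b ^^ c) (g * h) := by
  refine ⟨mul_mem hg.1 hh.1, fun a ha => ?_⟩
  have ha' : h * a * h⁻¹ ∈ C.E := C.conj_mem hh.1 ha
  have hp : C.p ∈ centralizer ({z} : Set G) := C.pH
  have e1 := hh.2 a ha
  rw [show g * h * (C.p * a * C.p⁻¹) * (g * h)⁻¹ = g * (h * (C.p * a * C.p⁻¹) * h⁻¹) * g⁻¹ by group,
    show g * h * a * (g * h)⁻¹ = g * (h * a * h⁻¹) * g⁻¹ by group, omP_apply b c (C.π_lt _)]
  cases c
  · rw [cond_false]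
    refine (π_conj_congr C hg.1 (C.conj_mem hh.1 (C.conj_mem hp ha)) (C.conj_mem hp ha') ?_).trans (hg.2 _ ha')
    rw [e1, C.rep_p _ ha']; rfl
  · rw [cond_true]
    refine (π_conj_congr C hg.1 (C.conj_mem hh.1 (C.conj_mem hp ha)) (C.conj_mem hp (C.conj_mem hp ha')) ?_).trans
      ((hg.2 _ (C.conj_mem hp ha')).trans (congrArg _ (hg.2 _ ha')))
    rw [e1, C.rep_p _ (C.conj_mem hp ha'), C.rep_p _ ha', ← mv_mm]; rfl

theorem sg_E {e : G} (he : e ∈ C.E) : Sg C false e := ⟨C.le he, fun a ha => by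
  rw [C.rep_E he _ (C.conj_mem C.pH ha), mv_idM (C.π_lt _), C.rep_E he _ ha, mv_idM (C.π_lt _), C.rep_p a ha]
  rfl⟩

theorem sg_exists {h : G} (hh : h ∈ centralizer ({z} : Set G)) : ∃ b, Sg C b h := by
  have h' := local_ok
  simp only [localOK, Bool.and_eq_true] at h'
  obtain ⟨⟨⟨-, ⟨⟨⟨⟨hA, hB⟩, hC⟩, hT⟩, -⟩, -⟩, -⟩, -⟩ := h'
  have hmem := C.gen hh
  rw [← closure_eq C.E, ← Subgroup.closure_union] at hmem
  have hm : h ∈ Submonoid.closure ((C.E : Set G) ∪ {C.p, C.ga, C.gb, C.gc, C.gt}) := by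
    rw [← Subgroup.closure_toSubmonoid_of_finite]; exact hmem
  clear hmem hh
  obtain ⟨ha, hb, hc, ht⟩ := C.memH
  induction hm using Submonoid.closure_induction with
  | mem x hx =>
    rcases hx with hx | hx | hx | hx | hx | hx
    · exact ⟨_, sg_E C hx⟩
    · subst hx; exact ⟨false, sg_of_rep C C.pH C.rep_p (by decide +kernel)⟩
    · subst hx; exact ⟨_, sg_of_rep C ha C.rep_a hA⟩
    · subst hx; exact ⟨_, sg_of_rep C hb C.rep_b hB⟩
    · subst hx; exact ⟨_, sg_of_rep C hc C.rep_c hC⟩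
    · rw [Set.mem_singleton_iff] at hx; subst hx; exact ⟨_, sg_of_rep C ht C.rep_t hT⟩
  | one => exact ⟨false, sg_E C (one_mem _)⟩
  | mul a b _ _ iha ihb =>
    obtain ⟨c, hc⟩ := iha
    obtain ⟨d, hd⟩ := ihb
    exact ⟨_, sg_mul C hc hd⟩

theorem sg_unique {b c : Bool} {h : G} (hb : Sg C b h) (hc : Sg C c h) : b = c := by
  obtain ⟨e, he, hπ⟩ := C.π_surj 1 (by norm_num)
  have ha : h⁻¹ * e * h ∈ C.E := by
    have := C.conj_mem (inv_mem hb.1) he
    rwa [inv_inv] at this
  have h1 := hb.2 _ ha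
  have h2 := hc.2 _ ha
  rw [show h * (h⁻¹ * e * h) * h⁻¹ = e by group, hπ] at h1 h2
  cases b <;> cases c <;> first | rfl | exact absurd (h1.symm.trans h2) omP_ne |
    exact absurd (h2.symm.trans h1) omP_ne

open _root_.Classical in
/-- The sign of an element of the centraliser, in the centre. -/
noncomputable def sgn (h : G) : G := if Sg C true h then z else 1

theorem sgn_eq {b : Bool} {h : G} (hb : Sg C b h) : sgn C h = bif b then z else 1 := by
  unfold sgn
  cases b
  · rw [if_neg fun h' => Bool.noConfusion (sg_unique C hb h')]; rfl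
  · rw [if_pos hb]; rfl

theorem sgn_mul {g h : G} (hg : g ∈ centralizer ({z} : Set G)) (hh : h ∈ centralizer ({z} : Set G)) :
    sgn C (g * h) = sgn C g * sgn C h := by
  obtain ⟨b, hb⟩ := sg_exists C hg
  obtain ⟨c, hc⟩ := sg_exists C hh
  rw [sgn_eq C (sg_mul C hb hc), sgn_eq C hb, sgn_eq C hc]
  cases b <;> cases c <;> simp [C.X.zz]

theorem sgn_cases (h : G) : sgn C h = 1 ∨ sgn C h = z := by
  unfold sgn
  split <;> simp

end Sg

/-- A homomorphism on a subgroup of the centraliser of the central involution extending the isomorphism. -/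
structure Sect {C : Ctx z P₀} (α : Emb C) where
  X : Subgroup Spor.J4
  ψ : Spor.J4 → G
  map_mul : ∀ x ∈ X, ∀ y ∈ X, ψ (x * y) = ψ x * ψ y
  M_le : M0 ≤ X
  t_mem : gt ∈ X
  M_eq : ∀ m ∈ M0, ψ m = α.f m
  H_mem : ∀ x ∈ X, ψ x ∈ centralizer ({z} : Set G)
  X_comm : ∀ x ∈ X, x * z0 = z0 * x
  cj : ∀ x ∈ X, α.Cj x (ψ x)

namespace Emb

variable {C : Ctx z P₀} (α : Emb C) [IsSimpleGroup G]

theorem exists_t_lift (hG : ¬ IsMulCommutative G) (hR : α.Rl = idM) :
    ∃ h ∈ centralizer ({z} : Set G), α.Cj gt h := by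
  have h := local_ok
  simp only [localOK, Bool.and_eq_true, List.all_eq_true, List.mem_range, decide_eq_true_eq, beq_iff_eq] at h
  obtain ⟨⟨⟨⟨⟨-, ⟨⟨htd5, htn⟩, htm⟩⟩, hdual⟩, -⟩, -⟩, -⟩ := h
  obtain ⟨h₁, hh₁, hr₁⟩ := C.exists_word _ htd5
  obtain ⟨h₂, hh₂, hr₂⟩ := C.exists_elt htn
  have hr := C.rep_mul hh₂ hr₁ hr₂
  rw [htm] at hr
  set h := h₁ * h₂
  have hhH : h ∈ centralizer ({z} : Set G) := mul_mem hh₁ hh₂
  have hlt : ∀ j < 12, (tRow.getD j (0, false)).1 < 4096 := by decide +kernel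
  have hid : ∀ j < 12, idM.getD j 0 = 2 ^ j := by decide +kernel
  have htj : ∀ j < 12, mv tMat (2 ^ j) = (tRow.getD j (0, false)).1 := by decide +kernel
  -- the signs
  classical
  let ε : ℕ → Bool := fun j => !decide (h * α.f (bG j) * h⁻¹ = α.f (eEz (tRow.getD j (0, false))))
  set c := mv dualT (((List.range 12).map fun j => bif ε j then 2 ^ j else 0).foldr (· ^^^ ·) 0)
  have hc : c < 4096 := mv_lt (n := 12) (fun m hm => by
    obtain ⟨i, hi, rfl⟩ := List.getElem_of_mem hm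
    have hi12 : i < 12 := lt_of_lt_of_eq hi (by decide +kernel)
    have := (hdual i hi12).1
    rwa [List.getD_eq_getElem _ _ hi] at this) _
  have hcp : ∀ k < 12, pB c (tRow.getD k (0, false)).1 = ε k := by
    intro k hk
    have hp : ∀ j < 12, pB (dualT.getD j 0) (tRow.getD k (0, false)).1 = (j == k) := fun j hj => by
      rw [← (hdual j hj).2 k hk, tMat, List.getD_map (f := Prod.fst) (l := tRow) (d := (0, false)) (n := k)]
    have hsum : ∀ (n : ℕ), n ≤ 12 → pB (mv dualT (((List.range n).map fun j => bif ε j then 2 ^ j else 0).foldr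
        (· ^^^ ·) 0)) (tRow.getD k (0, false)).1 = (decide (k < n) && ε k) := by
      intro n
      induction n with
      | zero => intro _; simp [mv_zero, pB_zero_left]
      | succ n ih =>
        intro hn
        have hfold : ∀ (l : List ℕ) (a : ℕ), (l ++ [a]).foldr (· ^^^ ·) 0 = l.foldr (· ^^^ ·) 0 ^^^ a := by
          intro l a
          induction l with
          | nil => simp
          | cons b l ih => rw [List.cons_append, List.foldr_cons, List.foldr_cons, ih, Nat.xor_assoc]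
        rw [List.range_succ, List.map_append, List.map_singleton, hfold, mv_xor, pB_xor_left, ih (by omega)]
        have hbit : ∀ j < 12, mv dualT (2 ^ j) = dualT.getD j 0 := by decide +kernel
        rcases Nat.lt_trichotomy k n with hkn | hkn | hkn
        · cases ε n
          · simp [mv_zero, pB_zero_left, hkn, show k < n + 1 by omega]
          · rw [cond_true, hbit n (by omega), hp n (by omega)]
            simp [hkn, show k < n + 1 by omega, show (n == k) = false from beq_eq_false_iff_ne.mpr (by omega)]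
        · subst hkn
          cases ε k
          · simp [mv_zero, pB_zero_left]
          · rw [cond_true, hbit k (by omega), hp k (by omega)]
            simp
        · cases ε n
          · simp [mv_zero, pB_zero_left, show ¬ k < n by omega, show ¬ k < n + 1 by omega]
          · rw [cond_true, hbit n (by omega), hp n (by omega)]
            simp [show ¬ k < n by omega, show ¬ k < n + 1 by omega, show (n == k) = false from beq_eq_false_iff_ne.mpr (by omega)]
    simpa [hk] using hsum 12 le_rfl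
  obtain ⟨e, he, hπe⟩ := C.π_surj c hc
  refine ⟨e * h, mul_mem (C.le he) hhH, α.cj_of_gens hG hR t_z0 (mul_mem (C.le he) hhH) fun j hj => ?_⟩
  rw [t_row_spec hj]
  refine ⟨α.eEz_E0 hG _, ?_⟩
  have hq : α.f (bG j) ∈ C.E := α.bG_E hG hj
  have hy : h * α.f (bG j) * h⁻¹ ∈ C.E := C.conj_mem hhH hq
  have htE : α.f (eEz (tRow.getD j (0, false))) ∈ C.E := (α.eEz_E0 hG _).2
  have hπy : C.π (h * α.f (bG j) * h⁻¹) = C.π (α.f (eEz (tRow.getD j (0, false)))) := by
    rw [hr _ hq, ← α.Rl_getD hj, hR, α.π_eEz hG hR (hlt j hj), ← htj j hj]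
    congr 1
    exact hid j hj
  have hcomm : Commute e (α.f (eEz (tRow.getD j (0, false)))) ↔ ε j = false := by
    rw [C.π_comm e he _ htE, hπe, α.π_eEz hG hR (hlt j hj), hcp j hj]
  rw [show e * h * α.f (bG j) * (e * h)⁻¹ = e * (h * α.f (bG j) * h⁻¹) * e⁻¹ by group]
  rcases C.π_eq hy htE hπy with r | r
  · rw [r, (hcomm.mpr (by simp [ε, r])).eq, mul_inv_cancel_right]
  · have hne : ε j = true := by
      simp only [ε, Bool.not_eq_true', decide_eq_false_iff_not, r]
      intro e'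
      have hz1 : z = 1 := mul_eq_right.mp e'
      have h0 := α.inj z0 z0_mem 1 (one_mem _) (by rw [α.map_one, α.f_z0, hz1])
      exact el_ne_one (show v0 < 2048 by decide +kernel) (by decide +kernel) h0
    rw [r]
    rcases C.X.conj_cases he htE with e' | e'
    · exact absurd (hcomm.mp (mul_inv_eq_iff_eq_mul.mp e')) (by rw [hne]; decide)
    · rw [show e * (z * α.f (eEz (tRow.getD j (0, false)))) * e⁻¹ =
          e * z * e⁻¹ * (e * α.f (eEz (tRow.getD j (0, false))) * e⁻¹) by group,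
        show e * z * e⁻¹ = z by rw [(C.z_comm (C.le he)).eq, mul_inv_cancel_right], e', ← mul_assoc, C.X.zz, one_mul]

/-- The pairs of compatible elements. -/
noncomputable def graphG : Subgroup (Spor.J4 × G) where
  carrier := {q | q.1 * z0 = z0 * q.1 ∧ q.2 ∈ centralizer ({z} : Set G) ∧ α.Cj q.1 q.2}
  one_mem' := ⟨by simp, one_mem _, fun q hq => by simpa using hq⟩
  mul_mem' := fun {a b} ha hb => ⟨by
      show a.1 * b.1 * z0 = z0 * (a.1 * b.1)
      rw [mul_assoc, hb.1, ← mul_assoc, ha.1, mul_assoc],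
    mul_mem ha.2.1 hb.2.1, α.cj_mul ha.2.2 hb.2.2⟩
  inv_mem' := fun {a} ha => by
    haveI := J4Cert.finite_J4
    obtain ⟨n, hn⟩ : ∃ n : ℕ, a⁻¹ = a ^ n := by
      refine ⟨orderOf a - 1, inv_eq_of_mul_eq_one_right ?_⟩
      rw [← pow_succ', Nat.sub_add_cancel (orderOf_pos a), pow_orderOf_eq_one]
    show a⁻¹ ∈ {q : Spor.J4 × G | q.1 * z0 = z0 * q.1 ∧ q.2 ∈ centralizer ({z} : Set G) ∧ α.Cj q.1 q.2}
    rw [hn]
    clear hn
    induction n with
    | zero => rw [pow_zero]; exact ⟨by simp, one_mem _, fun q hq => by simpa using hq⟩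
    | succ n ih =>
      rw [pow_succ]
      exact ⟨by
          show (a ^ n).1 * a.1 * z0 = z0 * ((a ^ n).1 * a.1)
          rw [mul_assoc, ha.1, ← mul_assoc, ih.1, mul_assoc],
        mul_mem ih.2.1 ha.2.1, α.cj_mul ih.2.2 ha.2.2⟩

theorem graphG_one (hG : ¬ IsMulCommutative G) (hR : α.Rl = idM) {h : G} (hh : ((1 : Spor.J4), h) ∈ α.graphG) :
    h = 1 ∨ h = z := by
  obtain ⟨-, hH, hc⟩ := hh
  have hcE : ∀ e ∈ C.E, h * e = e * h := by
    intro e he
    obtain ⟨q, hq, rfl⟩ := α.exists_E0 hG hR he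
    have h2 : α.f (1 * q * 1⁻¹) = h * α.f q * h⁻¹ := (hc q hq).2
    rw [one_mul, inv_one, mul_one] at h2
    exact (eq_mul_inv_iff_mul_eq.mp h2).symm
  have hE : h ∈ C.E := C.cQ (mem_centralizer_iff.mpr fun e he => (hcE e he).symm)
  exact C.X.cen _ hE fun a ha => (hcE a ha).symm

theorem exists_sect0 (hG : ¬ IsMulCommutative G) (hR : α.Rl = idM) :
    ∃ (X : Subgroup Spor.J4) (ψ : Spor.J4 → G), (∀ x ∈ X, ∀ y ∈ X, ψ (x * y) = ψ x * ψ y) ∧ M0 ≤ X ∧ gt ∈ X ∧
      (∀ x ∈ X, ψ x ∈ centralizer ({z} : Set G) ∧ x * z0 = z0 * x ∧ α.Cj x (ψ x)) ∧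
      ∀ m ∈ M0, ψ m = α.f m ∨ ψ m = α.f m * z := by
  classical
  haveI := J4Cert.finite_J4
  set Γ := α.graphG with hΓ
  let π₁ : ↥Γ →* Spor.J4 := (MonoidHom.fst Spor.J4 G).comp Γ.subtype
  have hmem : ∀ m : ↥M0, ((m : Spor.J4), α.f m) ∈ Γ := fun m =>
    ⟨(mem_M0.mp m.2).2, α.f_H m.2, α.cj_M0 m.2⟩
  let g : ↥M0 →* ↥Γ :=
    { toFun := fun m => ⟨_, hmem m⟩
      map_one' := Subtype.ext (Prod.ext rfl α.map_one)
      map_mul' := fun a b => Subtype.ext (Prod.ext rfl (α.map_mul _ (mem_M0.mp a.2).1 _ (mem_M0.mp b.2).1)) }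
  have hz : ((1 : Spor.J4), z) ∈ Γ := ⟨by simp, mem_centralizer_singleton_iff.mpr rfl, fun q hq => by
    refine ⟨by simpa using hq, ?_⟩
    show α.f (1 * q * 1⁻¹) = z * α.f q * z⁻¹
    rw [one_mul, inv_one, mul_one, (C.X.central _ hq.2).symm, mul_inv_cancel_right]⟩
  set κ : ↥Γ := ⟨_, hz⟩ with hκ
  have hker : π₁.ker = zpowers κ := by
    refine le_antisymm (fun x hx => ?_) ((zpowers_le).mpr (show π₁ κ = 1 from rfl))
    obtain ⟨⟨a, h⟩, hx'⟩ := x
    obtain rfl : a = 1 := hx
    rcases α.graphG_one hG hR hx' with rfl | rfl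
    · exact one_mem _
    · exact mem_zpowers _
  have hzne : z ≠ 1 := fun h => by
    have h0 := α.inj z0 z0_mem 1 (one_mem _) (by rw [α.map_one, α.f_z0, h])
    exact el_ne_one (show v0 < 2048 by decide +kernel) (by decide +kernel) h0
  have hord : orderOf κ = 2 := orderOf_eq_prime
    (Subtype.ext (Prod.ext (one_pow 2) ((pow_two z).trans C.X.zz)))
    (fun h => hzne (congrArg (fun x : ↥Γ => x.1.2) h))
  set U : Subgroup ↥Γ := M0.comap π₁ with hU
  have hM0R : M0 ≤ π₁.range := fun m hm => ⟨g ⟨m, hm⟩, rfl⟩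
  have hidx : ¬ 2 ∣ U.index := by
    intro h2
    rw [hU, index_comap] at h2
    have h3 := Subgroup.card_subgroup_dvd_card π₁.range
    rw [J4Cert.card_J4.1, ← (M0.subgroupOf π₁.range).card_mul_index,
      Nat.card_congr (subgroupOfEquivOfLe hM0R).toEquiv, α.card_M0] at h3
    rw [show (86775571046077562880 : ℕ) = 138240 * 2048 * 306502345919 by norm_num] at h3
    exact absurd (h2.trans (Nat.dvd_of_mul_dvd_mul_left (by norm_num) h3)) (by norm_num)
  haveI : IsMulCommutative ↥π₁.ker := hker ▸ inferInstance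
  obtain ⟨H', hH'⟩ := Cfsg.Agent.S0051.result π₁.ker U
    (fun x hx => by show π₁ x ∈ M0; rw [MonoidHom.mem_ker.mp hx]; exact one_mem _)
    (by
      rw [hker, Nat.card_zpowers, hord]
      exact (Nat.prime_two.coprime_iff_not_dvd).mpr hidx)
    g.range (by rintro _ ⟨m, rfl⟩; exact m.2)
    (by
      rw [eq_bot_iff]
      rintro _ ⟨⟨m, rfl⟩, hm⟩
      obtain rfl : m = 1 := Subtype.ext hm
      simp)
    (by
      refine le_antisymm (sup_le (fun x hx => by show π₁ x ∈ M0; rw [MonoidHom.mem_ker.mp hx]; exact one_mem _)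
        (by rintro _ ⟨m, rfl⟩; exact m.2)) fun x hx => ?_
      have hk : x * (g ⟨π₁ x, hx⟩)⁻¹ ∈ π₁.ker := by
        rw [MonoidHom.mem_ker, _root_.map_mul, _root_.map_inv]
        exact mul_inv_cancel _
      rw [← inv_mul_cancel_right x (g ⟨π₁ x, hx⟩)]
      exact mul_mem_sup hk ⟨_, rfl⟩)
  have hex : ∀ x ∈ π₁.range, ∃ h ∈ H', π₁ h = x := by
    rintro _ ⟨y, rfl⟩
    obtain ⟨⟨k, h⟩, e⟩ := hH'.2 y
    exact ⟨h, h.2, by rw [← e, _root_.map_mul, MonoidHom.mem_ker.mp k.2, one_mul]⟩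
  let ψ : Spor.J4 → G := fun x => if hx : x ∈ π₁.range then (hex x hx).choose.1.2 else 1
  have hψ : ∀ h ∈ H', ψ (π₁ h) = h.1.2 := by
    intro h hh
    have hx : π₁ h ∈ π₁.range := ⟨h, rfl⟩
    obtain ⟨h1, h2⟩ := (hex _ hx).choose_spec
    simp only [ψ, dif_pos hx]
    have hm : (hex _ hx).choose * h⁻¹ ∈ π₁.ker ⊓ H' := Subgroup.mem_inf.mpr
      ⟨MonoidHom.mem_ker.mpr (by rw [_root_.map_mul, _root_.map_inv, h2, mul_inv_cancel]),
        Subgroup.mul_mem _ h1 (Subgroup.inv_mem _ hh)⟩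
    rw [hH'.disjoint.eq_bot, mem_bot, mul_inv_eq_one] at hm
    rw [hm]
  have hpair : ∀ x ∈ π₁.range, (x, ψ x) ∈ Γ := by
    intro x hx
    obtain ⟨h, hh, e⟩ := hex x hx
    have := hψ h hh
    rw [e] at this
    rw [this, ← e]
    exact h.2
  obtain ⟨ht, hht, htc⟩ := α.exists_t_lift hG hR
  refine ⟨π₁.range, ψ, fun x hx y hy => ?_, hM0R, ⟨⟨(gt, ht), ⟨t_z0, hht, htc⟩⟩, rfl⟩,
    fun x hx => ⟨(hpair x hx).2.1, (hpair x hx).1, (hpair x hx).2.2⟩, fun m hm => ?_⟩
  · obtain ⟨a, ha, rfl⟩ := hex x hx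
    obtain ⟨b, hb, rfl⟩ := hex y hy
    rw [← _root_.map_mul, hψ _ (mul_mem ha hb), hψ a ha, hψ b hb]
    rfl
  · have h1 := mul_mem (inv_mem (hmem ⟨m, hm⟩)) (hpair m (hM0R hm))
    rw [Prod.inv_mk, Prod.mk_mul_mk, inv_mul_cancel] at h1
    rcases α.graphG_one hG hR h1 with e | e
    · exact Or.inl (inv_mul_eq_one.mp e).symm
    · exact Or.inr (inv_mul_eq_iff_eq_mul.mp e)

theorem exists_sect (hG : ¬ IsMulCommutative G) (hR : α.Rl = idM) : Nonempty (Sect α) := by
  classical
  obtain ⟨X, ψ₀, hmul, hMX, htX, hX, hM⟩ := α.exists_sect0 hG hR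
  have hzH : ∀ {c : G}, c = 1 ∨ c = z → c ∈ C.E ∧ ∀ h ∈ centralizer ({z} : Set G), h * c = c * h := by
    rintro c (rfl | rfl)
    · exact ⟨one_mem _, fun h _ => by simp⟩
    · exact ⟨C.X.mem, fun h hh => (C.z_comm hh).eq⟩
  -- adjust by the sign
  have hk0 : jw (kGens.getD 0 []) ∈ M0 := kGen_M0 (by norm_num)
  let c : G → G := fun h => if ψ₀ (jw (kGens.getD 0 [])) = α.f (jw (kGens.getD 0 [])) then 1 else sgn C h
  have hc : ∀ h, c h = 1 ∨ c h = z := fun h => by
    simp only [c]; split <;> [exact Or.inl rfl; exact sgn_cases C h]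
  have hcm : ∀ g ∈ centralizer ({z} : Set G), ∀ h ∈ centralizer ({z} : Set G), c (g * h) = c g * c h :=
    fun g hg h hh => by simp only [c]; split <;> [exact (mul_one 1).symm; exact sgn_mul C hg hh]
  let ψ : Spor.J4 → G := fun x => ψ₀ x * c (ψ₀ x)
  have hψmul : ∀ x ∈ X, ∀ y ∈ X, ψ (x * y) = ψ x * ψ y := by
    intro x hx y hy
    show ψ₀ (x * y) * c (ψ₀ (x * y)) = ψ₀ x * c (ψ₀ x) * (ψ₀ y * c (ψ₀ y))
    rw [hmul x hx y hy, hcm _ (hX x hx).1 _ (hX y hy).1]
    have e := (hzH (hc (ψ₀ x))).2 _ (hX y hy).1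
    calc ψ₀ x * ψ₀ y * (c (ψ₀ x) * c (ψ₀ y)) = ψ₀ x * (ψ₀ y * c (ψ₀ x)) * c (ψ₀ y) := by group
      _ = _ := by rw [e]; group
  have hψX : ∀ x ∈ X, ψ x ∈ centralizer ({z} : Set G) ∧ α.Cj x (ψ x) := by
    intro x hx
    obtain ⟨h1, -, h3⟩ := hX x hx
    obtain ⟨hcE, -⟩ := hzH (hc (ψ₀ x))
    refine ⟨mul_mem h1 (C.le hcE), fun q hq => ⟨(h3 q hq).1, ?_⟩⟩
    rw [(h3 q hq).2]
    show _ = ψ₀ x * c (ψ₀ x) * α.f q * (ψ₀ x * c (ψ₀ x))⁻¹
    have e : c (ψ₀ x) * α.f q = α.f q * c (ψ₀ x) := by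
      rcases hc (ψ₀ x) with e | e <;> rw [e]
      · simp
      · exact (C.X.central _ hq.2).eq.symm
    calc _ = ψ₀ x * (α.f q * c (ψ₀ x)) * (ψ₀ x * c (ψ₀ x))⁻¹ := by group
      _ = _ := by rw [← e]; group
  have hψM : ∀ m ∈ M0, ψ m = α.f m ∨ ψ m = α.f m * z := by
    intro m hm
    rcases hM m hm with e | e <;> rcases hc (ψ₀ m) with e' | e' <;> simp only [ψ, e] at e' ⊢ <;> rw [e']
    · exact Or.inl (mul_one _)
    · exact Or.inr rfl
    · exact Or.inr (mul_one _)
    · exact Or.inl (by rw [mul_assoc, C.X.zz, mul_one])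
  have hψ0 : ψ (jw (kGens.getD 0 [])) = α.f (jw (kGens.getD 0 [])) := by
    show ψ₀ _ * c (ψ₀ _) = _
    simp only [c]
    split
    · next e => rw [mul_one, e]
    · next e =>
      have e1 := (hM _ hk0).resolve_left e
      have h' := local_ok
      simp only [localOK, Bool.and_eq_true] at h'
      obtain ⟨⟨⟨-, ⟨⟨-, hk⟩, -⟩⟩, -⟩, -⟩ := h'
      have hl : (Data.kRows.getD 0 []).length = 12 ∧ ∀ e ∈ Data.kRows.getD 0 [], e.1 < 4096 := by decide +kernel
      have hs : Sg C true (α.f (jw (kGens.getD 0 []))) := sg_of_rep C (α.f_H hk0)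
        (α.rep_of_rows hG hR (α.f_H hk0) (α.cj_M0 hk0) hl.1 (kGen_spec (by norm_num)).2.2 hl.2) hk
      rw [e1, sgn_eq C (sg_mul C hs (sg_E C C.X.mem))]
      show α.f _ * z * z = _
      rw [mul_assoc, C.X.zz, mul_one]
  have hinv : ∀ x ∈ X, ψ x⁻¹ = (ψ x)⁻¹ := by
    intro x hx
    have h1 : ψ 1 = 1 := by
      have := hψmul 1 (one_mem _) 1 (one_mem _)
      rw [one_mul] at this
      exact left_eq_mul.mp this
    exact eq_inv_of_mul_eq_one_left (by rw [← hψmul _ (inv_mem hx) _ hx, inv_mul_cancel, h1])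
  -- the set of agreement
  let S : Subgroup Spor.J4 :=
    { carrier := {m | m ∈ M0 ∧ ψ m = α.f m}
      one_mem' := ⟨one_mem _, by
        have := hψmul 1 (one_mem _) 1 (one_mem _)
        rw [one_mul] at this
        rw [left_eq_mul.mp this, α.map_one]⟩
      mul_mem' := fun {a b} ha hb => ⟨mul_mem ha.1 hb.1, by
        rw [hψmul _ (hMX ha.1) _ (hMX hb.1), ha.2, hb.2, α.map_mul _ (mem_M0.mp ha.1).1 _ (mem_M0.mp hb.1).1]⟩
      inv_mem' := fun {a} ha => ⟨inv_mem ha.1, by
        rw [hinv _ (hMX ha.1), ha.2, α.map_inv (mem_M0.mp ha.1).1]⟩ }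
  have hS : M0 ≤ S := by
    have hcomm : ∀ m ∈ M0, ∀ v : ℕ, ψ (m * el v * m⁻¹ * el v) = α.f (m * el v * m⁻¹ * el v) := by
      intro m hm v
      have hev : el v ∈ M0 := el_M0 v
      have hmK := (mem_M0.mp hm).1
      obtain ⟨a, ha, ea⟩ : ∃ a, (a = 1 ∨ a = z) ∧ ψ m = α.f m * a := by
        rcases hψM m hm with e | e <;> [exact ⟨1, Or.inl rfl, by rw [e, mul_one]⟩; exact ⟨z, Or.inr rfl, e⟩]
      obtain ⟨b, hb, eb⟩ : ∃ b, (b = 1 ∨ b = z) ∧ ψ (el v) = α.f (el v) * b := by
        rcases hψM _ hev with e | e <;> [exact ⟨1, Or.inl rfl, by rw [e, mul_one]⟩; exact ⟨z, Or.inr rfl, e⟩]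
      rw [hψmul _ (hMX (mul_mem (mul_mem hm hev) (inv_mem hm))) _ (hMX hev),
        hψmul _ (hMX (mul_mem hm hev)) _ (hMX (inv_mem hm)), hψmul _ (hMX hm) _ (hMX hev), hinv _ (hMX hm),
        α.map_mul _ (mul_mem (mul_mem hmK (el_mem v)) (inv_mem hmK)) _ (el_mem v), α.map_conj hmK (el_mem v), ea, eb]
      have ca := (hzH ha).2
      have cb := (hzH hb).2
      have hbb : b * b = 1 := by rcases hb with rfl | rfl <;> simp [C.X.zz]
      have hfm := α.f_H hm
      have hfv := α.f_H hev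
      have hbv : b * a⁻¹ * (α.f m)⁻¹ * α.f (el v) = a⁻¹ * ((α.f m)⁻¹ * α.f (el v) * b) := by
        have h1 := cb _ (mul_mem (inv_mem hfm) hfv)
        rw [h1, ← mul_assoc a⁻¹]
        have h2 : b * a⁻¹ = a⁻¹ * b := by rcases hb with rfl | rfl <;> rcases ha with rfl | rfl <;> simp
        rw [h2]; group
      calc α.f m * a * (α.f (el v) * b) * (α.f m * a)⁻¹ * (α.f (el v) * b)
          = α.f m * (a * α.f (el v)) * (b * a⁻¹ * (α.f m)⁻¹ * α.f (el v)) * b := by group
        _ = α.f m * (α.f (el v) * a) * (a⁻¹ * ((α.f m)⁻¹ * α.f (el v) * b)) * b := by rw [hbv, ca _ hfv]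
        _ = α.f m * α.f (el v) * (α.f m)⁻¹ * α.f (el v) * (b * b) := by group
        _ = _ := by rw [hbb, mul_one]
    refine α.M0_le ?_ ?_
    · intro v hv
      have h := local_ok
      simp only [localOK, Bool.and_eq_true, List.all_eq_true, List.mem_range, beq_iff_eq] at h
      obtain ⟨⟨⟨⟨⟨⟨-, hspan⟩, -⟩, -⟩, -⟩, -⟩, -⟩ := h
      have hmv : ∀ (L : List ℕ), (∀ x ∈ L, el x ∈ S) → ∀ s, el (mv L s) ∈ S := by
        intro L
        induction L with
        | nil => intro _ s; rw [mv, el_zero]; exact one_mem _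
        | cons x L ih =>
          intro hL s
          simp only [List.forall_mem_cons] at hL
          rw [mv, el_xor]
          exact mul_mem (by split <;> [exact hL.1; (rw [el_zero]; exact one_mem _)]) (ih hL.2 _)
      have hbase : ∀ x ∈ commV, el x ∈ S := by
        intro x hx
        simp only [commV, List.mem_flatMap, List.mem_map, List.mem_range] at hx
        obtain ⟨g, hg, i, hi, rfl⟩ := hx
        obtain ⟨hlt, e⟩ := jw_conj (kGen_spec hg).1 (Nat.pow_lt_pow_right (by norm_num) hi : 2 ^ i < 2 ^ 11)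
        refine ⟨el_M0 _, ?_⟩
        rw [el_xor, ← e]
        exact hcomm _ (kGen_M0 hg) _
      have hpow : ∀ i < 11, el (2 ^ i) ∈ S := fun i hi => (hspan i hi).2 ▸ hmv _ hbase _
      refine (mv_ext (S := S) hpow) v hv
    · intro g hg
      refine ⟨kGen_M0 hg, ?_⟩
      rcases (show g = 0 ∨ g = 1 ∨ g = 2 by omega) with rfl | hg'
      · exact hψ0
      have h := local_ok
      simp only [localOK, Bool.and_eq_true, List.all_eq_true, List.mem_range, beq_iff_eq] at h
      obtain ⟨⟨-, hord⟩, -⟩ := h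
      have h15 : (jw (kGens.getD g [])) ^ 15 = 1 := by
        have hp : wval im ((List.replicate 15 (kGens.getD g [])).flatten) = 1 := by
          refine J4Cert.psi_injective (Equiv.ext fun i => Fin.ext ?_)
          rw [ptW_spec _ (fun l hl => ?_), _root_.map_one, Equiv.Perm.one_apply]
          · obtain rfl | rfl := hg'
            · exact hord 0 (by norm_num) i i.2
            · exact hord 1 (by norm_num) i i.2
          · obtain ⟨w, hw, hl⟩ := List.mem_flatten.mp hl
            rw [List.eq_of_mem_replicate hw] at hl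
            exact (kGen_spec hg).1 l hl
        have hrep : ∀ n, (jw (kGens.getD g [])) ^ n = jw ((List.replicate n (kGens.getD g [])).flatten) := by
          intro n
          induction n with
          | zero => simp [jw, CosetTable.wval]
          | succ n ih => rw [pow_succ', ih, List.replicate_succ, List.flatten_cons, jw_append]
        rw [hrep, jw, hp, _root_.map_one]
      have hψpow : ∀ n, ψ ((jw (kGens.getD g [])) ^ n) = ψ (jw (kGens.getD g [])) ^ n := by
        intro n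
        induction n with
        | zero =>
          have := hψmul 1 (one_mem _) 1 (one_mem _)
          rw [one_mul] at this
          rw [pow_zero, pow_zero]; exact left_eq_mul.mp this
        | succ n ih => rw [pow_succ, pow_succ, hψmul _ (pow_mem (hMX (kGen_M0 hg)) n) _ (hMX (kGen_M0 hg)), ih]
      rcases hψM _ (kGen_M0 hg) with e | e
      · exact e
      · exfalso
        have h1 := hψpow 15
        have hf15 : α.f (jw (kGens.getD g [])) ^ 15 = 1 := by
          have hfp : ∀ n, α.f ((jw (kGens.getD g [])) ^ n) = α.f (jw (kGens.getD g [])) ^ n := by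
            intro n
            induction n with
            | zero => rw [pow_zero, pow_zero, α.map_one]
            | succ n ih => rw [pow_succ, pow_succ, α.map_mul _ (pow_mem (jw_mem _) n) _ (jw_mem _), ih]
          rw [← hfp, h15, α.map_one]
        have hψ1 := hψpow 0
        rw [pow_zero, pow_zero] at hψ1
        rw [h15, hψ1, e, (show Commute (α.f (jw (kGens.getD g []))) z from C.z_comm (α.f_H (kGen_M0 hg))).mul_pow,
          hf15, one_mul, show (15 : ℕ) = 2 * 7 + 1 from rfl, pow_succ, pow_mul, pow_two, C.X.zz, one_pow, one_mul] at h1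
        exact el_ne_one (show v0 < 2048 by decide +kernel) (by decide +kernel)
          (α.inj z0 z0_mem 1 (one_mem _) (by rw [α.map_one, α.f_z0, h1]))
  exact ⟨⟨X, ψ, hψmul, hMX, htX, fun m hm => (hS hm).2, fun x hx => (hψX x hx).1, fun x hx => (hX x hx).2.1,
    fun x hx => (hψX x hx).2⟩⟩
where
  mv_ext {S : Subgroup Spor.J4} (h : ∀ i < 11, el (2 ^ i) ∈ S) : ∀ v < 2048, el v ∈ S := by
    intro v
    induction v using Nat.strong_induction_on with
    | _ v ih =>
      intro hv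
      rcases Nat.eq_zero_or_pos v with rfl | hpos
      · rw [el_zero]; exact one_mem _
      · set k := Nat.log 2 v with hk
        have h1 : 2 ^ k ≤ v := Nat.pow_log_le_self 2 hpos.ne'
        have h2 : v < 2 ^ (k + 1) := Nat.lt_pow_succ_log_self (by norm_num) v
        have hk11 : k < 11 := (Nat.pow_lt_pow_iff_right (by norm_num)).mp (lt_of_le_of_lt h1 hv)
        have hlt : v ^^^ 2 ^ k < 2 ^ k := by
          refine Nat.lt_pow_two_of_testBit _ fun i hi => ?_
          rw [Nat.testBit_xor, Nat.testBit_two_pow]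
          rcases Nat.eq_or_lt_of_le hi with rfl | hi'
          · have : v.testBit k = true := by
              rw [Nat.testBit_eq_decide_div_mod_eq, decide_eq_true_eq]
              have : v / 2 ^ k = 1 := Nat.div_eq_of_lt_le (by omega) (by rw [pow_succ] at h2; omega)
              rw [this]
            simp [this]
          · rw [Nat.testBit_lt_two_pow (lt_of_lt_of_le h2 (Nat.pow_le_pow_right (by norm_num) hi')),
              decide_eq_false (by omega), Bool.false_xor]
        have e : el v = el (v ^^^ 2 ^ k) * el (2 ^ k) := by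
          rw [← el_xor, Nat.xor_assoc, Nat.xor_self, Nat.xor_zero]
        rw [e]
        exact mul_mem (ih _ (by omega) (by omega)) (h k hk11)

end Emb

end Cfsg.Lib.JankoFour.Unique
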