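import Cfsg.Agent.JankoFour.Unique.Coords

/-!
Two ways to change the isomorphism: an inner automorphism of the local stabiliser and the twist of the complement
by a derivation into the elementary abelian subgroup.
-/

set_option autoImplicit false
set_option maxRecDepth 100000
set_option maxHeartbeats 1000000
set_option linter.style.haveILetI false
set_option linter.unusedSectionVars false

namespace Cfsg.Lib.JankoFour.Unique

open Cfsg Subgroup
open Cfsg.Lib.J4Cert (KJ jHom eRows)
open Cfsg.Lib.J4Pres (P im px py tabs psi)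
open Cfsg.Lib.J4Rep (va)
open Cfsg.Lib.CosetTable (wval)
open Cfsg.Lib.PermCert (ap valid perm perm_apply)
open _root_.Cfsg.Lib.JankoFour.Data (W0)
open _root_.Cfsg.Lib.JankoFour.Unique.Data (bA bU dRow v0)

theorem pairC24_lt (a b : ℕ) : pairC24 a b < 2048 := by
  have h := pair_ok
  simp only [pairOK, Bool.and_eq_true, List.all_eq_true, decide_eq_true_eq] at h
  unfold pairC24
  by_cases hl : 24 * a + b < Data.pairC.length
  · rw [List.getD_eq_getElem _ _ hl]; exact h.1.1.1 _ (List.getElem_mem hl)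
  · rw [List.getD_eq_default _ _ (by omega)]; norm_num

theorem psi_im {k : ℕ} (hk : k < 3) (i : Fin 24) : (psi (im k) i : ℕ) = ap (tabs.getD k (0, 0)).1 i := by
  obtain ⟨hv, hp⟩ := Cfsg.Lib.J4Pres.tabs_act k (by simpa [tabs] using hk)
  rw [hp, perm_apply hv]

theorem ptW_spec : ∀ (w : List ℕ), (∀ l ∈ w, l < 3) → ∀ i : Fin 24, (psi (wval im w) i : ℕ) = ptW w i
  | [], _, i => by simp [wval, ptW]
  | k :: w, h, i => by
    simp only [List.forall_mem_cons] at h
    rw [show wval im (k :: w) = im k * wval im w by simp [wval], map_mul, Equiv.Perm.mul_apply, psi_im h.1,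
      ptW_spec w h.2 i, ptW]

theorem pair_conj (p : P) : ∀ a b : Fin 24,
    jHom p * el (pairC24 a b) * (jHom p)⁻¹ = el (pairC24 (psi p a) (psi p b)) := by
  haveI := Cfsg.Lib.J4Pres.bound.1
  have hp : p ∈ Submonoid.closure ({px, py} : Set P) := by
    rw [← Subgroup.closure_toSubmonoid_of_finite, letters_top]; exact Subgroup.mem_top p
  induction hp using Submonoid.closure_induction with
  | mem x hx =>
    intro a b
    obtain ⟨k, hk, rfl⟩ : ∃ k < 2, x = im k := by
      rcases hx with rfl | rfl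
      exacts [⟨0, by norm_num, rfl⟩, ⟨1, by norm_num, rfl⟩]
    have h := pair_ok
    simp only [pairOK, Bool.and_eq_true, List.all_eq_true, List.mem_range, beq_iff_eq] at h
    have e := h.2 k hk a a.2 b b.2
    rw [← psi_im (by omega), ← psi_im (by omega)] at e
    conv_lhs => rw [← e, ← conj_letter (show k < 3 by omega)]
    group
  | one => intro a b; simp
  | mul x y _ _ hx hy =>
    intro a b
    rw [map_mul, map_mul, Equiv.Perm.mul_apply, Equiv.Perm.mul_apply, ← hx, ← hy]
    group

theorem pair_add (b c : Fin 24) : pairC24 (0 : Fin 24) b ^^^ pairC24 b c = pairC24 (0 : Fin 24) c := by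
  have h := pair_ok
  simp only [pairOK, Bool.and_eq_true, List.all_eq_true, List.mem_range, beq_iff_eq] at h
  exact h.1.2 b b.2 c c.2

/-- The derivation. -/
noncomputable def der (p : P) : ℕ := pairC24 (0 : Fin 24) (psi p 0)

theorem der_mul (p q : P) : el (der (p * q)) = el (der p) * (jHom p * el (der q) * (jHom p)⁻¹) := by
  rw [der, der, der, pair_conj, ← el_xor, pair_add, map_mul, Equiv.Perm.mul_apply]

theorem der_one : der 1 = 0 := by
  have h := pair_ok
  simp only [pairOK, Bool.and_eq_true, beq_iff_eq] at h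
  simpa [der] using h.1.1.2

/-- The twisted complement. -/
noncomputable def lTw : P →* Spor.J4 where
  toFun p := el (der p) * jHom p
  map_one' := by rw [der_one, el_zero, map_one, one_mul]
  map_mul' p q := by rw [der_mul, map_mul]; group

theorem exists_twist : ∃ Δ : Spor.J4 → Spor.J4, (∀ x ∈ KJ, Δ x ∈ KJ) ∧
    (∀ x ∈ KJ, ∀ y ∈ KJ, Δ (x * y) = Δ x * Δ y) ∧ (∀ x ∈ KJ, Δ (Δ x) = x) ∧
    (∀ v < 2048, Δ (el v) = el v) ∧ ∀ j < 12, Δ (bG j) = eEz (dRow.getD j (0, false)) := by
  obtain ⟨Δ, hm, hv⟩ := exists_hom el lTw (fun a _ b _ => el_xor a b) fun k hk v hv => by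
    have e := conj_letter (show k < 3 by omega) v
    show (el (der (im k)) * jHom (im k))⁻¹ * el v * (el (der (im k)) * jHom (im k)) = _
    rw [← e, mul_inv_rev, el_inv]
    calc _ = (jHom (im k))⁻¹ * (el (der (im k)) * (el v * el (der (im k)))) * jHom (im k) := by group
      _ = _ := by rw [el_comm v, ← mul_assoc (el _) (el _), el_mul_self, one_mul]
  have hmem : ∀ x ∈ KJ, Δ x ∈ KJ := by
    intro x hx
    obtain ⟨v, hv', p, rfl⟩ := dec hx
    rw [hv v hv' p]
    exact mul_mem (el_mem v) (mul_mem (el_mem _) (j_mem p))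
  have hel : ∀ v < 2048, Δ (el v) = el v := fun v hv' => by
    have h := hv v hv' 1
    rwa [map_one, map_one, mul_one] at h
  refine ⟨Δ, hmem, hm, fun x hx => ?_, hel, fun j hj => ?_⟩
  · obtain ⟨v, hv', p, rfl⟩ := dec hx
    have hd : der p < 2048 := pairC24_lt _ _
    rw [hv v hv' p]
    show Δ (el v * (el (der p) * jHom p)) = _
    rw [← mul_assoc, ← el_xor, hv _ (Nat.xor_lt_two_pow (n := 11) hv' hd) p]
    show el (v ^^^ der p) * (el (der p) * jHom p) = _
    rw [← mul_assoc, ← el_xor, Nat.xor_assoc, Nat.xor_self, Nat.xor_zero]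
  · obtain ⟨hl, hA, -⟩ := basis_spec hj
    have h := twist_ok
    simp only [twistOK, List.all_eq_true, List.mem_range] at h
    refine mok_eq ?_ (eEz_mok _)
    rw [bG, hv _ hA]
    show Cfsg.Lib.J4Cert.MOK (el (bA.getD j 0) * (el (der (wval im (bU.getD j []))) * jHom (wval im (bU.getD j [])))) _
    rw [← mul_assoc, ← el_xor, show der (wval im (bU.getD j [])) = pairC24 0 (ptW (bU.getD j []) 0) by
      rw [der, ptW_spec _ hl]; rfl]
    exact mok_cast ((el_mok _).mul (word_mok hl).1) (h j hj)

universe u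

variable {G : Type u} [Group G] [Finite G] {z : G} {P₀ : Subgroup G}

namespace Emb

variable {C : Ctx z P₀} (α : Emb C)

/-- The composite with conjugation by an element fixing the involution and normalising. -/
noncomputable def conjBy {g : G} (hg : g ∈ C.M) : Emb C where
  f x := g * α.f x * g⁻¹
  map_mul x hx y hy := by rw [α.map_mul x hx y hy]; group
  inj x hx y hy h := α.inj x hx y hy (mul_left_cancel (mul_right_cancel h))
  V_mem v hv := (mem_normalizer_iff.mp (C.M_normalizes hg).1 _).mp (α.V_mem v hv)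
  V_surj u hu := by
    have hn := inv_mem (C.M_normalizes hg).1
    obtain ⟨v, hv, e⟩ := α.V_surj (g⁻¹ * u * g⁻¹⁻¹) ((mem_normalizer_iff.mp hn u).mp hu)
    exact ⟨v, hv, by rw [e]; group⟩
  N_mem x hx := mul_mem (mul_mem (C.M_normalizes hg).1 (α.N_mem x hx)) (inv_mem (C.M_normalizes hg).1)
  N_surj n hn := by
    have hg' := (C.M_normalizes hg).1
    obtain ⟨x, hx, e⟩ := α.N_surj (g⁻¹ * n * g) (mul_mem (mul_mem (inv_mem hg') hn) hg')
    exact ⟨x, hx, by rw [e]; group⟩
  base := by rw [α.base, (C.M_normalizes hg).2]; group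

theorem conjBy_Rl [IsSimpleGroup G] (hG : ¬ IsMulCommutative G) {g : G} (hg : g ∈ C.M) {W : List ℕ}
    (hr : RepBy C.E C.π g W) : (α.conjBy hg).Rl = mm W α.Rl := by
  rw [Rl, Rl, mm, List.map_map]
  refine List.map_congr_left fun j hj => ?_
  exact hr _ (α.bG_E hG (List.mem_range.mp hj))

/-- The composite with the twist. -/
theorem exists_twisted [IsSimpleGroup G] (hG : ¬ IsMulCommutative G) : ∃ β : Emb C, β.Rl = mm α.Rl dMat := by
  obtain ⟨Δ, hmem, hm, hinv, hel, hb⟩ := exists_twist
  refine ⟨{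
    f := fun x => α.f (Δ x)
    map_mul := fun x hx y hy => by rw [hm x hx y hy, α.map_mul _ (hmem x hx) _ (hmem y hy)]
    inj := fun x hx y hy h => by
      rw [← hinv x hx, ← hinv y hy, α.inj _ (hmem x hx) _ (hmem y hy) h]
    V_mem := fun v hv => by rw [hel v hv]; exact α.V_mem v hv
    V_surj := fun u hu => by
      obtain ⟨v, hv, e⟩ := α.V_surj u hu
      exact ⟨v, hv, by rw [hel v hv, e]⟩
    N_mem := fun x hx => α.N_mem _ (hmem x hx)
    N_surj := fun n hn => by
      obtain ⟨x, hx, e⟩ := α.N_surj n hn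
      exact ⟨Δ x, hmem x hx, by rw [hinv x hx, e]⟩
    base := by rw [hel _ (by decide), α.base] }, ?_⟩
  have hlen : dRow.length = 12 := by decide +kernel
  rw [Rl, mm, dMat, List.map_map]
  refine List.ext_getElem (by simp [hlen]) fun j h1 h2 => ?_
  simp only [List.length_map, List.length_range] at h1
  simp only [List.getElem_map, List.getElem_range, Function.comp_apply]
  rw [hb j h1, List.getD_eq_getElem _ _ (hlen ▸ h1)]
  generalize dRow[j] = e
  obtain ⟨hK, hE, hπ⟩ := α.eE_spec hG e.1
  rw [eEz]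
  cases e.2
  · rw [cond_false, mul_one, hπ]
  · rw [cond_true, α.map_mul _ hK _ (el_mem _), α.base, C.π_mul _ hE _ C.X.mem,
      (C.π_zero z C.X.mem).mpr (Or.inr rfl), Nat.xor_zero, hπ]

end Emb

end Cfsg.Lib.JankoFour.Unique
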